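import Cfsg.Agent.Chev.GRD
import Cfsg.Agent.Local.Dihedral

/-!
# The Weyl group of the octagon
-/

set_option autoImplicit false

namespace Cfsg.Lib.Oct.Cx

open Cfsg.Lib.Chev

/-- The Weyl group. -/
abbrev W8 := DihedralGroup 8

/-- The action on the sixteen roots. -/
def act : W8 → ZMod 16 → ZMod 16
  | .r i, k => k + 2 * i.val
  | .sr i, k => 10 - (k + 2 * i.val)

instance actW : MulAction W8 (ZMod 16) where
  smul := act
  one_smul := by decide
  mul_smul := by decide +kernel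

/-- The fundamental reflections. -/
def tW (b : Bool) : W8 := cond b (.sr 1) (.sr 0)

/-- The positive roots. -/
abbrev Po (k : ZMod 16) : Prop := (k - 1).val < 8

/-- The dihedral Coxeter system. -/
def C16 : CoxSys W8 (ZMod 16) Bool where
  t := tW
  Φ := Set.univ
  Pos := Po
  eqv := Eq
  simple b := cond b 8 1
  fin := Set.finite_univ
  smul_mem _ _ _ := trivial
  simple_mem _ := trivial
  gen w := by
    have : ∀ w : W8, ∃ k : Fin 9, ∃ b, wprod tW ((List.range k).map fun i => xor b (i % 2 == 0)) = w := by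
      decide +kernel
    obtain ⟨k, b, h⟩ := this w
    exact ⟨_, h⟩
  t_sq := by decide
  equiv := eq_equivalence
  eqv_smul _ _ _ h := h ▸ rfl
  eqv_pos h := h ▸ id
  pos_simple := by decide
  opp := by decide +kernel
  eqv_simple i r _ := by revert i r; decide +kernel
  eq_one := by decide +kernel
  neg_all w h r _ := by revert w r; decide +kernel
  conj_t := by decide +kernel

/-- The parity. -/
def par (k : ZMod 16) : Bool := k.val % 2 == 0

/-- A rotation taking `4` or `5` to `k`. -/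
def rot (k : ZMod 16) : W8 := .r ((k - 4).val / 2 : ℕ)

theorem rot_key : ∀ (w : W8) (k : ZMod 16), par (w • k) = par k ∧
    (w * rot k = rot (w • k) ∨ w * rot k = rot (w • k) * tW (par k)) := by decide +kernel

theorem fix4 : ∀ w : W8, w • (4 : ZMod 16) = 4 → w = 1 ∨ w = tW true := by decide +kernel

theorem move4 : ∀ w : W8, w • (4 : ZMod 16) = 4 ∨ ∃ v : W8, v • (4 : ZMod 16) = 8 ∧
    (v • w • (4 : ZMod 16) = 0 ∨ v • w • (4 : ZMod 16) = 2 ∨ v • w • (4 : ZMod 16) = 4 ∨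
      v • w • (4 : ZMod 16) = 6) := by decide +kernel

theorem po_cases : ∀ k : ZMod 16, Po k → k = 1 ∨ k = 2 ∨ k = 3 ∨ k = 4 ∨ k = 5 ∨ k = 6 ∨ k = 7 ∨ k = 8 := by
  decide +kernel

set_option synthInstance.maxSize 4096 in
set_option synthInstance.maxHeartbeats 200000 in
theorem pairs : ∀ r s : ZMod 16, r ≠ s → (¬ ∀ w : W8, Po (w • r) ↔ ¬ Po (w • s)) →
    ∃ p ∈ [((4, 5, []) : ZMod 16 × ZMod 16 × List (ZMod 16)), (3, 5, [4]), (4, 6, [5]), (3, 6, [4, 5]),
      (3, 7, [4, 5, 6]), (2, 6, [3, 4, 5]), (2, 7, [3, 4, 5, 6]), (1, 7, [2, 3, 4, 5, 6]),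
      (2, 8, [3, 4, 5, 6, 7]), (1, 8, [2, 3, 4, 5, 6, 7])], ∃ w : W8,
      (w • p.1 = r ∧ w • p.2.1 = s ∨ w • p.1 = s ∧ w • p.2.1 = r) ∧ ∀ k ∈ p.2.2,
        ¬ w • k = r ∧ ¬ w • k = s ∧ ∀ v : W8, (Po (v • r) → Po (v • s) → Po (v • w • k)) ∧
          (¬ Po (v • r) → ¬ Po (v • s) → ¬ Po (v • w • k)) := by
  decide +kernel

end Cfsg.Lib.Oct.Cx
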