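import Cfsg.Agent.Oct.Defs
import Cfsg.Agent.Oct.CoxA

/-!
# The root datum of the octagon
-/

set_option autoImplicit false
set_option linter.unusedSectionVars false
set_option linter.unusedSimpArgs false
set_option maxRecDepth 100000

namespace Cfsg.Lib.Oct.Cx

open Subgroup Function Cfsg.Lib.Trans Cfsg.Lib.Gold Cfsg.Lib.Chev UU

variable {K : Type*} [Field K] [TwF K] {ρ : RK K} {G G' : Type*} [Group G] [Group G']

/-- The letters of `w` belong to the roots in `S`. -/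
def Sp (S : List (ZMod 16)) (w : UU K) : Prop := (w.a1 = 0 ∨ 1 ∈ S) ∧ (w.b2 = 0 ∧ w.a2 = 0 ∨ 2 ∈ S) ∧
  (w.a3 = 0 ∨ 3 ∈ S) ∧ (w.b4 = 0 ∧ w.a4 = 0 ∨ 4 ∈ S) ∧ (w.a5 = 0 ∨ 5 ∈ S) ∧ (w.b6 = 0 ∧ w.a6 = 0 ∨ 6 ∈ S) ∧
  (w.a7 = 0 ∨ 7 ∈ S) ∧ (w.b8 = 0 ∧ w.a8 = 0 ∨ 8 ∈ S)

/-- A commutator relation. -/
def Rl (A B : Subgroup (UU K)) (S : List (ZMod 16)) : Prop := ∀ u ∈ A, ∀ v ∈ B, Sp S (u⁻¹ * v⁻¹ * u * v)

theorem rel : Rl (U4 K) (U5 K) [] ∧ Rl (U3 K) (U5 K) [4] ∧ Rl (U4 K) (U6 K) [5] ∧ Rl (U3 K) (U6 K) [4, 5] ∧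
    Rl (U3 K) (U7 K) [4, 5, 6] ∧ Rl (U2 K) (U6 K) [3, 4, 5] ∧ Rl (U2 K) (U7 K) [3, 4, 5, 6] ∧
    Rl (U1 K) (U7 K) [2, 3, 4, 5, 6] ∧ Rl (U2 K) (U8 K) [3, 4, 5, 6, 7] ∧
    Rl (U1 K) (U8 K) [2, 3, 4, 5, 6, 7] := by
  refine ⟨?_, ?_, ?_, ?_, ?_, ?_, ?_, ?_, ?_, ?_⟩ <;> intro u hu v hv
  on_goal 1 => rw [eq_of_mem_U4 hu, eq_of_mem_U5 hv]
  on_goal 2 => rw [eq_of_mem_U3 hu, eq_of_mem_U5 hv]
  on_goal 3 => rw [eq_of_mem_U4 hu, eq_of_mem_U6 hv]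
  on_goal 4 => rw [eq_of_mem_U3 hu, eq_of_mem_U6 hv]
  on_goal 5 => rw [eq_of_mem_U3 hu, eq_of_mem_U7 hv]
  on_goal 6 => rw [eq_of_mem_U2 hu, eq_of_mem_U6 hv]
  on_goal 7 => rw [eq_of_mem_U2 hu, eq_of_mem_U7 hv]
  on_goal 8 => rw [eq_of_mem_U1 hu, eq_of_mem_U7 hv]
  on_goal 9 => rw [eq_of_mem_U2 hu, eq_of_mem_U8 hv]
  on_goal 10 => rw [eq_of_mem_U1 hu, eq_of_mem_U8 hv]
  all_goals
    simp +decide only [Sp, or_false, or_true, true_and, and_true]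
    uus
    grind

/-- The subgroup on two letters. -/
def On (A : Subgroup (UU K)) (y x : K → UU K) : Prop := ∀ u, u ∈ A ↔ ∃ s t, u = y s * x t

theorem on1 : On (U1 K) x1 x1 := fun u =>
  ⟨fun h => ⟨u.a1, 0, by simpa using eq_of_mem_U1 h⟩, by rintro ⟨s, t, rfl⟩; simp⟩
theorem on2 : On (U2 K) y2 x2 := fun u => ⟨fun h => ⟨_, _, eq_of_mem_U2 h⟩, by rintro ⟨s, t, rfl⟩; simp⟩
theorem on3 : On (U3 K) x3 x3 := fun u =>
  ⟨fun h => ⟨u.a3, 0, by simpa using eq_of_mem_U3 h⟩, by rintro ⟨s, t, rfl⟩; simp⟩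
theorem on4 : On (U4 K) y4 x4 := fun u => ⟨fun h => ⟨_, _, eq_of_mem_U4 h⟩, by rintro ⟨s, t, rfl⟩; simp⟩
theorem on5 : On (U5 K) x5 x5 := fun u =>
  ⟨fun h => ⟨u.a5, 0, by simpa using eq_of_mem_U5 h⟩, by rintro ⟨s, t, rfl⟩; simp⟩
theorem on6 : On (U6 K) y6 x6 := fun u => ⟨fun h => ⟨_, _, eq_of_mem_U6 h⟩, by rintro ⟨s, t, rfl⟩; simp⟩
theorem on7 : On (U7 K) x7 x7 := fun u =>
  ⟨fun h => ⟨u.a7, 0, by simpa using eq_of_mem_U7 h⟩, by rintro ⟨s, t, rfl⟩; simp⟩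
theorem on8 : On (U8 K) y8 x8 := fun u => ⟨fun h => ⟨_, _, eq_of_mem_U8 h⟩, by rintro ⟨s, t, rfl⟩; simp⟩

theorem On.cj {A B : Subgroup (UU K)} {y x y' x' : K → UU K} (hA : On A y x) (hB : On B y' x')
    {ι : UU K →* G} {g : G} (e1 : ∀ t, g * ι (y t) * g⁻¹ = ι (y' t)) (e2 : ∀ t, g * ι (x t) * g⁻¹ = ι (x' t)) :
    cj g (A.map ι) = B.map ι := by
  have e : ∀ s t, g * ι (y s * x t) * g⁻¹ = ι (y' s * x' t) := fun s t => by
    rw [map_mul, map_mul, ← e1, ← e2, conj_mul]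
  refine le_antisymm (cj_le_iff.2 ?_) ?_ <;> rintro _ ⟨u, hu, rfl⟩
  · obtain ⟨s, t, rfl⟩ := (hA u).1 hu
    exact ⟨_, (hB _).2 ⟨s, t, rfl⟩, (e s t).symm⟩
  · obtain ⟨s, t, rfl⟩ := (hB u).1 hu
    exact e s t ▸ conj_mem_cj.2 ⟨_, (hA _).2 ⟨s, t, rfl⟩, rfl⟩

theorem ns_of_sq {g : G} {T : Subgroup G} (h : g * g = 1) (h1 : ∀ x ∈ T, g * x * g⁻¹ ∈ T) : g ∈ Ns T :=
  mem_normalizer_iff.2 fun x => ⟨h1 x, fun hx => by
    have := h1 _ hx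
    rwa [show g * (g * x * g⁻¹) * g⁻¹ = g * g * x * (g * g)⁻¹ by group, h, one_mul, inv_one, mul_one] at this⟩

variable (O : Oc ρ G)

/-- The torus. -/
abbrev T : Subgroup G := O.η.range

/-- The representatives of the Weyl group. -/
def φ : W8 →* G := Local.dihedralHom O.mm (Local.dih_inverts O.mm O.nn) O.r8

theorem φ_m : φ O (tW false) = O.m := by
  change O.m * (O.m * O.n) ^ (0 : ℤ) = _
  simp

theorem φ_n : φ O (tW true) = O.n := by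
  change O.m * (O.m * O.n) ^ (1 : ℤ) = _
  rw [zpow_one, ← mul_assoc, O.mm, one_mul]

theorem φ_mem {H : Subgroup G} (hm : O.m ∈ H) (hn : O.n ∈ H) : ∀ w, φ O w ∈ H
  | .r _ => zpow_mem (mul_mem hm hn) _
  | .sr _ => mul_mem hm (zpow_mem (mul_mem hm hn) _)

theorem h_mem (β : Kˣ) : O.h β ∈ T O := ⟨_, (O.hη β).symm⟩

theorem φ_norm (w : W8) : φ O w ∈ Ns (T O) := by
  refine φ_mem O (ns_of_sq O.mm ?_) (ns_of_sq O.nn ?_) w <;> rintro _ ⟨t, rfl⟩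
  · exact ⟨_, (O.mη t).symm⟩
  · have e : O.n * O.η t * O.n⁻¹ = O.η t * (O.η t⁻¹ * O.n * (O.η t⁻¹)⁻¹) * O.n⁻¹ := by
      rw [map_inv]; group
    rw [e, O.ηn, mul_assoc, mul_inv_cancel_right]
    exact mul_mem ⟨t, rfl⟩ (h_mem O _)

/-- Two root groups. -/
def X₀ (b : Bool) : Subgroup G := (cond b (U4 K) (U5 K)).map O.ι

/-- The root groups. -/
def X (k : ZMod 16) : Subgroup G := cj (φ O (rot k)) (X₀ O (par k))

theorem cj_X (w : W8) (k : ZMod 16) : cj (φ O w) (X O k) = X O (w • k) := by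
  have h : ∀ b, cj (φ O (tW b)) (X₀ O b) = X₀ O b := fun b => by
    cases b
    · rw [φ_m]; exact on5.cj on5 O.mx5 O.mx5
    · rw [φ_n]; exact on4.cj on4 O.ny4 O.nx4
  rw [X, X, cj_cj, ← map_mul, (rot_key w k).1]
  rcases (rot_key w k).2 with e | e <;> rw [e]
  rw [map_mul, cj_mul, h]

theorem T_norm (k : ZMod 16) : T O ≤ Ns (X O k) := fun g hg => by
  rw [X, Ns, ← cj_normalizer, mem_cj]
  refine le_normalizer_of_conj_mem (A := T O) ?_ (mem_normalizer_conj' (φ_norm O _) hg)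
  rintro _ ⟨t, rfl⟩ _ ⟨u, hu, rfl⟩
  refine ⟨_, ?_, (O.ηι t u).symm⟩
  revert hu
  cases par k <;> simp +contextual

theorem X4 : X O 4 = (U4 K).map O.ι := by rw [X, show rot 4 = 1 from rfl, map_one, cj_one]; rfl
theorem X5 : X O 5 = (U5 K).map O.ι := by rw [X, show rot 5 = 1 from rfl, map_one, cj_one]; rfl
theorem cj_m (k : ZMod 16) : cj O.m (X O k) = X O (10 - k) := by
  rw [← φ_m, cj_X]; congr 1; revert k; decide
theorem cj_n (k : ZMod 16) : cj O.n (X O k) = X O (8 - k) := by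
  rw [← φ_n, cj_X]; congr 1; revert k; decide
theorem X6 : X O 6 = (U6 K).map O.ι :=
  cj_injective _ ((cj_m O 6).trans ((X4 O).trans (on6.cj on4 O.my6 O.mx6).symm))
theorem X3 : X O 3 = (U3 K).map O.ι :=
  cj_injective _ ((cj_n O 3).trans ((X5 O).trans (on3.cj on5 O.nx3 O.nx3).symm))
theorem X2 : X O 2 = (U2 K).map O.ι :=
  cj_injective _ ((cj_n O 2).trans ((X6 O).trans (on2.cj on6 O.ny2 O.nx2).symm))
theorem X7 : X O 7 = (U7 K).map O.ι :=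
  cj_injective _ ((cj_m O 7).trans ((X3 O).trans (on7.cj on3 O.mx7 O.mx7).symm))
theorem X8 : X O 8 = (U8 K).map O.ι :=
  cj_injective _ ((cj_m O 8).trans ((X2 O).trans (on8.cj on2 O.my8 O.mx8).symm))
theorem X1 : X O 1 = (U1 K).map O.ι :=
  cj_injective _ ((cj_n O 1).trans ((X7 O).trans (on1.cj on7 O.nx1 O.nx1).symm))
theorem X0 : X O 0 = cj O.n ((U8 K).map O.ι) := by rw [← X8, cj_n]; rfl
theorem X9 : X O 9 = cj O.m ((U1 K).map O.ι) := by rw [← X1, cj_m]; rfl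

theorem mem_span {S : List (ZMod 16)} {w : UU K} (h : Sp S w) : O.ι w ∈ spanX (X O) {k | k ∈ S} := by
  have k : ∀ {j : ZMod 16} {A : Subgroup (UU K)} {y x : K → UU K}, X O j = A.map O.ι → On A y x → y 0 = 1 →
      x 0 = 1 → ∀ {s t : K}, (s = 0 ∧ t = 0 ∨ j ∈ S) → y s ∈ (spanX (X O) {k | k ∈ S}).comap O.ι ∧
        x t ∈ (spanX (X O) {k | k ∈ S}).comap O.ι := by
    rintro j A y x e hA y0 x0 s t (⟨rfl, rfl⟩ | h)
    · rw [y0, x0]; exact ⟨one_mem _, one_mem _⟩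
    · have := (le_spanX (T := {k | k ∈ S}) (X O) h).trans' e.ge
      exact ⟨this ⟨_, (hA _).2 ⟨s, 0, by rw [x0, mul_one]⟩, rfl⟩,
        this ⟨_, (hA _).2 ⟨0, t, by rw [y0, one_mul]⟩, rfl⟩⟩
  obtain ⟨h1, h2, h3, h4, h5, h6, h7, h8⟩ := h
  have h1 := (k (X1 O) on1 rfl rfl (h1.imp_left and_self_iff.2)).1
  have h2 := k (X2 O) on2 rfl rfl h2
  have h3 := (k (X3 O) on3 rfl rfl (h3.imp_left and_self_iff.2)).1
  have h4 := k (X4 O) on4 rfl rfl h4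
  have h5 := (k (X5 O) on5 rfl rfl (h5.imp_left and_self_iff.2)).1
  have h6 := k (X6 O) on6 rfl rfl h6
  have h7 := (k (X7 O) on7 rfl rfl (h7.imp_left and_self_iff.2)).1
  have h8 := k (X8 O) on8 rfl rfl h8
  rw [← mem_comap, nf w]
  exact mul_mem (mul_mem (mul_mem (mul_mem (mul_mem (mul_mem (mul_mem (mul_mem (mul_mem (mul_mem (mul_mem
    h1 h8.1) h2.1) h8.2) h6.1) h4.1) h7) h2.2) h3) h5) h6.2) h4.2

theorem comm : C16.Comm (X O) := fun r _ s _ h1 h2 a ha c hc => by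
  obtain ⟨p, hp, w, h3, h4⟩ := pairs r s h1 h2
  have h5 : ∀ a ∈ X O p.1, ∀ c ∈ X O p.2.1, a⁻¹ * c⁻¹ * a * c ∈ spanX (X O) {k | k ∈ p.2.2} := by
    have k : ∀ {i j A B S}, X O i = A.map O.ι → X O j = B.map O.ι → Rl A B S →
        ∀ a ∈ X O i, ∀ c ∈ X O j, a⁻¹ * c⁻¹ * a * c ∈ spanX (X O) {k | k ∈ S} := fun e e' h => by
      rw [e, e']
      rintro _ ⟨u, hu, rfl⟩ _ ⟨v, hv, rfl⟩
      simpa using mem_span O (h u hu v hv)
    obtain ⟨r1, r2, r3, r4, r5, r6, r7, r8, r9, r10⟩ := rel (K := K)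
    simp only [List.mem_cons, List.not_mem_nil, or_false] at hp
    rcases hp with rfl | rfl | rfl | rfl | rfl | rfl | rfl | rfl | rfl | rfl
    exacts [k (X4 O) (X5 O) r1, k (X3 O) (X5 O) r2, k (X4 O) (X6 O) r3, k (X3 O) (X6 O) r4,
      k (X3 O) (X7 O) r5, k (X2 O) (X6 O) r6, k (X2 O) (X7 O) r7, k (X1 O) (X7 O) r8, k (X2 O) (X8 O) r9,
      k (X1 O) (X8 O) r10]
  have h6 : ∀ a ∈ X O (w • p.1), ∀ c ∈ X O (w • p.2.1), a⁻¹ * c⁻¹ * a * c ∈ spanX (X O) (C16.cone r s) := by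
    intro a ha c hc
    rw [← cj_X, mem_cj] at ha hc
    convert conj_mem_of_spanX (g := φ O w) (fun k hk x hx => mem_spanX (T := C16.cone r s) (r := w • k)
      (X O) ⟨trivial, h4 k hk⟩ (by rw [← cj_X]; exact conj_mem_cj.2 hx)) (h5 _ ha _ hc) using 1
    group
  rcases h3 with ⟨rfl, rfl⟩ | ⟨rfl, rfl⟩
  exacts [h6 a ha c hc, comm_mem_symm (h6 c hc a ha)]

theorem mxm (O : Oa ρ G) : O.m * O.ι (x1 1) * O.m⁻¹ = O.ι (x1 1) * O.m * O.ι (x1 1) := by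
  have h := O.br
  have h1 : O.ι (x1 1) * O.ι (x1 1) = 1 := by rw [← map_mul, x1_sq, map_one]
  rw [O.m_inv, ← mul_inv_eq_one, mul_inv_rev, mul_inv_rev, O.m_inv, inv_eq_of_mul_eq_one_right h1, ← h]
  simp [pow_succ, mul_assoc]

/-- The root datum. -/
def grd : GRD C16 G where
  X := X O
  Lifts g w := (φ O w)⁻¹ * g ∈ T O
  X_le _ _ _ h := h ▸ le_rfl
  comm := comm O
  lifts_one := by simp
  lifts_mul {g g' w w'} h h' := by
    convert mul_mem (mem_normalizer_conj' (φ_norm O w') h) h' using 1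
    rw [map_mul]; group
  lifts_inv {g w} h := by
    convert mem_normalizer_conj (φ_norm O w) (inv_mem h) using 1
    rw [map_inv]; group
  conj {g w r a} h _ ha := by
    rw [← cj_X, mem_cj]
    convert mem_normalizer_conj (T_norm O r h) ha using 1
    group
  nontriv i := by
    cases i
    · exact ⟨_, (X9 O).ge (conj_mem_cj.2 ⟨x1 1, by simp, rfl⟩), fun e => by
        simp [map_eq_one_iff _ O.inj] at e⟩
    · exact ⟨_, (X0 O).ge (conj_mem_cj.2 ⟨x8 1, by simp, rfl⟩), fun e => by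
        simp [map_eq_one_iff _ O.inj] at e⟩
  rank_one i a ha h1 := by
    cases i
    · obtain ⟨_, ⟨u, hu, rfl⟩, rfl⟩ := (X9 O).le ha
      obtain ⟨t, rfl⟩ : ∃ t : Kˣ, u = x1 ((t⁻¹ : Kˣ) : K) := ⟨(Units.mk0 u.a1 fun e => h1 (by
        rw [eq_of_mem_U1 hu, e]; simp))⁻¹, eq_of_mem_U1 hu⟩
      have h2 : O.ι (x1 t) ∈ X O 1 := (X1 O).ge ⟨_, by simp, rfl⟩
      refine ⟨_, h2, O.η (t, 1) * O.m * (O.η (t, 1))⁻¹, ?_, _, h2, ?_⟩
      · change (φ O (tW false))⁻¹ * _ ∈ _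
        rw [← mul_assoc, ← mul_assoc, ← φ_m]
        exact mul_mem (mem_normalizer_conj' (φ_norm O _) ⟨_, rfl⟩) (inv_mem ⟨_, rfl⟩)
      · have e1 := O.ηι (t, 1) (x1 1)
        have e2 := O.ηι (t⁻¹, t * 1) (x1 1)
        rw [tor_x1, mul_one] at e1
        rw [tor_x1, mul_one (_ : K), ← O.mη (t, 1), O.m_inv] at e2
        change O.m * O.ι _ * O.m⁻¹ = _
        rw [← e1, ← e2, conj_mul, conj_mul, ← mxm, mul_inv_rev, mul_inv_rev, O.m_inv]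
        simp only [mul_assoc, ← mul_assoc O.m O.m, O.mm, one_mul, mul_one]
    · obtain ⟨_, ⟨u, hu, rfl⟩, rfl⟩ := (X0 O).le ha
      obtain ⟨h2, h3, e⟩ := O.rk u hu fun e => h1 (by simp [e])
      refine ⟨_, (X8 O).ge ⟨_, h2, rfl⟩, O.h (ρ u).2.1 * O.n, ?_, _, (X8 O).ge ⟨_, h3, rfl⟩,
        e.trans (by group)⟩
      change (φ O (tW true))⁻¹ * _ ∈ _
      rw [← mul_assoc, ← φ_n]
      exact mem_normalizer_conj' (φ_norm O _) (h_mem O _)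

theorem U_eq : (grd O).U = O.S := by
  refine le_antisymm (spanX_le_iff.2 fun k hk => ?_) ?_
  · change X O k ≤ _
    rcases po_cases k hk.2 with rfl | rfl | rfl | rfl | rfl | rfl | rfl | rfl <;>
      simp only [X1, X2, X3, X4, X5, X6, X7, X8, map_le_range]
  · rintro _ ⟨u, rfl⟩
    refine spanX_mono (X O) (fun k hk => ?_) (mem_span O (S := [1, 2, 3, 4, 5, 6, 7, 8]) (by simp [Sp]))
    exact ⟨trivial, (by decide : ∀ k ∈ [1, 2, 3, 4, 5, 6, 7, 8], Po k) k hk⟩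

theorem bruhat {g : G} (hg : g ∈ O.GG) : ∃ u w t v, g = O.ι u * (φ O w * O.η t) * O.ι v := by
  have k : ∀ i, φ O (tW i) ∈ spanX (X O) Set.univ ⊔ (grd O).H := fun i => by
    obtain ⟨m, h1, h2⟩ := (grd O).exists_n i
    have h3 : (grd O).L i ≤ spanX (X O) Set.univ := sup_le (le_spanX _ trivial) (le_spanX _ trivial)
    have h4 := (grd O).lifts_mul ((grd O).lifts_inv h2) (show (φ O (tW i))⁻¹ * φ O (tW i) ∈ T O by simp)
    erw [inv_mul_cancel] at h4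
    simpa using mul_mem_sup (h3 h1) (show _ ∈ (grd O).H from h4)
  have h1 : O.C ≤ spanX (X O) Set.univ ⊔ (grd O).H := O.C_le
    (fun u => mem_sup_left (spanX_mono _ (fun _ _ => trivial) ((U_eq O).ge ⟨u, rfl⟩)))
    (fun β => mem_sup_right (show _ ∈ T O by simpa using h_mem O β)) (φ_n O ▸ k true)
  obtain ⟨_, hu, m, w, ⟨t, ht⟩, _, hv, rfl⟩ := GRD.bruhat (Y := grd O)
    (sup_le h1 (cj_le_of_mem_of_le (φ_m O ▸ k false) h1) hg)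
  obtain ⟨u, rfl⟩ := (U_eq O).le hu
  obtain ⟨v, rfl⟩ := (U_eq O).le hv
  exact ⟨u, w, t, v, by rw [ht, mul_inv_cancel_left]⟩

end Cfsg.Lib.Oct.Cx
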