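import Cfsg.Agent.Oct.LcA
import Cfsg.Agent.Oct.CoxB

/-!
# Consequences of the Bruhat decomposition in the octagon group
-/

set_option autoImplicit false
set_option linter.unusedSectionVars false
set_option maxRecDepth 100000

namespace Cfsg.Lib.Oct

open Subgroup Function Cfsg.Lib.Trans Cfsg.Lib.Gold Cfsg.Lib.Chev UU

variable {K : Type*} [Field K] [TwF K] {ρ : RK K} {G G' : Type*} [Group G] [Group G']

namespace Cx

variable (O : Oc ρ G)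

theorem conj_X (w : W8) (t : Kˣ × Kˣ) {k : ZMod 16} {a : G} (ha : a ∈ X O k) :
    φ O w * O.η t * a * (φ O w * O.η t)⁻¹ ∈ X O (w • k) :=
  (grd O).conj (show _ ∈ T O by simp) trivial ha

theorem eq_one0 {a : G} (h : a ∈ X O 0) (h1 : a ∈ O.S) : a = 1 := by
  obtain ⟨_, ⟨v, hv, rfl⟩, rfl⟩ := (X0 O).le h
  obtain ⟨u, e⟩ := h1
  simp [O.conj_not_mem hv (by rw [show O.n * O.ι v * O.n⁻¹ = O.ι u from e.symm]; exact O.ι_B u)]

theorem fix_of {w : W8} {a : G} (h : a ∈ X O 4) (h1 : a ∈ X O (w • 4)) (a1 : a ≠ 1) : w = 1 ∨ w = tW true := by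
  refine fix4 w ((move4 w).resolve_right fun ⟨v, e, e'⟩ => a1 ((conj_eq_one_iff (a := φ O v)).1 ?_))
  have h2 := (cj_X O v _).le (conj_mem_cj.2 h)
  have h3 := (cj_X O v _).le (conj_mem_cj.2 h1)
  rw [e, X8] at h2
  obtain ⟨u, hu, e1⟩ := h2
  rw [← e1] at h3 ⊢
  rcases e' with e' | e' | e' | e' <;> rw [e'] at h3
  · exact eq_one0 O h3 ⟨u, rfl⟩
  all_goals
    simp only [X2, X4, X6, Lc.ι_mem_map] at h3
    rw [eq_of_mem_U8 hu]
    simp_all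

theorem x4_mem (c : K) : O.ι (x4 c) ∈ X O 4 := (X4 O).ge ⟨_, by simp, rfl⟩

theorem eq_one_of_norm {w : W8} {t : Kˣ × Kˣ} (h : φ O w * O.η t ∈ Ns O.S) : w = 1 := by
  have k : ∀ {a : G}, φ O w * O.η t * a * (φ O w * O.η t)⁻¹ = 1 → a = 1 := conj_eq_one_iff.1
  obtain ⟨u, e⟩ := mem_normalizer_conj h ⟨x4 1, rfl⟩
  have h1 : u ∈ UU.Z K := mem_Z_of_comm fun v _ => O.inj (by
    obtain ⟨y, e'⟩ := mem_normalizer_conj' h ⟨v, rfl⟩
    rw [map_mul, map_mul, e, show O.ι v = φ O w * O.η t * O.ι y * (φ O w * O.η t)⁻¹ by rw [e']; group,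
      conj_mul, conj_mul, ← map_mul, x4_comm, map_mul])
  refine (fix_of O (a := O.ι u) (by rw [eq_of_mem_Z h1]; exact x4_mem O _)
    (e ▸ conj_X O w t (x4_mem O 1)) fun e' => ?_).resolve_right ?_
  · simpa [map_eq_one_iff _ O.inj] using k (e.symm.trans e')
  · rintro rfl
    have h2 := conj_X O (tW true) t ((X8 O).ge ⟨x8 1, by simp, rfl⟩)
    rw [show tW true • (8 : ZMod 16) = 0 by decide] at h2
    simpa [map_eq_one_iff _ O.inj] using k (eq_one0 O h2 (mem_normalizer_conj h ⟨_, rfl⟩))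

theorem η_eq_one (O : Lt ρ G) {t : Kˣ × Kˣ} (h : O.η t ∈ O.S) : t = 1 := by
  obtain ⟨v, e⟩ := h
  have k : ∀ u, tor (t.1 : K) (t.2 : K) u = v * u * v⁻¹ := fun u => O.inj (by
    rw [← O.ηι, ← e, map_mul, map_mul, map_inv])
  have h1 := congrArg a1 (k (x1 1))
  have h2 := congrArg b8 (k (y8 1))
  simp only [tor_a1, tor_b8] at h1 h2
  uus at h1 h2
  rw [add_assoc, CharTwo.add_self_eq_zero, add_zero] at h1 h2
  exact Prod.ext (Units.ext h1) (Units.ext h2)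

theorem strip {u v : UU K} {m : G} {H : Subgroup G} (h1 : O.S ≤ H) (h : O.ι u * m * O.ι v ∈ H) : m ∈ H :=
  (mul_mem_cancel_left (h1 ⟨u, rfl⟩)).1 ((mul_mem_cancel_right (h1 ⟨v, rfl⟩)).1 h)

/-- Homomorphisms. -/
structure Hom (O' : Oc ρ G') (π : G →* G') : Prop where
  ι : ∀ u, π (O.ι u) = O'.ι u
  η : ∀ t, π (O.η t) = O'.η t
  m : π O.m = O'.m
  n : π O.n = O'.n

variable {O} {O' : Oc ρ G'} {π : G →* G'}

theorem Hom.φ (h : Hom O O' π) : ∀ w, π (φ O w) = φ O' w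
  | .r i => by
    change π ((O.m * O.n) ^ (i.cast : ℤ)) = (O'.m * O'.n) ^ (i.cast : ℤ)
    rw [map_zpow, map_mul, h.m, h.n]
  | .sr i => by
    change π (O.m * (O.m * O.n) ^ (i.cast : ℤ)) = O'.m * (O'.m * O'.n) ^ (i.cast : ℤ)
    rw [map_mul, map_zpow, map_mul, h.m, h.n]

theorem Hom.map_GG (h : Hom O O' π) : O.GG.map π = O'.GG := by
  have e : O.C.map π = O'.C := by
    simp only [Lc.C, Subgroup.map_sup, MonoidHom.map_range, MonoidHom.map_zpowers, h.n]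
    congr 3 <;> ext x
    exacts [h.ι x, by rw [MonoidHom.comp_apply, O.hη, O'.hη, h.η]]
  rw [Oa.GG, Subgroup.map_sup, map_cj, e, h.m]; rfl

theorem Hom.eq_one (h : Hom O O' π) {g : G} (hg : g ∈ O.GG) (e : π g = 1) : g = 1 := by
  obtain ⟨u, w, t, v, rfl⟩ := bruhat O hg
  rw [map_mul, map_mul, map_mul, h.ι, h.ι, h.η, h.φ] at e
  have h1 := strip O' le_rfl (e ▸ one_mem _)
  obtain rfl := eq_one_of_norm O' (le_normalizer h1)
  obtain rfl := η_eq_one O'.toLt (by simpa using h1)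
  simp only [map_one, mul_one, ← map_mul, map_eq_one_iff _ O'.inj] at e ⊢
  rw [e, map_one]

theorem Hom.iso (h : Hom O O' π) : ∃ e : O.GG ≃* O'.GG, ∀ g, (e g : G') = π g :=
  ⟨MulEquiv.ofBijective ((π.comp O.GG.subtype).codRestrict O'.GG fun g => h.map_GG.le ⟨g, g.2, rfl⟩)
    ⟨(injective_iff_map_eq_one _).2 fun g e => Subtype.ext (h.eq_one g.2 (congrArg Subtype.val e)), fun g => by
      obtain ⟨a, ha, e⟩ := h.map_GG.ge g.2
      exact ⟨⟨a, ha⟩, Subtype.ext e⟩⟩, fun _ => rfl⟩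

end Cx

open Cx

variable [Finite K]

theorem Oa.η_mem (O : Oa ρ G) (t : Kˣ × Kˣ) : O.η t ∈ O.GG := by
  obtain ⟨d, hd⟩ := exists_N1 (t.1 : K)
  obtain ⟨δ, rfl⟩ : ∃ δ : Kˣ, ↑δ = d := ⟨Units.mk0 d fun e => t.1.ne_zero (by rw [← hd, e, zero_mul]), rfl⟩
  let β := t.2 * δ * σu (t.2 * δ)
  have e : t = jL β * ((jL (δ * β)).1⁻¹, (jL (δ * β)).1 * (jL (δ * β)).2) := by
    have := t.2.ne_zero
    have := δ.ne_zero
    have := σ_ne_zero t.2
    have := σ_ne_zero δ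
    ext
    · simp [β, ← hd]; field_simp
    · simp [β]; field_simp
  rw [e, map_mul, ← O.mη, ← O.hη, ← O.hη]
  exact mul_mem_sup (O.h_mem _) (conj_mem_cj.2 (O.h_mem _))

theorem Oa.m_mem (O : Oa ρ G) : O.m ∈ O.GG := by
  have h1 : O.ι (x1 1) ∈ O.GG := mem_sup_left (O.ι_mem _)
  have h2 : O.m * O.ι (x1 1) * O.m⁻¹ ∈ O.GG := mem_sup_right (conj_mem_cj.2 (O.ι_mem _))
  rwa [mxm, mul_mem_cancel_right h1, mul_mem_cancel_left h1] at h2

theorem Oc.iso (O : Oc ρ G) (O' : Oc ρ G') :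
    ∃ e : O.GG ≃* O'.GG, ∀ u (h : O.ι u ∈ O.GG), (e ⟨_, h⟩ : G') = O'.ι u := by
  obtain ⟨e1, h1⟩ := Hom.iso (O := O.prod O') (O' := O) (π := .fst G G') ⟨fun _ => rfl, fun _ => rfl, rfl, rfl⟩
  obtain ⟨e2, h2⟩ := Hom.iso (O := O.prod O') (O' := O') (π := .snd G G') ⟨fun _ => rfl, fun _ => rfl, rfl, rfl⟩
  refine ⟨e1.symm.trans e2, fun u h => ?_⟩
  rw [show (⟨_, h⟩ : O.GG) = e1 ⟨_, mem_sup_left ((O.prod O').ι_mem u)⟩ from
    Subtype.ext (by rw [h1]; rfl),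
    MulEquiv.trans_apply, MulEquiv.symm_apply_apply, h2]
  rfl

theorem Oc.cent (O : Oc ρ G) {z g : G} (hz : z ∈ O.Z) (h1 : z ≠ 1) (hg : g ∈ O.GG) (h : Commute g z) :
    g ∈ O.C := by
  obtain ⟨u, w, t, v, rfl⟩ := bruhat O hg
  have hC : O.C ≤ C1 z := fun c hc => mem_centralizer_singleton_iff.2 (O.C_le_CZ hc z hz).symm
  have h2 := strip O (O.S_le.trans hC) (mem_centralizer_singleton_iff.2 h)
  obtain ⟨y, hy, rfl⟩ := hz
  rw [eq_of_mem_Z hy] at h1 h2 hC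
  have h3 := conj_X O w t (x4_mem O y.a4)
  rw [mem_centralizer_singleton_iff.1 h2, mul_inv_cancel_right] at h3
  have h4 : φ O w ∈ O.C := by
    rcases fix_of O (x4_mem O _) h3 h1 with rfl | rfl
    exacts [map_one (φ O) ▸ one_mem _, φ_n O ▸ O.n_mem]
  refine mul_mem (mul_mem (O.ι_mem u) (mul_mem h4 ?_)) (O.ι_mem v)
  have h5 := O.ηι t (x4 y.a4)
  rw [mem_centralizer_singleton_iff.1 ((mul_mem_cancel_left (hC h4)).1 h2), mul_inv_cancel_right, tor_x4,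
    O.inj.eq_iff, x4_inj, right_eq_mul₀ fun e => h1 (by simp [e])] at h5
  obtain ⟨b, hb⟩ := exists_σ (t.2 : K)
  obtain ⟨β, rfl⟩ : ∃ β : Kˣ, ↑β = b := ⟨Units.mk0 b fun e => t.2.ne_zero (by rw [← hb, e, map_zero]), rfl⟩
  have h6 : (t.1 : K) * (β * σ (β : K)) = 1 := eq_one_of_N2 (by
    rw [← hb] at h5
    simp only [map_mul, σσ] at h5 ⊢
    linear_combination h5)
  rw [show t = jL β from Prod.ext (Units.ext (by
    rw [jL_fst, ← mul_inv]; exact eq_inv_of_mul_eq_one_left h6)) (Units.ext hb.symm), ← O.hη]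
  exact O.h_mem β

theorem Oc.syl [Finite G] (O : Oc ρ G) : IsSylowIn 2 O.S O.GG := by
  refine isSylowIn_of_maximal (O.S_le.trans le_sup_left) O.S_two fun P hP h1 h2 => by_contra fun hn => ?_
  obtain ⟨g, ⟨h3, h4⟩, h5⟩ := SetLike.exists_of_lt (lt_inf_normalizer hP (lt_of_le_not_ge h1 hn))
  obtain ⟨u, w, t, v, rfl⟩ := bruhat O (h2 h3)
  obtain rfl := eq_one_of_norm O (strip O le_normalizer h4)
  obtain ⟨k, hk⟩ := hP ⟨_, strip O h1 h3⟩
  have h6 : t ^ 2 ^ k = 1 := η_eq_one O.toLt (by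
    rw [map_pow, show O.η t ^ 2 ^ k = 1 by simpa using congrArg Subtype.val hk]; exact one_mem _)
  obtain rfl : t = 1 := Prod.ext (unit_eq_one (congrArg Prod.fst h6)) (unit_eq_one (congrArg Prod.snd h6))
  exact h5 ⟨u * v, by simp⟩

end Cfsg.Lib.Oct
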