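import Cfsg.Agent.Oct.ModC
import Cfsg.Agent.Oct.Cox
import Cfsg.Agent.Chev.AutTw
import Cfsg.Prelude.Def_LieTwisted

/-!
# The group ²F₄(q) has the structure of the octagon
-/

set_option autoImplicit false
set_option linter.unusedSectionVars false
set_option maxRecDepth 100000

namespace Cfsg.Lib.Oct

open Subgroup Function Cfsg.Lib.Trans Cfsg.Lib.Gold UU

namespace Md

open Cfsg.Lie Cfsg.Lib.Chev Cfsg.Lib.Chev.Core

variable {K : Type*} [Field K] [TwF K]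

/-- Restriction to a subgroup. -/
def res [Finite K] {ρ : RK K} {G : Type*} [Group G] (O : Oc ρ G) : Oc ρ O.GG where
  ι := O.ι.codRestrict _ fun u => mem_sup_left (O.ι_mem u)
  inj _ _ e := O.inj (congrArg Subtype.val e)
  h := O.h.codRestrict _ fun β => mem_sup_left (O.h_mem β)
  n := ⟨O.n, mem_sup_left O.n_mem⟩
  nn := Subtype.ext O.nn
  hι β u := Subtype.ext (O.hι β u)
  nh β := Subtype.ext (O.nh β)
  nx1 t := Subtype.ext (O.nx1 t)
  ny2 t := Subtype.ext (O.ny2 t)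
  nx2 t := Subtype.ext (O.nx2 t)
  nx3 t := Subtype.ext (O.nx3 t)
  ny4 t := Subtype.ext (O.ny4 t)
  nx4 t := Subtype.ext (O.nx4 t)
  rk v hv h1 := ⟨(O.rk v hv h1).1, (O.rk v hv h1).2.1, Subtype.ext (O.rk v hv h1).2.2⟩
  η := O.η.codRestrict _ O.η_mem
  ηι t u := Subtype.ext (O.ηι t u)
  hη β := Subtype.ext (O.hη β)
  ηn t := Subtype.ext (O.ηn t)
  m := ⟨O.m, O.m_mem⟩
  mm := Subtype.ext O.mm
  my8 t := Subtype.ext (O.my8 t)
  mx8 t := Subtype.ext (O.mx8 t)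
  my6 t := Subtype.ext (O.my6 t)
  mx6 t := Subtype.ext (O.mx6 t)
  mx7 t := Subtype.ext (O.mx7 t)
  mx5 t := Subtype.ext (O.mx5 t)
  mη t := Subtype.ext (O.mη t)
  br := Subtype.ext O.br
  r8 := Subtype.ext O.r8

theorem res_eq_1' : type_of% @res.eq_1 := @res.eq_1

theorem res_GG [Finite K] {ρ : RK K} {G : Type*} [Group G] (O : Oc ρ G) : (res O).GG = ⊤ :=
  map_injective O.GG.subtype_injective ((Cx.Hom.map_GG (O := res O) (O' := O)
    ⟨fun _ => rfl, fun _ => rfl, rfl, rfl⟩).trans (by rw [← MonoidHom.range_eq_map, range_subtype]))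

theorem w1_pow (b : List ℕ) (k : ℕ) : w1 K chevF4 b ^ k = w1 K chevF4 (List.replicate k b).flatten := by
  induction k with
  | zero => rfl
  | succ k ih => rw [pow_succ', ih, List.replicate_succ, List.flatten_cons, w1_append]

theorem w1_one {b : List ℕ} (h : wordEq2 certF4.T b [] = true) : w1 K chevF4 b = 1 := certF4.w1_eq rootF4 h

theorem ιG_x1 (t : K) : ιG K (x1 t) = word (XG K) [(33, t), (24, σ t)] := by
  simpa [lx, lw, ld, lt] using ιG_lt (K := K) (k := 0) (by decide) t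

theorem ιG_U8 (s t : K) :
    ιG K (y8 s * x8 t) = word (XG K) [(27, s), (25, σ s), (28, t), (30, s ^ 2 * σ s + σ t)] := by
  have h2 := (sr K).commute_of_commMod (p := 2) rootF4 (k := 28) (l := 30) (by decide +kernel)
    (by decide +kernel) (by decide +kernel)
  have e1 := ιG_lt (K := K) (k := 1) (by decide) s
  have e2 := ιG_lt (K := K) (k := 3) (by decide) t
  simp only [lt, lx, lw, ld, List.getD_cons_succ, List.getD_cons_zero, List.map_cons, List.map_nil, pow_one, pow_zero,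
    mul_one, one_mul] at e1 e2
  simp only [map_mul, e1, e2, word_cons, word_nil, mul_one, mul_assoc, ← (sr K).add 30 (by decide +kernel)]
  rw [← mul_assoc (XG K 30 _), ← (h2 _ _).eq, mul_assoc]

variable (θ : K →+* K) (hθ : ∀ t, θ (θ t) ^ 2 = t) (hσ : ∀ t, σ t = θ t ^ 2)
include hσ

theorem mem_UL0 {g : GL chevF4.Idx K} : g ∈ (certF4.Y K rootF4).UL ((subF4 θ).S.orb (0 : Fin 4)) ⊓
    (twF4' θ hθ).F ↔ ∃ t, g = ιG K (x1 t) := by
  refine (StEnd.mem_UL_iff _ _ _).trans ⟨?_, ?_⟩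
  · rintro ⟨_, ⟨t, rfl⟩, rfl⟩
    exact ⟨θ t, by rw [ιG_x1, hσ, hθ]⟩
  · rintro ⟨t, rfl⟩
    exact ⟨_, ⟨σ t, rfl⟩, by rw [ιG_x1, hσ, map_pow, hθ]⟩

theorem mem_UL1 {g : GL chevF4.Idx K} : g ∈ (certF4.Y K rootF4).UL ((subF4 θ).S.orb (1 : Fin 4)) ⊓
    (twF4' θ hθ).F ↔ ∃ u ∈ U8 K, g = ιG K u := by
  have h1 : ∀ t, σ (θ t) = t := fun t => by rw [hσ, hθ]
  have h2 : ∀ t, θ (σ t) = t := fun t => by rw [hσ, map_pow, hθ]
  refine (StEnd.mem_UL_iff _ _ _).trans ⟨?_, ?_⟩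
  · rintro ⟨_, ⟨t, u, rfl⟩, rfl⟩
    refine ⟨y8 (θ t) * x8 (θ t * t + u), by simp, ?_⟩
    rw [ιG_U8, map_add, map_mul, h1, hσ, hσ, mul_comm t, CharTwo.add_cancel_left]
  · rintro ⟨u, hu, rfl⟩
    refine ⟨_, ⟨σ u.b8, u.b8 * σ u.b8 + u.a8, rfl⟩, ?_⟩
    rw [h2, CharTwo.add_cancel_left, ← hσ, map_add, map_mul, σσ, mul_comm (σ _), ← ιG_U8, ← eq_of_mem_U8 hu]

theorem mem_VL0 {g : GL chevF4.Idx K} : g ∈ (certF4.Y K rootF4).VL ((subF4 θ).S.orb (0 : Fin 4)) ⊓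
    (twF4' θ hθ).F → ∃ t, g = nw K [0, 3] * ιG K (x1 t) * (nw K [0, 3])⁻¹ := fun h => by
  obtain ⟨_, ⟨t, rfl⟩, rfl⟩ := (StEnd.mem_VL_iff _ _ _).1 h
  refine ⟨θ t, ?_⟩
  rw [ιG_x1, hσ, hθ, nw_word _ (by simp)]
  simp only [ChevalleyDatum.negWord, List.map_cons, List.map_nil, CharTwo.neg_eq]
  rfl

theorem mem_VL1 {g : GL chevF4.Idx K} : g ∈ (certF4.Y K rootF4).VL ((subF4 θ).S.orb (1 : Fin 4)) ⊓
    (twF4' θ hθ).F ↔ ∃ u ∈ U8 K, g = nw K [1, 2, 1, 2] * ιG K u * (nw K [1, 2, 1, 2])⁻¹ := by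
  have key : ∀ w ∈ wordsF4b θ, word (XG K) (chevF4.negWord w) =
      nw K [1, 2, 1, 2] * word (XG K) w * (nw K [1, 2, 1, 2])⁻¹ := by
    rintro _ ⟨t, u, rfl⟩
    rw [nw_word _ (by simp)]
    simp only [ChevalleyDatum.negWord, List.map_cons, List.map_nil, CharTwo.neg_eq]
    rfl
  refine (StEnd.mem_VL_iff _ _ _).trans ⟨?_, ?_⟩
  · rintro ⟨w, hw, rfl⟩
    obtain ⟨u, hu, e⟩ := (mem_UL1 θ hθ hσ).1 ((StEnd.mem_UL_iff _ _ _).2 ⟨w, hw, rfl⟩)
    exact ⟨u, hu, e ▸ key w hw⟩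
  · rintro ⟨u, hu, rfl⟩
    obtain ⟨w, hw, e⟩ := (StEnd.mem_UL_iff _ _ _).1 ((mem_UL1 θ hθ hσ).2 ⟨u, hu, rfl⟩)
    exact ⟨w, hw, e ▸ (key w hw).symm⟩

omit hσ in
theorem n1_mem : nw K [0, 3] ∈ (twF4' θ hθ).G1 := by
  rw [nw_eq, certF4.w1_eq rootF4 (b := [[33, 24], [14, 23], [33, 24]].flatten) (by decide +kernel)]
  exact w1_flatten_mem fun b hb => block_mem_twF4 θ hθ (by revert b; decide +kernel)

omit hσ in
theorem n8_mem : nw K [1, 2, 1, 2] ∈ (twF4' θ hθ).G1 := by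
  rw [nw_eq, certF4.w1_eq rootF4 (b := [[27, 25, 28], [19, 17], [27, 25, 30]].flatten) (by decide +kernel)]
  exact w1_flatten_mem fun b hb => block_mem_twF4 θ hθ (by revert b; decide +kernel)

theorem ιG_mem (u : UU K) : ιG K u ∈ (twF4' θ hθ).G1 := by
  have h := fun i => (((twF4' θ hθ).G1_le_iff).1 le_rfl i).1
  have h0 : ∀ t, ιG K (lt 0 t) ∈ (twF4' θ hθ).G1 := fun t => h _ ((mem_UL0 θ hθ hσ).2 ⟨t, rfl⟩)
  have h1 : ∀ t, ιG K (lt 1 t) ∈ (twF4' θ hθ).G1 := fun t => h _ ((mem_UL1 θ hθ hσ).2 ⟨_, by simp [lt], rfl⟩)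
  have h3 : ∀ t, ιG K (lt 3 t) ∈ (twF4' θ hθ).G1 := fun t => h _ ((mem_UL1 θ hθ hσ).2 ⟨_, by simp [lt], rfl⟩)
  have c : ∀ {ω j} k, nw K ω ∈ (twF4' θ hθ).G1 → (∀ t, ιG K (lt j t) ∈ (twF4' θ hθ).G1) →
      j < 12 ∧ k < 12 ∧ ((ld j).map fun c => (rf ω c.1, c.2)) = ld k → ∀ t, ιG K (lt k t) ∈ (twF4' θ hθ).G1 :=
    fun k a b e t => nw_lt e t ▸ mul_mem (mul_mem a (b t)) (inv_mem a)
  have a := n1_mem θ hθ
  have b := n8_mem θ hθ
  have h2 := c 2 a h1 (by decide +kernel)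
  have h7 := c 7 a h3 (by decide +kernel)
  have h6 := c 6 b h0 (by decide +kernel)
  have h4 := c 4 b h2 (by decide +kernel)
  have h5 := c 5 a h4 (by decide +kernel)
  have h8 := c 8 a h6 (by decide +kernel)
  have h9 := c 9 b h8 (by decide +kernel)
  have h10 := c 10 b h7 (by decide +kernel)
  have h11 := c 11 a h10 (by decide +kernel)
  rw [← op_lt u]
  simp only [op, map_mul]
  exact mul_mem (mul_mem (mul_mem (mul_mem (mul_mem (mul_mem (mul_mem (mul_mem (mul_mem (mul_mem (mul_mem (h0 _)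
    (h1 _)) (h2 _)) (h3 _)) (h4 _)) (h5 _)) (h6 _)) (h7 _)) (h8 _)) (h9 _)) (h10 _)) (h11 _)

variable [Finite K]

theorem ηG_mem (t : Kˣ × Kˣ) : ηG K t ∈ (twF4' θ hθ).G1 := by
  have h2 : ∀ t, θ (σ t) = t := fun t => by rw [hσ, map_pow, hθ]
  refine (certF4.torGL_mem_of_card _ _ rfl ?_ ((mem_fixT_F4 θ (c := tc K t)).2 (forall_fin4 (hσ _) (hσ _)
    ((pow_one _).trans (h2 _)).symm ((pow_one _).trans (h2 _)).symm))).2
  rw [card_H_twF4, card_fixT_F4 θ hθ, Nat.card_units]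

include hθ in
theorem exists_rk (v : UU K) : ∃ p : UU K × Kˣ × UU K, v ∈ U8 K → v ≠ 1 → p.1 ∈ U8 K ∧ p.2.2 ∈ U8 K ∧
    nw K [1, 2, 1, 2] * ιG K v * (nw K [1, 2, 1, 2])⁻¹ =
      ιG K p.1 * ηG K (jL p.2.1) * nw K [1, 2, 1, 2] * ιG K p.2.2 := by
  have inj : Injective (ιG K) := lx_inj (sr K) (md K).posInj
  by_cases hv : v ∈ U8 K ∧ v ≠ 1
  swap
  · exact ⟨(1, 1, 1), fun h1 h2 => absurd ⟨h1, h2⟩ hv⟩
  obtain ⟨_, hw, m, hm, h1, _, hw', e⟩ := (twF4' θ hθ).rank_one (certF4.faithful K rootF4)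
    ((mem_VL1 θ hθ hσ).2 ⟨v, hv.1, rfl⟩) (by simpa [map_eq_one_iff _ inj] using hv.2)
  obtain ⟨u, hu, rfl⟩ := (mem_UL1 θ hθ hσ).1 hw
  obtain ⟨u', hu', rfl⟩ := (mem_UL1 θ hθ hσ).1 hw'
  replace h1 := (congrArg _ (twist_F4_t (hasC_F4 rootF4) _ (subF4_π θ) 1).2.1).mp h1
  obtain ⟨c, hc, h2⟩ := certF4.exists_torGL _ _ rfl (h := ⟨m * (nw K [1, 2, 1, 2])⁻¹,
    mul_mem hm (inv_mem (n8_mem θ hθ))⟩) (h1.mul_inv_mem_H (RGD.lifts_wprod _ _))
  obtain ⟨t, rfl⟩ : ∃ t, c = tc K t := ⟨(c (0 : Fin 4), c (1 : Fin 4)), funext (forall_fin4 rfl rfl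
    (Units.ext (((mem_fixT_F4 θ).1 hc 1).trans (hσ _).symm))
    (Units.ext (((mem_fixT_F4 θ).1 hc 0).trans (hσ _).symm)))⟩
  obtain rfl : m = ηG K t * nw K [1, 2, 1, 2] := eq_mul_of_mul_inv_eq h2
  have h3 : ∀ u, Commute (ιG K u) (ιG K (x4 1)) := fun u => by
    rw [commute_iff_eq, ← map_mul, ← map_mul, x4_comm]
  have h4 : Commute (nw K [1, 2, 1, 2]) (ιG K (x4 1)) :=
    mul_inv_eq_iff_eq_mul.1 (nw_lt (j := 11) (k := 11) (by decide +kernel) 1)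
  have h5 : Commute (ηG K t) (ιG K (x4 1)) := by
    have := ((h3 u).inv_left.mul_left (((h4.mul_left (h3 v)).mul_left h4.inv_left).mul_left
      (h3 u').inv_left)).mul_left h4.inv_left
    rwa [e, show ∀ a b c d : GL chevF4.Idx K, a⁻¹ * (a * (b * c) * d * d⁻¹) * c⁻¹ = b by intros; group] at this
  have h6 := inj ((ηG_ι t _).symm.trans (mul_inv_eq_iff_eq_mul.2 h5.eq))
  rw [tor_x4, x4_inj, mul_one] at h6
  obtain ⟨b, hb⟩ := exists_σ (t.2 : K)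
  have h0 : b ≠ 0 := fun e => t.2.ne_zero (by rw [← hb, e, map_zero])
  obtain rfl : t = jL (Units.mk0 b h0) := by
    have := (map_ne_zero (σ : K →+* K)).2 h0
    have h7 := eq_one_of_N2 (w := t.1 * b * σ b) (by
      rw [← h6, ← hb]; simp only [map_mul, σσ]; ring)
    ext
    · simp only [jL_fst, Units.val_mk0]
      field_simp
      exact h7
    · simp [hb]
  exact ⟨(u, Units.mk0 b h0, u'), fun _ _ => ⟨hu, hu', by rw [e, ← mul_assoc (ιG K u)]⟩⟩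

theorem exists_oc : ∃ (ρ : RK K) (O : Oc ρ (GL chevF4.Idx K)), O.GG = (twF4' θ hθ).G1 := by
  choose ρ hρ using exists_rk θ hθ hσ
  let O : Oc ρ (GL chevF4.Idx K) :=
    { ι := ιG K
      inj := lx_inj (sr K) (md K).posInj
      h := (ηG K).comp jL
      n := nw K [1, 2, 1, 2]
      nn := by rw [nw_eq, ← w1_append, w1_one (by decide +kernel)]
      hι β u := ηG_ι _ u
      nh β := (n8_η _).trans (congrArg _ (by
        have := σ_ne_zero β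
        ext <;> simp
        field_simp))
      nx1 := nw_lt (j := 0) (k := 6) (by decide +kernel)
      ny2 := nw_lt (j := 2) (k := 4) (by decide +kernel)
      nx2 := nw_lt (j := 7) (k := 10) (by decide +kernel)
      nx3 := nw_lt (j := 8) (k := 9) (by decide +kernel)
      ny4 := nw_lt (j := 5) (k := 5) (by decide +kernel)
      nx4 := nw_lt (j := 11) (k := 11) (by decide +kernel)
      rk := hρ
      η := ηG K
      ηι := ηG_ι
      hη _ := rfl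
      ηn t := by
        rw [← map_inv, ← mul_inv_eq_iff_eq_mul, mul_assoc, mul_assoc, ← mul_assoc (nw K _), n8_η, ← map_mul]
        refine congrArg _ ?_
        have := σ_ne_zero t.2
        ext <;> simp <;> field_simp
      m := nw K [0, 3]
      mm := by rw [nw_eq, ← w1_append, w1_one (by decide +kernel)]
      my8 := nw_lt (j := 1) (k := 2) (by decide +kernel)
      mx8 := nw_lt (j := 3) (k := 7) (by decide +kernel)
      my6 := nw_lt (j := 4) (k := 5) (by decide +kernel)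
      mx6 := nw_lt (j := 10) (k := 11) (by decide +kernel)
      mx7 := nw_lt (j := 6) (k := 8) (by decide +kernel)
      mx5 := nw_lt (j := 9) (k := 9) (by decide +kernel)
      mη := n1_η
      br := by
        rw [nw_eq, ιG_x1, map_one, show word (XG K) [(33, 1), (24, 1)] = w1 K chevF4 [33, 24] from rfl,
          ← w1_append, w1_pow, w1_one (by decide +kernel)]
      r8 := by rw [nw_eq, nw_eq, ← w1_append, w1_pow, w1_one (by decide +kernel)] }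
  have hC := O.C_le (ιG_mem θ hθ hσ) (fun _ => ηG_mem θ hθ hσ _) (n8_mem θ hθ)
  have hm := n1_mem θ hθ
  refine ⟨ρ, O, le_antisymm (sup_le hC (cj_le_iff.2 fun g hg => mul_mem (mul_mem hm (hC hg)) (inv_mem hm))) ?_⟩
  have h0 : (certF4.Y K rootF4).UL ((subF4 θ).S.orb (0 : Fin 4)) ⊓ (twF4' θ hθ).F ≤ O.GG ∧
      (certF4.Y K rootF4).VL ((subF4 θ).S.orb (0 : Fin 4)) ⊓ (twF4' θ hθ).F ≤ O.GG := ⟨fun g hg => by
    obtain ⟨t, rfl⟩ := (mem_UL0 θ hθ hσ).1 hg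
    exact mem_sup_left (O.ι_mem _), fun g hg => by
    obtain ⟨t, rfl⟩ := mem_VL0 θ hθ hσ hg
    exact mem_sup_right (conj_mem_cj.2 (O.ι_mem _))⟩
  have h1 : (certF4.Y K rootF4).UL ((subF4 θ).S.orb (1 : Fin 4)) ⊓ (twF4' θ hθ).F ≤ O.GG ∧
      (certF4.Y K rootF4).VL ((subF4 θ).S.orb (1 : Fin 4)) ⊓ (twF4' θ hθ).F ≤ O.GG := ⟨fun g hg => by
    obtain ⟨t, -, rfl⟩ := (mem_UL1 θ hθ hσ).1 hg
    exact mem_sup_left (O.ι_mem _), fun g hg => by
    obtain ⟨t, -, rfl⟩ := (mem_VL1 θ hθ hσ).1 hg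
    exact mem_sup_left (mul_mem (mul_mem O.n_mem (O.ι_mem _)) (inv_mem O.n_mem))⟩
  have e2 : (subF4 θ).S.orb (2 : Fin 4) = (subF4 θ).S.orb (1 : Fin 4) := (subF4_orb θ 2).trans (subF4_orb θ 1).symm
  have e3 : (subF4 θ).S.orb (3 : Fin 4) = (subF4 θ).S.orb (0 : Fin 4) := (subF4_orb θ 3).trans (subF4_orb θ 0).symm
  exact (RGD.Twist.G1_le_iff _).2 (forall_fin4 h0 h1 (e2 ▸ h1) (e3 ▸ h0))

end Md

theorem exists_model {F : Type*} [Field F] [Fintype F] {m : ℕ} (hK : Fintype.card F = 2 ^ (2 * m + 1)) :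
    ∃ (_ : TwF F) (ρ : RK F) (M : Oc ρ (Lie.twistedF4 F (2 ^ m))), M.GG = ⊤ := by
  obtain ⟨_, θ, hθ, -, h⟩ := Chev.exists_twF4 hK
  let _ : TwF F := ⟨(frobenius F 2).comp θ, fun t => by
    simp only [RingHom.comp_apply, frobenius_def, map_pow, hθ]⟩
  obtain ⟨ρ, O, e⟩ := Md.exists_oc θ hθ fun _ => rfl
  rw [← h, ← e]
  exact ⟨_, ρ, Md.res O, Md.res_GG O⟩

end Cfsg.Lib.Oct
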