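import Cfsg.Agent.Oct.Defs

/-!
# The involutions of the centraliser of a central involution
-/

set_option autoImplicit false
set_option linter.unusedSectionVars false
set_option linter.unusedTactic false
set_option linter.unreachableTactic false
set_option linter.unnecessarySeqFocus false
set_option maxRecDepth 100000

namespace Cfsg.Lib.Oct

open Subgroup Function Cfsg.Lib.Trans Cfsg.Lib.Gold UU

variable {K : Type*} [Field K] [TwF K] {ρ : RK K} {G : Type*} [Group G]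

namespace Lc

variable (L : Lc ρ G)

/-- Conjugacy in `C`. -/
def Cj (u v : UU K) : Prop := ∃ c ∈ L.C, c * L.ι u * c⁻¹ = L.ι v

variable {L} {u v w : UU K}

theorem Cj.trans (h : L.Cj u v) (h' : L.Cj v w) : L.Cj u w := by
  obtain ⟨c, hc, e⟩ := h
  obtain ⟨d, hd, e'⟩ := h'
  exact ⟨d * c, mul_mem hd hc, by rw [← e', ← e]; group⟩

theorem Cj.symm (h : L.Cj u v) : L.Cj v u := by
  obtain ⟨c, hc, e⟩ := h
  exact ⟨c⁻¹, inv_mem hc, by rw [← e]; group⟩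

theorem Cj.sq (h : L.Cj u v) (hu : u * u = 1) : v * v = 1 := by
  obtain ⟨c, -, e⟩ := h
  apply L.inj
  rw [map_mul, ← e, map_one]
  calc c * L.ι u * c⁻¹ * (c * L.ι u * c⁻¹) = c * L.ι (u * u) * c⁻¹ := by rw [map_mul]; group
    _ = 1 := by rw [hu, map_one]; group

variable (L)

theorem cj_in (w u : UU K) : L.Cj u (w * u * w⁻¹) :=
  ⟨L.ι w, L.ι_mem w, by rw [map_mul, map_mul, map_inv]⟩

theorem cj_tl (β : Kˣ) (u : UU K) : L.Cj u (tl β u) := ⟨L.h β, L.h_mem β, L.hι β u⟩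

theorem cj_nback {a b : G} (e : L.n * a * L.n⁻¹ = b) : L.n * b * L.n⁻¹ = a := by
  rw [← e, L.n_inv]
  calc L.n * (L.n * a * L.n) * L.n = L.n * L.n * a * (L.n * L.n) := by group
    _ = a := by rw [L.nn]; group

theorem cj_n (hu : u ∈ UU.Q K) : L.Cj u (ν8 u) := by
  refine ⟨L.n, L.n_mem, ?_⟩
  have e : u = x1 u.a1 * y2 u.b2 * y6 u.b6 * y4 u.b4 * x7 u.a7 * x2 u.a2 * x3 u.a3 * x5 u.a5 *
      x6 u.a6 * x4 u.a4 := by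
    conv_lhs => rw [nf u, hu.1, hu.2, y8_zero, x8_zero, mul_one, mul_one]
  have cm : ∀ a b : G, L.n * (a * b) * L.n⁻¹ = L.n * a * L.n⁻¹ * (L.n * b * L.n⁻¹) := by
    intros; group
  conv_lhs => rw [e]
  simp only [ν8, map_mul, cm, L.nx1, L.ny2, L.nx2, L.nx3, L.ny4, L.nx4, L.cj_nback (L.nx1 _),
    L.cj_nback (L.ny2 _), L.cj_nback (L.nx2 _), L.cj_nback (L.nx3 _)]

variable [Finite K]

theorem cj_x6 (h : u ∈ UU.V6 K) (h6 : u.a6 ≠ 0) : L.Cj u (x6 1) := by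
  obtain ⟨t, ht⟩ := exists_N1 (u.a6)⁻¹
  have t0 : t ≠ 0 := by rintro rfl; exact inv_ne_zero h6 (by rw [← ht, zero_mul])
  have := L.cj_tl (Units.mk0 t t0) u
  rwa [eq_of_mem_V6 h, tl_x6, Units.val_mk0, ht, inv_mul_cancel₀ h6, ← eq_of_mem_V6 h] at this

theorem cj_x7 (h : u ∈ UU.U7 K) (h7 : u.a7 ≠ 0) : L.Cj u (x7 1) := by
  obtain ⟨t, ht⟩ := exists_N1 (u.a7)⁻¹
  have t0 : t ≠ 0 := by rintro rfl; exact inv_ne_zero h7 (by rw [← ht, zero_mul])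
  have := L.cj_tl (Units.mk0 t t0) u
  rwa [eq_of_mem_U7 h, tl_x7, Units.val_mk0, ht, inv_mul_cancel₀ h7, ← eq_of_mem_U7 h] at this

theorem cj_x5 (h : u ∈ UU.U5 K) (h5 : u.a5 ≠ 0) : L.Cj u (x5 1) := by
  obtain ⟨t, ht⟩ : ∃ t, t = u.a5⁻¹ := ⟨_, rfl⟩
  have t0 : t ≠ 0 := ht ▸ inv_ne_zero h5
  have := L.cj_tl (Units.mk0 t t0) u
  rwa [eq_of_mem_U5 h, tl_x5, Units.val_mk0, show t * u.a5 = 1 by rw [ht, inv_mul_cancel₀ h5],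
    ← eq_of_mem_U5 h] at this

theorem cj_V (h : u ∈ UU.V K) (h6 : u.a6 ≠ 0) : L.Cj u (x6 1) := by
  obtain ⟨a1, b8, b2, a8, b6, b4, a7, a2, a3, a5, a6, a4⟩ := u
  obtain ⟨rfl, rfl, rfl, rfl, rfl, rfl, rfl, rfl, rfl, rfl⟩ := mem_V.1 h
  refine (L.cj_in (x1 (a4 / a6)) _).trans (L.cj_x6 ?_ ?_)
  · simp only [mem_V6]; uus <;> grind
  · uus <;> grind

theorem cj_E5 (h : u ∈ UU.E5 K) (h5 : u.a5 ≠ 0) : L.Cj u (x5 1) := by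
  obtain ⟨a1, b8, b2, a8, b6, b4, a7, a2, a3, a5, a6, a4⟩ := u
  obtain ⟨rfl, rfl, rfl, rfl, rfl, rfl, rfl, rfl, rfl, rfl⟩ := mem_E5.1 h
  refine (L.cj_in (y2 (a4 / a5)) _).trans (L.cj_x5 ?_ ?_)
  · simp only [mem_U5]; uus <;> grind
  · uus <;> grind

theorem cj_D (h : u ∈ UU.D K) (h5 : u.a5 ≠ 0) : L.Cj u (x5 1) := by
  obtain ⟨a1, b8, b2, a8, b6, b4, a7, a2, a3, a5, a6, a4⟩ := u
  obtain ⟨rfl, rfl, rfl, rfl, rfl, rfl, rfl, rfl, rfl⟩ := mem_D.1 h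
  refine (L.cj_in (y8 (a6 / a5)) _).trans (L.cj_E5 ?_ ?_)
  · simp only [mem_E5]; uus <;> grind
  · uus <;> grind

theorem cj_W3a (h : u ∈ UU.W K) (h2 : u.a2 = 0) (h5 : u.a5 = 0) (h3 : u.a3 ≠ 0) :
    L.Cj u (x5 1) := by
  obtain ⟨a1, b8, b2, a8, b6, b4, a7, a2, a3, a5, a6, a4⟩ := u
  obtain ⟨rfl, rfl, rfl, rfl, rfl, rfl, rfl⟩ := mem_W.1 h
  obtain rfl : a2 = 0 := h2
  obtain rfl : a5 = 0 := h5
  refine (L.cj_in (x8 (a6 / a3)) _).trans ((L.cj_n ?_).trans (L.cj_E5 ?_ ?_))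
  · simp only [mem_Q]; uus <;> grind
  · simp only [mem_E5, ν8]; uus <;> grind
  · simp only [ν8]; uus <;> grind

theorem cj_W3 (h : u ∈ UU.W K) (h2 : u.a2 = 0) (h3 : u.a3 ≠ 0) : L.Cj u (x5 1) := by
  obtain ⟨a1, b8, b2, a8, b6, b4, a7, a2, a3, a5, a6, a4⟩ := u
  obtain ⟨rfl, rfl, rfl, rfl, rfl, rfl, rfl⟩ := mem_W.1 h
  obtain rfl : a2 = 0 := h2
  obtain ⟨t, ht⟩ := exists_σ (a5 / a3)
  refine (L.cj_in (y8 t) _).trans (L.cj_W3a ?_ ?_ ?_ ?_)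
  · simp only [mem_W]; uus <;> grind
  · uus <;> grind
  · uus <;> grind
  · uus <;> grind

theorem cj_W0 (h : u ∈ UU.W K) (h2 : u.a2 = 0) :
    u ∈ UU.Z K ∨ L.Cj u (x6 1) ∨ L.Cj u (x5 1) := by
  obtain ⟨h1, h8, h2', h8', h6', h4', h7⟩ := id h
  by_cases h3 : u.a3 = 0
  · by_cases h5 : u.a5 = 0
    · by_cases h6 : u.a6 = 0
      · exact .inl ⟨h1, h8, h2', h8', h6', h4', h7, h2, h3, h5, h6⟩
      · exact .inr (.inl (L.cj_V ⟨h1, h8, h2', h8', h6', h4', h7, h2, h3, h5⟩ h6))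
    · exact .inr (.inr (L.cj_D ⟨h1, h8, h2', h8', h6', h4', h7, h2, h3⟩ h5))
  · exact .inr (.inr (L.cj_W3 h h2 h3))

theorem cj_W2a (h : u ∈ UU.W K) (h3 : u.a3 = 0) (h6 : u.a6 = 0) (h2 : u.a2 ≠ 0) :
    L.Cj u (x6 1) ∨ L.Cj u (x5 1) := by
  obtain ⟨a1, b8, b2, a8, b6, b4, a7, a2, a3, a5, a6, a4⟩ := u
  obtain ⟨rfl, rfl, rfl, rfl, rfl, rfl, rfl⟩ := mem_W.1 h
  obtain rfl : a3 = 0 := h3
  obtain rfl : a6 = 0 := h6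
  have c := L.cj_n (u := ⟨0, 0, 0, 0, 0, 0, 0, a2, 0, a5, 0, a4⟩) ⟨rfl, rfl⟩
  rcases L.cj_W0 (u := ν8 ⟨0, 0, 0, 0, 0, 0, 0, a2, 0, a5, 0, a4⟩)
    (by simp only [mem_W, ν8]; uus <;> grind) (by simp only [ν8]; uus <;> grind) with e | e | e
  · simp only [mem_Z, ν8] at e
    uus at e
    grind
  · exact .inl (c.trans e)
  · exact .inr (c.trans e)

theorem cj_W2b (h : u ∈ UU.W K) (h3 : u.a3 = 0) (h2 : u.a2 ≠ 0) :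
    L.Cj u (x6 1) ∨ L.Cj u (x5 1) := by
  obtain ⟨a1, b8, b2, a8, b6, b4, a7, a2, a3, a5, a6, a4⟩ := u
  obtain ⟨rfl, rfl, rfl, rfl, rfl, rfl, rfl⟩ := mem_W.1 h
  obtain rfl : a3 = 0 := h3
  obtain ⟨t, ht⟩ := exists_σ (a6 / a2)
  refine (L.cj_W2a ?_ ?_ ?_ ?_).imp (L.cj_in (x8 t) _).trans (L.cj_in (x8 t) _).trans
  · simp only [mem_W]; uus <;> grind
  · uus <;> grind
  · uus <;> grind
  · uus <;> grind

theorem cj_W2 (h : u ∈ UU.W K) (h2 : u.a2 ≠ 0) : L.Cj u (x6 1) ∨ L.Cj u (x5 1) := by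
  obtain ⟨a1, b8, b2, a8, b6, b4, a7, a2, a3, a5, a6, a4⟩ := u
  obtain ⟨rfl, rfl, rfl, rfl, rfl, rfl, rfl⟩ := mem_W.1 h
  refine (L.cj_W2b ?_ ?_ ?_).imp (L.cj_in (y8 (a3 / a2)) _).trans (L.cj_in (y8 (a3 / a2)) _).trans
  · simp only [mem_W]; uus <;> grind
  · uus <;> grind
  · uus <;> grind

theorem cj_W (h : u ∈ UU.W K) : u ∈ UU.Z K ∨ L.Cj u (x6 1) ∨ L.Cj u (x5 1) := by
  by_cases h2 : u.a2 = 0
  · exact L.cj_W0 h h2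
  · exact .inr (L.cj_W2 h h2)

theorem invol_W {u : UU K} (hu : u ∈ W K) : u ∈ UU.Z K ∨ ∃ c ∈ L.C,
    c * L.ι u * c⁻¹ = L.ι (x6 1) ∨ c * L.ι u * c⁻¹ = L.ι (x5 1) := by
  rcases L.cj_W hu with e | ⟨c, hc, e⟩ | ⟨c, hc, e⟩
  · exact .inl e
  · exact .inr ⟨c, hc, .inl e⟩
  · exact .inr ⟨c, hc, .inr e⟩

theorem cj_7d {a7 a4 : K} (h : a7 ≠ 0) : L.Cj ⟨0, 0, 0, 0, 0, 0, a7, 0, 0, 0, 0, a4⟩ (x7 1) := by
  refine (L.cj_in (x2 (a4 / a7)) _).trans (L.cj_x7 ?_ ?_)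
  · simp only [mem_U7]; uus <;> grind
  · uus <;> grind

theorem cj_7c {a7 a6 a4 : K} (h : a7 ≠ 0) :
    L.Cj ⟨0, 0, 0, 0, 0, 0, a7, 0, 0, 0, a6, a4⟩ (x7 1) := by
  have c := L.cj_in (y4 (a6 / a7)) ⟨0, 0, 0, 0, 0, 0, a7, 0, 0, 0, a6, a4⟩
  generalize e : y4 (a6 / a7) * _ * _ = v at c
  have e' : v = ⟨0, 0, 0, 0, 0, 0, a7, 0, 0, 0, 0, v.a4⟩ := by
    ext <;> first | rfl | (rw [← e]; uus <;> grind)
  exact c.trans (e' ▸ L.cj_7d h)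

theorem cj_7b {a7 a5 a6 a4 : K} (h : a7 ≠ 0) :
    L.Cj ⟨0, 0, 0, 0, 0, 0, a7, 0, 0, a5, a6, a4⟩ (x7 1) := by
  obtain ⟨t, ht⟩ := exists_σ (a5 / a7)
  have c := L.cj_in (y2 t) ⟨0, 0, 0, 0, 0, 0, a7, 0, 0, a5, a6, a4⟩
  generalize e : y2 t * _ * _ = v at c
  have e' : v = ⟨0, 0, 0, 0, 0, 0, a7, 0, 0, 0, v.a6, v.a4⟩ := by
    ext <;> first | rfl | (rw [← e]; uus <;> grind)
  exact c.trans (e' ▸ L.cj_7c h)

theorem cj_7a {a7 a3 a5 a6 a4 : K} (h : a7 ≠ 0) :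
    L.Cj ⟨0, 0, 0, 0, 0, 0, a7, 0, a3, a5, a6, a4⟩ (x7 1) := by
  obtain ⟨t, ht⟩ := exists_σ (a3 / a7)
  have c := L.cj_in (x1 t) ⟨0, 0, 0, 0, 0, 0, a7, 0, a3, a5, a6, a4⟩
  generalize e : x1 t * _ * _ = v at c
  have e' : v = ⟨0, 0, 0, 0, 0, 0, a7, 0, 0, v.a5, v.a6, v.a4⟩ := by
    ext <;> first | rfl | (rw [← e]; uus <;> grind)
  exact c.trans (e' ▸ L.cj_7b h)

theorem cj_eq0 {t : K} (h : σ t * t = 0) : t = 0 := by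
  rcases mul_eq_zero.1 h with e | e
  · exact (map_eq_zero σ).1 e
  · exact e

theorem cj_F (hu : u * u = 1) (h1 : u.a1 = 0) (h8 : u.b8 = 0) (h8' : u.a8 = 0) :
    u ∈ UU.Z K ∨ L.Cj u (x6 1) ∨ L.Cj u (x5 1) ∨ L.Cj u (x7 1) := by
  obtain ⟨a1, b8, b2, a8, b6, b4, a7, a2, a3, a5, a6, a4⟩ := u
  obtain rfl : a1 = 0 := h1
  obtain rfl : b8 = 0 := h8
  obtain rfl : a8 = 0 := h8'
  obtain rfl : b2 = 0 := by
    have := congrArg UU.a2 hu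
    uus at this
    exact cj_eq0 (by grind)
  have h5 := congrArg UU.a5 hu
  have h6 := congrArg UU.a6 hu
  have h4 := congrArg UU.a4 hu
  uus at h5 h6 h4
  obtain rfl : b6 = 0 := by
    by_contra hne
    have : b4 = 0 := by grind
    subst this
    exact hne (cj_eq0 (by grind))
  by_cases h7 : a7 = 0
  · subst h7
    obtain rfl : b4 = 0 := cj_eq0 (by grind)
    exact (L.cj_W ⟨rfl, rfl, rfl, rfl, rfl, rfl, rfl⟩).imp_right (Or.imp_right .inl)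
  · obtain rfl : b4 = 0 := by grind
    obtain rfl : a2 = 0 := by
      simp only [map_zero] at h4
      grind
    exact .inr (.inr (.inr (L.cj_7a h7)))

theorem cj_1c {a1 b4 a7 a2 a3 a5 a6 a4 : K} (h : a1 ≠ 0)
    (hu : (⟨a1, 0, 0, 0, 0, b4, a7, a2, a3, a5, a6, a4⟩ : UU K) *
      ⟨a1, 0, 0, 0, 0, b4, a7, a2, a3, a5, a6, a4⟩ = 1) :
    L.Cj ⟨a1, 0, 0, 0, 0, b4, a7, a2, a3, a5, a6, a4⟩ (x7 1) := by
  obtain rfl : b4 = 0 := by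
    have := congrArg UU.a2 hu
    uus at this
    grind
  obtain rfl : a7 = 0 := by
    have := congrArg UU.a3 hu
    uus at this
    have := (map_ne_zero σ).2 h
    grind
  have c := L.cj_n (u := ⟨a1, 0, 0, 0, 0, 0, 0, a2, a3, a5, a6, a4⟩) ⟨rfl, rfl⟩
  obtain rfl : a6 = 0 := by
    have := congrArg UU.a4 hu
    uus at this
    grind
  generalize e : ν8 (K := K) _ = v at c
  have e' : v = ⟨0, 0, 0, 0, 0, 0, a1, 0, v.a3, v.a5, v.a6, v.a4⟩ := by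
    ext <;> first | rfl | (rw [← e, ν8]; uus <;> grind)
  exact c.trans (e' ▸ L.cj_7a h)

theorem cj_1b {a1 b6 b4 a7 a2 a3 a5 a6 a4 : K} (h : a1 ≠ 0)
    (hu : (⟨a1, 0, 0, 0, b6, b4, a7, a2, a3, a5, a6, a4⟩ : UU K) *
      ⟨a1, 0, 0, 0, b6, b4, a7, a2, a3, a5, a6, a4⟩ = 1) :
    L.Cj ⟨a1, 0, 0, 0, b6, b4, a7, a2, a3, a5, a6, a4⟩ (x7 1) := by
  have c := L.cj_in (x8 (b6 / a1)) ⟨a1, 0, 0, 0, b6, b4, a7, a2, a3, a5, a6, a4⟩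
  generalize e : x8 (b6 / a1) * _ * _ = v at c
  have e' : v = ⟨a1, 0, 0, 0, 0, v.b4, v.a7, v.a2, v.a3, v.a5, v.a6, v.a4⟩ := by
    ext <;> first | rfl | (rw [← e]; uus <;> grind)
  exact c.trans (e' ▸ L.cj_1c h (e' ▸ c.sq hu))

theorem cj_1a {a1 b2 b6 b4 a7 a2 a3 a5 a6 a4 : K} (h : a1 ≠ 0)
    (hu : (⟨a1, 0, b2, 0, b6, b4, a7, a2, a3, a5, a6, a4⟩ : UU K) *
      ⟨a1, 0, b2, 0, b6, b4, a7, a2, a3, a5, a6, a4⟩ = 1) :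
    L.Cj ⟨a1, 0, b2, 0, b6, b4, a7, a2, a3, a5, a6, a4⟩ (x7 1) := by
  have c := L.cj_in (y8 (b2 / a1) * x8 ((σ (b2 / a1)) * (b2 / a1)))⁻¹
    ⟨a1, 0, b2, 0, b6, b4, a7, a2, a3, a5, a6, a4⟩
  generalize e : (y8 (b2 / a1) * _)⁻¹ * _ * _ = v at c
  have e' : v = ⟨a1, 0, 0, 0, v.b6, v.b4, v.a7, v.a2, v.a3, v.a5, v.a6, v.a4⟩ := by
    ext <;> first | rfl | (rw [← e]; uus <;> grind)
  exact c.trans (e' ▸ L.cj_1b h (e' ▸ c.sq hu))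

theorem cj_8e {a8 a4 : K} (h : a8 ≠ 0) :
    ∃ e, L.Cj ⟨0, 0, 0, a8, 0, 0, 0, 0, 0, 0, 0, a4⟩ (x8 1 * x4 e) := by
  obtain ⟨t, ht⟩ := exists_N2 a8⁻¹
  have t0 : t ≠ 0 := by rintro rfl; exact inv_ne_zero h (by rw [← ht]; simp)
  have c := L.cj_tl (Units.mk0 t t0) ⟨0, 0, 0, a8, 0, 0, 0, 0, 0, 0, 0, a4⟩
  refine ⟨a4, ?_⟩
  have e : tl (Units.mk0 t t0) ⟨0, 0, 0, a8, 0, 0, 0, 0, 0, 0, 0, a4⟩ = x8 1 * x4 a4 := by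
    ext <;> simp [ht, inv_mul_cancel₀ h]
  exact e ▸ c

theorem cj_8d {a8 a6 a4 : K} (h : a8 ≠ 0) :
    ∃ e, L.Cj ⟨0, 0, 0, a8, 0, 0, 0, 0, 0, 0, a6, a4⟩ (x8 1 * x4 e) := by
  have c := L.cj_in (x3 (a6 / a8)) ⟨0, 0, 0, a8, 0, 0, 0, 0, 0, 0, a6, a4⟩
  generalize e : x3 (a6 / a8) * _ * _ = v at c
  have e' : v = ⟨0, 0, 0, a8, 0, 0, 0, 0, 0, 0, 0, v.a4⟩ := by
    ext <;> first | rfl | (rw [← e]; uus <;> grind)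
  exact (L.cj_8e h).imp fun _ d => c.trans (e' ▸ d)

theorem cj_8c {a8 a5 a6 a4 : K} (h : a8 ≠ 0) :
    ∃ e, L.Cj ⟨0, 0, 0, a8, 0, 0, 0, 0, 0, a5, a6, a4⟩ (x8 1 * x4 e) := by
  have c := L.cj_in (x2 (a5 / a8)) ⟨0, 0, 0, a8, 0, 0, 0, 0, 0, a5, a6, a4⟩
  generalize e : x2 (a5 / a8) * _ * _ = v at c
  have e' : v = ⟨0, 0, 0, a8, 0, 0, 0, 0, 0, 0, v.a6, v.a4⟩ := by
    ext <;> first | rfl | (rw [← e]; uus <;> grind)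
  exact (L.cj_8d h).imp fun _ d => c.trans (e' ▸ d)

theorem cj_8b {a8 b4 a3 a5 a6 a4 : K} (h : a8 ≠ 0)
    (hu : (⟨0, 0, 0, a8, 0, b4, 0, 0, a3, a5, a6, a4⟩ : UU K) *
      ⟨0, 0, 0, a8, 0, b4, 0, 0, a3, a5, a6, a4⟩ = 1) :
    ∃ e, L.Cj ⟨0, 0, 0, a8, 0, b4, 0, 0, a3, a5, a6, a4⟩ (x8 1 * x4 e) := by
  have h6 := congrArg UU.a6 hu
  have h4 := congrArg UU.a4 hu
  uus at h6 h4
  obtain rfl : b4 = 0 := cj_eq0 (by grind)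
  obtain rfl : a3 = 0 := by grind
  exact L.cj_8c h

theorem cj_8a {a8 b4 a7 a2 a3 a5 a6 a4 : K} (h : a8 ≠ 0)
    (hu : (⟨0, 0, 0, a8, 0, b4, a7, a2, a3, a5, a6, a4⟩ : UU K) *
      ⟨0, 0, 0, a8, 0, b4, a7, a2, a3, a5, a6, a4⟩ = 1) :
    ∃ e, L.Cj ⟨0, 0, 0, a8, 0, b4, a7, a2, a3, a5, a6, a4⟩ (x8 1 * x4 e) := by
  obtain rfl : a2 = 0 := by
    have := congrArg UU.a5 hu
    uus at this
    grind
  have c := L.cj_in (y2 (a7 / a8)) ⟨0, 0, 0, a8, 0, b4, a7, 0, a3, a5, a6, a4⟩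
  generalize e : y2 (a7 / a8) * _ * _ = v at c
  have e' : v = ⟨0, 0, 0, a8, 0, v.b4, 0, 0, v.a3, v.a5, v.a6, v.a4⟩ := by
    ext <;> first | rfl | (rw [← e]; uus <;> grind)
  exact (L.cj_8b h (e' ▸ c.sq hu)).imp fun _ d => c.trans (e' ▸ d)

theorem cj_8 (hu : u * u = 1) (h8 : u.b8 = 0) (h : u.a8 ≠ 0) : ∃ e, L.Cj u (x8 1 * x4 e) := by
  obtain ⟨a1, b8, b2, a8, b6, b4, a7, a2, a3, a5, a6, a4⟩ := u
  obtain rfl : b8 = 0 := h8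
  replace h : a8 ≠ 0 := h
  obtain rfl : a1 = 0 := by
    have := congrArg UU.b6 hu
    uus at this
    grind
  obtain rfl : b2 = 0 := by
    have := congrArg UU.a7 hu
    uus at this
    grind
  have c := L.cj_in (x1 (b6 / a8)) ⟨0, 0, 0, a8, b6, b4, a7, a2, a3, a5, a6, a4⟩
  generalize e : x1 (b6 / a8) * _ * _ = v at c
  have e' : v = ⟨0, 0, 0, a8, 0, v.b4, v.a7, v.a2, v.a3, v.a5, v.a6, v.a4⟩ := by
    ext <;> first | rfl | (rw [← e]; uus <;> grind)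
  exact (L.cj_8a h (e' ▸ c.sq hu)).imp fun _ d => c.trans (e' ▸ d)

theorem cj_all (hu : u * u = 1) : u ∈ UU.Z K ∨ L.Cj u (x6 1) ∨ L.Cj u (x5 1) ∨ L.Cj u (x7 1) ∨
    ∃ e, L.Cj u (x8 1 * x4 e) := by
  have h8 : u.b8 = 0 := by
    have := congrArg UU.a8 hu
    uus at this
    exact cj_eq0 (by grind)
  by_cases h : u.a8 = 0
  · by_cases h1 : u.a1 = 0
    · exact (L.cj_F hu h1 h8 h).imp_right (Or.imp_right (Or.imp_right .inl))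
    · obtain ⟨a1, b8, b2, a8, b6, b4, a7, a2, a3, a5, a6, a4⟩ := u
      obtain rfl : b8 = 0 := h8
      obtain rfl : a8 = 0 := h
      exact .inr (.inr (.inr (.inl (L.cj_1a h1 hu))))
  · exact .inr (.inr (.inr (.inr (L.cj_8 hu h8 h))))

theorem invol {u : UU K} (hu : u * u = 1) : u ∈ UU.Z K ∨ ∃ c ∈ L.C,
    c * L.ι u * c⁻¹ = L.ι (x6 1) ∨ c * L.ι u * c⁻¹ = L.ι (x5 1) ∨ c * L.ι u * c⁻¹ = L.ι (x7 1) ∨
      ∃ e, c * L.ι u * c⁻¹ = L.ι (x8 1 * x4 e) := by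
  rcases L.cj_all hu with e | ⟨c, hc, e⟩ | ⟨c, hc, e⟩ | ⟨c, hc, e⟩ | ⟨a, c, hc, e⟩
  · exact .inl e
  · exact .inr ⟨c, hc, .inl e⟩
  · exact .inr ⟨c, hc, .inr (.inl e)⟩
  · exact .inr ⟨c, hc, .inr (.inr (.inl e))⟩
  · exact .inr ⟨c, hc, .inr (.inr (.inr ⟨a, e⟩))⟩

end Lc

end Cfsg.Lib.Oct
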