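import Cfsg.Agent.Oct.LcA
import Cfsg.Agent.Oct.Inv

/-!
# Fusion of the central involutions
-/

set_option autoImplicit false
set_option linter.unusedSectionVars false
set_option maxRecDepth 100000

namespace Cfsg.Lib.Oct

open Subgroup Function Cfsg.Lib.Trans Cfsg.Lib.Gold UU
open scoped commutatorElement

variable {K : Type*} [Field K] [TwF K]

namespace StB

theorem cen_R {u : UU K} (hu : u ∈ R K) (h : ∀ t ∈ R K, u * t = t * u) : u ∈ V K := by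
  have h1 := h (y8 1) rfl
  have h2 := h (y2 1) rfl
  have h3 := h (x8 1) rfl
  have h4 := h (y6 1) rfl
  have h5 := h (y4 1) rfl
  have h6 := h (x7 1) rfl
  have h7 := h (x2 1) rfl
  have h8 := h (x3 1) rfl
  have h9 := h (x5 1) rfl
  simp only [mem_R] at hu
  simp only [UU.ext_iff] at h1 h2 h3 h4 h5 h6 h7 h8 h9
  uus [hu] at h1 h2 h3 h4 h5 h6 h7 h8 h9
  simp only [mem_V]
  grind

theorem cen_T5 {u : UU K} (hu : u ∈ T5 K) (h : ∀ t ∈ T5 K, u * t = t * u) : u ∈ E5 K := by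
  have h1 := h (x1 1) ⟨rfl, rfl⟩
  have h3 := h (x8 1) ⟨rfl, rfl⟩
  have h4 := h (y6 1) ⟨rfl, rfl⟩
  have h5 := h (y4 1) ⟨rfl, rfl⟩
  have h6 := h (x7 1) ⟨rfl, rfl⟩
  have h7 := h (x2 1) ⟨rfl, rfl⟩
  have h8 := h (x3 1) ⟨rfl, rfl⟩
  have h9 := h (x6 1) ⟨rfl, rfl⟩
  obtain ⟨e1, e2⟩ := hu
  simp only [UU.ext_iff] at h1 h3 h4 h5 h6 h7 h8 h9
  uus [e1, e2] at h1 h3 h4 h5 h6 h7 h8 h9
  simp only [mem_E5]
  grind

theorem E5_comm {u t : UU K} (hu : u ∈ E5 K) (ht : t ∈ T5 K) : u * t = t * u := by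
  obtain ⟨e1, e2⟩ := ht
  obtain ⟨h1, h2, h3, h4, h5, h6, h7, h8, h9, h10⟩ := hu
  uu [e1, e2, h1, h2, h3, h4, h5, h6, h7, h8, h9, h10]

theorem V_comm {u t : UU K} (hu : u ∈ V K) (ht : t ∈ R K) : u * t = t * u := by
  simp only [mem_R] at ht
  obtain ⟨h1, h2, h3, h4, h5, h6, h7, h8, h9, h10⟩ := hu
  uu [ht, h1, h2, h3, h4, h5, h6, h7, h8, h9, h10]

theorem comm_x6 (t : UU K) : ⁅x6 (1 : K), t⁆ = x4 t.a1 := by
  rw [commutatorElement_def, mul_inv_eq_iff_eq_mul, mul_inv_eq_iff_eq_mul]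
  uu

theorem onto_T5 {u : UU K} (hu : u ∈ T5 K) (h : ∀ t ∈ T5 K, ⁅u, t⁆ ∈ E5 K) (hn : u ∉ E5 K) (c : K) :
    ∃ t ∈ T5 K, ⁅u, t⁆ = x4 c := by
  have k : ∀ t ∈ T5 K, ∃ a b, u * t = x5 a * x4 b * (t * u) := fun t ht =>
    ⟨_, _, by rw [← eq_of_mem_E5 (h t ht), commutatorElement_def]; group⟩
  obtain ⟨a1, b1, h1⟩ := k (x1 1) ⟨rfl, rfl⟩
  obtain ⟨a3, b3, h3⟩ := k (x8 1) ⟨rfl, rfl⟩
  obtain ⟨a5, b5, h5⟩ := k (y4 1) ⟨rfl, rfl⟩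
  obtain ⟨a6, b6, h6⟩ := k (x7 1) ⟨rfl, rfl⟩
  obtain ⟨a8, b8, h8⟩ := k (x3 1) ⟨rfl, rfl⟩
  obtain ⟨e1, e2⟩ := hu
  simp only [UU.ext_iff] at h1 h3 h5 h6 h8
  uus [e1, e2] at h1 h3 h5 h6 h8
  have f1 : u.a1 = 0 := by grind
  have f2 : u.a8 = 0 := by grind
  have f3 : u.a7 = 0 := by grind
  have f4 : u.b4 = 0 := by grind
  have f5 : u.b6 = 0 := by grind
  have k2 : ∀ t : UU K, u * t = x4 c * (t * u) → ⁅u, t⁆ = x4 c := fun t e => by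
    rw [commutatorElement_def, e]; group
  by_cases g2 : u.a2 ≠ 0
  · exact ⟨x7 (c / u.a2), ⟨rfl, rfl⟩, k2 _ (by uu [e1, e2, f1, f2, f3, f4, f5])⟩
  rw [not_not] at g2
  by_cases g3 : u.a3 ≠ 0
  · exact ⟨y6 (c / u.a3), ⟨rfl, rfl⟩, k2 _ (by uu [e1, e2, f1, f2, f3, f4, f5, g2])⟩
  rw [not_not] at g3
  have g6 : u.a6 ≠ 0 := fun g6 => hn ⟨f1, e1, e2, f2, f5, f4, f3, g2, g3, g6⟩
  exact ⟨x1 (c / u.a6), ⟨rfl, rfl⟩, k2 _ (by uu [e1, e2, f1, f2, f3, f4, f5, g2, g3])⟩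

theorem c7a {a b : UU K} (ha : a ∈ T7 K) (hb : b ∈ T7 K) : ⁅a, b⁆ ∈ W7 K := by
  obtain ⟨h1, h2, h3, h4⟩ := ha
  obtain ⟨g1, g2, g3, g4⟩ := hb
  simp only [mem_W7]
  uus [h1, h2, h3, h4, g1, g2, g3, g4]
  grind

theorem c8a {a b : UU K} (ha : a ∈ T8 K) (hb : b ∈ T8 K) : ⁅a, b⁆ ∈ W7 K := by
  obtain ⟨h1, h2, h3, h4⟩ := ha
  obtain ⟨g1, g2, g3, g4⟩ := hb
  simp only [mem_W7]
  uus [h1, h2, h3, h4, g1, g2, g3, g4]
  grind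

theorem c7b {w c : UU K} (hw : w ∈ W7 K) (h1 : c.a1 = 0) (h2 : c.b2 = 0) (h3 : c.a2 = 0) : ⁅w, c⁆ ∈ V6 K := by
  obtain ⟨g1, g2, g3, g4, g5, g6, g7⟩ := hw
  have : w * c = x6 ((w * c).a6 + (c * w).a6) * (c * w) := by uu [h1, h2, h3, g1, g2, g3, g4, g5, g6, g7]
  rw [commutatorElement_def, this]
  simp only [mul_assoc, mul_inv_cancel, mul_one]
  simp

theorem comm_eq {H : Type*} [Group H] {a b c : H} (h : a * b = c * (b * a)) : ⁅a, b⁆ = c := by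
  rw [commutatorElement_def, h]; group

theorem c7c : ⁅⁅x3 (1 : K), y8 (1 : K)⁆, y8 (1 : K)⁆ = x6 1 := by
  rw [comm_eq (a := x3 (1 : K)) (c := x5 1 * x6 1 * x4 1) (by uu)]
  exact comm_eq (by uu)

theorem c8c : ⁅⁅y4 (1 : K), y6 (1 : K)⁆, y8 (1 : K)⁆ = x6 1 := by
  rw [comm_eq (a := y4 (1 : K)) (c := x5 1) (by uu)]
  exact comm_eq (by uu)

theorem T5_comm {u : UU K} (hu : u ∈ T5 K) : u * x5 1 = x5 1 * u := by
  obtain ⟨e1, e2⟩ := hu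
  uu [e1, e2]

theorem T7_comm {u : UU K} (hu : u ∈ T7 K) : u * x7 1 = x7 1 * u := by
  obtain ⟨e1, e2, e3, e4⟩ := hu
  uu [e1, e2, e3, e4]

theorem T8_comm {u : UU K} (hu : u ∈ T8 K) (e : K) : u * (x8 1 * x4 e) = x8 1 * x4 e * u := by
  obtain ⟨e1, e2, e3, e4⟩ := hu
  uu [e1, e2, e3, e4]

theorem conj_V {u : UU K} (hu : u ∈ V K) (h : u.a6 ≠ 0) :
    x1 (u.a4 / u.a6) * u * (x1 (u.a4 / u.a6))⁻¹ = x6 u.a6 := by
  obtain ⟨h1, h2, h3, h4, h5, h6, h7, h8, h9, h10⟩ := hu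
  uu [h1, h2, h3, h4, h5, h6, h7, h8, h9, h10]

theorem cen_T7 {u : UU K} (hu : u ∈ T7 K) (h : ∀ t ∈ T7 K, u * t = t * u) :
    u ∈ V K ∨ ∃ s, s * u * s⁻¹ = u * x6 1 := by
  have h1 := h (y8 1) ⟨rfl, rfl, rfl, rfl⟩
  have h3 := h (x8 1) ⟨rfl, rfl, rfl, rfl⟩
  have h4 := h (y6 1) ⟨rfl, rfl, rfl, rfl⟩
  have h8 := h (x3 1) ⟨rfl, rfl, rfl, rfl⟩
  have h9 := h (x5 1) ⟨rfl, rfl, rfl, rfl⟩
  obtain ⟨e1, e2, e3, e4⟩ := hu
  simp only [UU.ext_iff] at h1 h3 h4 h8 h9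
  uus [e1, e2, e3, e4] at h1 h3 h4 h8 h9
  have f1 : u.b8 = 0 := by grind
  have f2 : u.a8 = 0 := by grind
  have f3 : u.a3 = 0 := by grind
  have f4 : u.b6 = 0 := by grind
  have f5 : u.a5 = 0 := by grind
  by_cases f : u.a7 = 0
  · exact .inl ⟨e1, f1, e2, f2, f4, e3, f, e4, f3, f5⟩
  refine .inr ⟨y4 u.a7⁻¹, ?_⟩
  rw [mul_inv_eq_iff_eq_mul]
  uu [e1, e2, e3, e4, f1, f2, f3, f4, f5]

theorem cen_T8 {u : UU K} (hu : u ∈ T8 K) (h : ∀ t ∈ T8 K, u * t = t * u) :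
    u ∈ V K ∨ ∃ s, s * u * s⁻¹ = u * x6 1 := by
  have h1 := h (y8 1) ⟨rfl, rfl, rfl, rfl⟩
  have h3 := h (x7 1) ⟨rfl, rfl, rfl, rfl⟩
  have h4 := h (y6 1) ⟨rfl, rfl, rfl, rfl⟩
  have h8 := h (y4 1) ⟨rfl, rfl, rfl, rfl⟩
  have h9 := h (x5 1) ⟨rfl, rfl, rfl, rfl⟩
  obtain ⟨e1, e2, e3, e4⟩ := hu
  simp only [UU.ext_iff] at h1 h3 h4 h8 h9
  uus [e1, e2, e3, e4] at h1 h3 h4 h8 h9
  have f1 : u.b8 = 0 := by grind
  have f2 : u.a7 = 0 := by grind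
  have f3 : u.b4 = 0 := by grind
  have f4 : u.b6 = 0 := by grind
  have f5 : u.a5 = 0 := by grind
  by_cases f : u.a8 = 0
  · exact .inl ⟨e1, f1, e2, f, f4, f3, f2, e3, e4, f5⟩
  refine .inr ⟨x3 u.a8⁻¹, ?_⟩
  rw [mul_inv_eq_iff_eq_mul]
  uu [e1, e2, e3, e4, f1, f2, f3, f4, f5]

end StB

open StB

variable {ρ : RK K} {G : Type*} [Group G] [Finite K] [Finite G]

namespace Lc

variable {L : Lc ρ G}

theorem conj_ι {A : Subgroup (UU K)} {k : G} (hk : k ∈ Ns (A.map L.ι)) {u : UU K} (hu : u ∈ A) :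
    ∃ v ∈ A, L.ι v = k * L.ι u * k⁻¹ := mem_normalizer_conj hk (L.ι_mem_map.2 hu)

theorem conj_cen {A : Subgroup (UU K)} {k : G} (hk : k ∈ Ns (A.map L.ι)) {u v : UU K}
    (e : L.ι v = k * L.ι u * k⁻¹) (h : ∀ t ∈ A, u * t = t * u) : ∀ t ∈ A, v * t = t * v := fun t ht => by
  obtain ⟨s, hs, es⟩ := conj_ι (inv_mem hk) ht
  have e1 : L.ι t = k * L.ι s * k⁻¹ := by rw [es]; group
  refine L.inj ?_
  have := congrArg L.ι (h s hs)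
  rw [map_mul, map_mul] at this
  rw [map_mul, map_mul, e, e1]
  calc _ = k * (L.ι u * L.ι s) * k⁻¹ := by group
    _ = _ := by rw [this]; group

theorem conj_comm {k : G} {u v s t : UU K} (e : L.ι v = k * L.ι u * k⁻¹) (e' : L.ι t = k * L.ι s * k⁻¹) :
    L.ι ⁅v, t⁆ = k * L.ι ⁅u, s⁆ * k⁻¹ := by
  simp only [commutatorElement_def, map_mul, map_inv, e, e']; group

theorem Base.gl2 (b : L.Base) {z g : G} (hz : z ∈ L.Z) {u : UU K} (e : g * z * g⁻¹ = L.ι u)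
    {A : Subgroup (UU K)} (hA : A ≠ ⊤) (h1 : ∀ a ∈ A, a * u = u * a)
    (h2 : ∀ c ∈ L.C, Commute c (L.ι u) → c ∈ A.map L.ι) : ∃ k ∈ Ns (A.map L.ι), k ∉ Ns L.Z := by
  have hS : cj g L.S ≤ C1 (L.ι u) := cj_le_iff.2 fun s hs => mem_centralizer_singleton_iff.2 (by
    have := (L.C_le_CZ (L.S_le hs) z hz).symm
    rw [← e]
    calc _ = g * (s * z) * g⁻¹ := by group
      _ = _ := by rw [this]; group)
  have s1 : IsSylowIn 2 (cj g L.S) (C1 (L.ι u)) := (b.syl.cj_of_mem (mem_top g)).mono hS le_top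
  have hT : A.map L.ι ≤ C1 (L.ι u) := by
    rintro _ ⟨a, ha, rfl⟩
    exact mem_centralizer_singleton_iff.2 (by rw [← map_mul, h1 a ha, map_mul])
  obtain ⟨P, hP, hTP⟩ := exists_isSylowIn_ge (L.S_two.to_le (map_le_range _ A)) hT
  have lt : A.map L.ι < P := lt_of_le_of_ne hTP fun e' => by
    have c1 := hP.card_eq_card s1
    rw [card_cj, ← e'] at c1
    have := eq_of_le_of_card_ge (map_le_range L.ι A) c1.ge
    rw [MonoidHom.range_eq_map] at this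
    exact hA (map_injective L.inj this)
  obtain ⟨k, hk, hk'⟩ := SetLike.exists_of_lt (lt_inf_normalizer hP.isPGroup lt)
  refine ⟨k, hk.2, fun hZ => hk' ?_⟩
  obtain ⟨j, hj⟩ := hP.isPGroup ⟨k, hk.1⟩
  exact h2 k (b.two hZ (congrArg Subtype.val hj)) (mem_centralizer_singleton_iff.1 (hP.le hk.1))

theorem Base.fus_x6 (b : L.Base) {z g : G} (hz : z ∈ L.Z) {t : K} (ht : t ≠ 0)
    (e : g * z * g⁻¹ = L.ι (x6 t)) : L.Fus := by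
  obtain ⟨k, hk, hk'⟩ := b.gl2 hz e (A := UU.R K) (fun h => by simpa using h.ge (mem_top (x1 (1 : K))))
    (fun a ha => (V_comm (by simp) ha).symm) fun c hc h => L.cent_x6 hc ht h
  refine ⟨b, k, mem_normalizer_of_cj_le (cj_le_iff.2 ?_), hk'⟩
  rintro _ ⟨u, hu, rfl⟩
  obtain ⟨v, hv, ev⟩ := conj_ι hk (u := u) hu.1
  rw [← ev]
  exact L.ι_mem_map.2 (cen_R hv (conj_cen hk ev fun t ht => V_comm hu ht))

theorem Base.fus_V (b : L.Base) {z g : G} (hz : z ∈ L.Z) {u : UU K} (hu : u ∈ UU.V K) (h : u.a6 ≠ 0)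
    (e : g * z * g⁻¹ = L.ι u) : L.Fus :=
  b.fus_x6 hz h (g := L.ι (x1 (u.a4 / u.a6)) * g) (by
    rw [← conj_V hu h, map_mul, map_mul, map_inv, ← e]; group)

theorem Base.not_x5 (b : L.Base) {z : G} (hz : z ∈ L.Z) (g : G) : g * z * g⁻¹ ≠ L.ι (x5 1) := by
  intro e
  obtain ⟨k, hk, hk'⟩ := b.gl2 hz e (A := T5 K) (fun h => by simpa using h.ge (mem_top (y8 (1 : K))))
    (fun a ha => T5_comm ha) fun c hc h => L.cent_x5 hc h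
  obtain ⟨u, hu, eu⟩ := conj_ι hk (u := x6 1) ⟨rfl, rfl⟩
  have key : ∀ t ∈ T5 K, ∃ c, L.ι ⁅u, t⁆ = k * L.ι (x4 c) * k⁻¹ := fun t ht => by
    obtain ⟨s, -, es⟩ := conj_ι (inv_mem hk) ht
    exact ⟨s.a1, by rw [← comm_x6, ← conj_comm (t := t) eu (by rw [es]; group)]⟩
  have h1 : ∀ t ∈ T5 K, ⁅u, t⁆ ∈ E5 K := fun t ht => by
    obtain ⟨c, hc⟩ := key t ht
    exact cen_T5 (by
      rw [commutatorElement_def]; exact mul_mem (mul_mem (mul_mem hu ht) (inv_mem hu)) (inv_mem ht))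
      (conj_cen hk hc fun s _ => x4_comm c s)
  have h2 : u ∉ E5 K := fun h => by
    have := conj_cen (inv_mem hk) (u := u) (v := x6 1) (by rw [eu]; group) (fun t ht => E5_comm h ht) (x1 1) ⟨rfl, rfl⟩
    have h3 := comm_x6 (x1 (1 : K))
    rw [commutatorElement_eq_one_iff_mul_comm.2 this] at h3
    simpa using h3.symm
  refine hk' (inv_mem_iff.1 (mem_normalizer_of_cj_le (cj_le_iff.2 ?_)))
  rintro _ ⟨v, hv, rfl⟩
  obtain ⟨t, ht, et⟩ := onto_T5 hu h1 h2 v.a4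
  obtain ⟨c, hc⟩ := key t ht
  rw [eq_of_mem_Z hv, ← et, hc]
  exact ⟨x4 c, by simp, by group⟩

theorem Base.fus_T (b : L.Base) {A : Subgroup (UU K)} {k : G} (hk : k ∈ Ns (A.map L.ι)) (hk' : k ∉ Ns L.Z)
    (hZ : ∀ c, x4 c ∈ A) (h3 : ∀ a ∈ A, ∀ b ∈ A, ∀ c ∈ A, ⁅⁅a, b⁆, c⁆ ∈ UU.V6 K)
    (hd : ∃ a ∈ A, ∃ b ∈ A, ∃ c ∈ A, ⁅⁅a, b⁆, c⁆ = x6 1)
    (hc : ∀ u ∈ A, (∀ t ∈ A, u * t = t * u) → u ∈ UU.V K ∨ ∃ s, s * u * s⁻¹ = u * x6 1) : L.Fus := by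
  obtain ⟨_, ⟨w, hw, rfl⟩, hz'⟩ : ∃ z ∈ L.Z, k * z * k⁻¹ ∉ L.Z := by
    by_contra! h
    exact hk' (mem_normalizer_of_cj_le (cj_le_iff.2 h))
  have hz : L.ι w ∈ L.Z := L.ι_mem_map.2 hw
  obtain ⟨c, rfl⟩ : ∃ c, w = x4 c := ⟨_, eq_of_mem_Z hw⟩
  obtain ⟨u, hu, eu⟩ := conj_ι hk (hZ c)
  rcases hc u hu (conj_cen hk eu fun t _ => x4_comm c t) with h | ⟨s, hs⟩
  · refine b.fus_V hz h (fun h6 => hz' ?_) eu.symm
    rw [← eu]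
    obtain ⟨h1, h2, h3, h4, h5, h6', h7, h8, h9, h10⟩ := h
    exact L.ι_mem_map.2 ⟨h1, h2, h3, h4, h5, h6', h7, h8, h9, h10, h6⟩
  obtain ⟨a1, ha1, a2, ha2, a3, ha3, ea⟩ := hd
  obtain ⟨b1, hb1, e1⟩ := conj_ι (inv_mem hk) ha1
  obtain ⟨b2, hb2, e2⟩ := conj_ι (inv_mem hk) ha2
  obtain ⟨b3, hb3, e3⟩ := conj_ι (inv_mem hk) ha3
  have ev := conj_comm (conj_comm e1 e2) e3
  have hv := h3 b1 hb1 b2 hb2 b3 hb3
  generalize ⁅⁅b1, b2⁆, b3⁆ = v at ev hv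
  obtain ⟨t, rfl⟩ : ∃ t, v = x6 t := ⟨_, eq_of_mem_V6 hv⟩
  rw [ea] at ev
  have ht : t ≠ 0 := by
    rintro rfl
    rw [x6_zero, map_one, eq_comm, conj_eq_one_iff, map_eq_one_iff _ L.inj] at ev
    simp at ev
  refine b.fus_V hz (u := x4 c * x6 t) (by simp) (by simpa using ht) (g := k⁻¹ * L.ι s * k) ?_
  have := congrArg L.ι hs
  simp only [map_mul, map_inv, eu] at this
  rw [map_mul, ev]
  calc _ = k⁻¹ * (L.ι s * (k * L.ι (x4 c) * k⁻¹) * (L.ι s)⁻¹) * k := by group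
    _ = _ := by rw [this]; group

theorem Base.fus_of (b : L.Base) {z g : G} (hz : z ∈ L.Z) (h1 : g * z * g⁻¹ ∈ L.S) (h2 : g * z * g⁻¹ ∉ L.Z) :
    L.Fus := by
  obtain ⟨u, eu⟩ := h1
  have hu : u * u = 1 := by
    obtain ⟨w, hw, rfl⟩ := hz
    refine L.inj ?_
    rw [map_mul, eu, map_one]
    calc _ = g * L.ι (w * w) * g⁻¹ := by rw [map_mul]; group
      _ = 1 := by rw [eq_of_mem_Z hw, x4_sq, map_one]; group
  have k : ∀ c : G, c * g * z * (c * g)⁻¹ = c * L.ι u * c⁻¹ := fun c => by rw [eu]; group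
  rcases L.invol hu with h | ⟨c, -, h | h | h | ⟨e, h⟩⟩
  · exact absurd (eu ▸ L.ι_mem_map.2 h) h2
  · exact b.fus_x6 hz one_ne_zero ((k c).trans h)
  · exact absurd ((k c).trans h) (b.not_x5 hz _)
  · obtain ⟨k, hk, hk'⟩ := b.gl2 hz ((k c).trans h) (A := T7 K)
      (fun h => by simpa using h.ge (mem_top (x1 (1 : K)))) (fun a ha => T7_comm ha) fun c hc h => L.cent_x7 hc h
    exact b.fus_T hk hk' (by simp) (fun a ha b hb c hc => c7b (c7a ha hb) hc.1 hc.2.1 hc.2.2.2)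
      ⟨_, by simp, _, by simp, _, by simp, c7c⟩ fun u hu => cen_T7 hu
  · obtain ⟨k, hk, hk'⟩ := b.gl2 hz ((k c).trans h) (A := T8 K)
      (fun h => by simpa using h.ge (mem_top (x1 (1 : K)))) (fun a ha => T8_comm ha e)
      fun c hc h => L.cent_x8 hc e h
    exact b.fus_T hk hk' (by simp) (fun a ha b hb c hc => c7b (c8a ha hb) hc.1 hc.2.1 hc.2.2.1)
      ⟨_, by simp, _, by simp, _, by simp, c8c⟩ fun u hu => cen_T8 hu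

end Lc

end Cfsg.Lib.Oct
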