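import Cfsg.Agent.Oct.LcA

/-!
# The conjugates of `Z` in `V`
-/

set_option autoImplicit false
set_option linter.unusedSectionVars false
set_option maxRecDepth 100000

namespace Cfsg.Lib.Oct

open Subgroup Function Cfsg.Lib.Trans Cfsg.Lib.Gold UU

variable {K : Type*} [Field K] [TwF K] {ρ : RK K} {G : Type*} [Group G]

namespace Lc

variable {L : Lc ρ G} {g g' y z : G} {a b : K}

/-- The elements of `V`. -/
def X64 (L : Lc ρ G) (a b : K) : G := L.ι (x6 a * x4 b)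

theorem X64_mul (a b c d : K) : L.X64 a b * L.X64 c d = L.X64 (a + c) (b + d) := by
  rw [X64, X64, ← map_mul]; exact congrArg L.ι (by uu)

theorem x1_X64 (t a b : K) : L.ι (x1 t) * L.X64 a b * (L.ι (x1 t))⁻¹ = L.X64 a (b + t * a) := by
  rw [X64, ← map_inv, ← map_mul, ← map_mul]; exact congrArg L.ι (by uu)

theorem h_X64 (β : Kˣ) (a b : K) : L.h β * L.X64 a b * (L.h β)⁻¹ = L.X64 (β * σ (β : K) * a) b := by
  rw [X64, L.hι, map_mul, tl_x6, tl_x4, X64]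

theorem X64_inj {c d : K} : L.X64 a b = L.X64 c d ↔ a = c ∧ b = d :=
  ⟨fun e => ⟨by simpa using congrArg a6 (L.inj e), by simpa using congrArg a4 (L.inj e)⟩, fun ⟨e, f⟩ => e ▸ f ▸ rfl⟩

theorem X64_eq_one : L.X64 a b = 1 ↔ a = 0 ∧ b = 0 := by
  rw [← X64_inj (L := L)]; simp [X64]

theorem mem_V_iff : y ∈ L.V ↔ ∃ a b, y = L.X64 a b :=
  ⟨fun ⟨_, hu, e⟩ => ⟨_, _, e ▸ congrArg L.ι (eq_of_mem_V hu)⟩, fun ⟨a, b, e⟩ => e ▸ L.ι_mem_map.2 (by simp)⟩

theorem X64_mem_Z : L.X64 a b ∈ L.Z ↔ a = 0 := L.ι_mem_map.trans (by simp)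

theorem X64_mem_V6 : L.X64 a b ∈ L.V6 ↔ b = 0 := L.ι_mem_map.trans (by simp)

theorem x1_mul_x1 (t : K) : L.ι (x1 t) * L.ι (x1 t) = 1 := by rw [← map_mul, x1_sq, map_one]

variable [Finite K] [Finite G]

theorem Fus.ti' (f : L.Fus) {z g : G} (hz : z ∈ L.Z) (h1 : z ≠ 1) (h : g * z * g⁻¹ ∈ L.Z) : g ∈ Ns L.Z := by
  obtain ⟨τ, hτ, -, T⟩ := f.ti
  replace T := fun g hg => f.toBase.NC_le (T g hg)
  obtain ⟨k, hk, nk⟩ := f.fus
  have hV : ∀ z ∈ L.Z, ∃ a b, k * z * k⁻¹ = L.X64 a b := fun z hz => mem_V_iff.1 (mem_normalizer_conj hk (L.Z_le_V hz))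
  obtain ⟨a, b, e⟩ := hV τ hτ
  have a0 : a ≠ 0 := fun h => nk (T k (e ▸ X64_mem_Z.2 h))
  obtain ⟨c, d, e'⟩ := hV z hz
  have c0 : c ≠ 0 := by
    rintro rfl
    have e1 := x1_X64 (L := L) (d / a) a b
    have s := x1_mul_x1 (L := L) (d / a)
    have hc := L.C_le_CZ (f.toBase.two (k := 1) (T (k⁻¹ * L.ι (x1 (d / a)) * k) ?_) ?_)
    · have e2 := conj_eq_of_mem_centralizer hc hτ
      rw [← e, show L.ι (x1 (d / a)) * (k * τ * k⁻¹) * (L.ι (x1 (d / a)))⁻¹ = k * τ * k⁻¹ by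
        conv_rhs => rw [← e2]
        group, e, X64_inj, div_mul_cancel₀ _ a0] at e1
      rw [show d = 0 by simpa using e1, X64_eq_one.2 ⟨rfl, rfl⟩] at e'
      exact h1 (by simpa using e')
    · rw [div_mul_cancel₀ _ a0, ← add_zero a, ← X64_mul, add_zero, ← e, ← e'] at e1
      convert mul_mem hτ hz using 1
      calc _ = k⁻¹ * (L.ι (x1 (d / a)) * (k * τ * k⁻¹) * (L.ι (x1 (d / a)))⁻¹) * k := by group
        _ = _ := by rw [e1]; group
    · calc _ = k⁻¹ * (L.ι (x1 (d / a)) * L.ι (x1 (d / a))) * k := by rw [pow_one, pow_two]; group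
        _ = _ := by rw [s]; group
  obtain ⟨β, hβ⟩ := exists_N1 (c / a)
  have β0 : β ≠ 0 := by rintro rfl; exact div_ne_zero c0 a0 (by simpa using hβ.symm)
  have e1 := h_X64 (L := L) (Units.mk0 β β0) a b
  have e2 := x1_X64 (L := L) ((b + d) / c) c b
  rw [Units.val_mk0, hβ, div_mul_cancel₀ _ a0, ← e] at e1
  rw [div_mul_cancel₀ _ c0, show b + (b + d) = d by grind, ← e', ← e1] at e2
  generalize L.ι _ = u at e2
  generalize L.h _ = v at e2
  have e3 : k⁻¹ * u * v * k * τ * (k⁻¹ * u * v * k)⁻¹ = z := by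
    calc _ = k⁻¹ * (u * (v * (k * τ * k⁻¹) * v⁻¹) * u⁻¹) * k := by group
      _ = _ := by rw [e2]; group
  have := mul_mem (T (g * (k⁻¹ * u * v * k)) (by convert h using 1; rw [← e3]; group)) (inv_mem (T _ (e3 ▸ hz)))
  rwa [mul_inv_cancel_right] at this

theorem Fus.cj_eq (f : L.Fus) (h1 : y ≠ 1) (h : y ∈ cj g L.Z) (h' : y ∈ cj g' L.Z) : cj g L.Z = cj g' L.Z := by
  have := f.ti' (g := g'⁻¹ * g) (mem_cj.1 h) (fun e => h1 (by simpa [mul_eq_one_iff_eq_inv] using e))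
    (by convert mem_cj.1 h' using 1; group)
  rw [← mul_inv_cancel_left g' g, cj_mul, cj_eq_of_mem_normalizer this]

theorem Fus.exists_V6 (f : L.Fus) : ∃ g ∈ Ns L.V, cj g L.Z = L.V6 := by
  obtain ⟨k, hk, nk⟩ := f.fus
  have key : ∀ k ∈ Ns L.V, k ∉ Ns L.Z → ∃ F : K → K, ∀ a b, L.X64 a b ∈ cj k L.Z ↔ b = F a := by
    intro k hk nk
    have h0 : ∀ b, L.X64 0 b ∈ cj k L.Z → b = 0 := fun b hb => by_contra fun n => nk (cj_eq_self_iff.1
      ((f.cj_eq (mt X64_eq_one.1 fun h => n h.2) hb (g' := 1) (by simpa using X64_mem_Z.2 rfl)).trans (cj_one _)))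
    choose A B e using fun c => mem_V_iff.1 (mem_normalizer_conj hk (L.Z_le_V (X64_mem_Z (L := L) (b := c).2 rfl)))
    have m : ∀ c, L.X64 (A c) (B c) ∈ cj k L.Z := fun c => e c ▸ conj_mem_cj.2 (X64_mem_Z.2 rfl)
    have un : ∀ {a b b'}, L.X64 a b ∈ cj k L.Z → L.X64 a b' ∈ cj k L.Z → b = b' := fun {a b b'} h h' => by
      have := mul_mem h h'
      rw [X64_mul, CharTwo.add_self_eq_zero] at this
      exact CharTwo.add_eq_zero.1 (h0 _ this)
    have inj : Injective A := fun c d h => by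
      have := e c
      rw [un (m c) (h ▸ m d), h, ← e d] at this
      exact (X64_inj.1 (by simpa using this)).2
    choose C hC using Finite.surjective_of_injective inj
    exact ⟨fun a => B (C a), fun a b => ⟨fun h => un h (by simpa [hC] using m (C a)),
      fun h => by simpa [hC, h] using m (C a)⟩⟩
  obtain ⟨F, hF⟩ := key k hk nk
  have hk' := mul_mem (L.B_le_NV (L.ι_B (x1 (F 1)))) hk
  obtain ⟨F', hF'⟩ := key _ hk' fun h => nk (by
    simpa only [inv_mul_cancel_left] using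
      mul_mem (inv_mem (centralizer_le_normalizer _ (L.C_le_CZ (L.ι_mem (x1 (F 1)))))) h)
  have m1 : L.X64 1 0 ∈ cj (L.ι (x1 (F 1)) * k) L.Z := by
    have := x1_X64 (L := L) (F 1) 1 (F 1)
    rw [mul_one, CharTwo.add_self_eq_zero] at this
    rw [cj_mul, ← this]
    exact conj_mem_cj.2 ((hF _ _).2 rfl)
  generalize L.ι (x1 (F 1)) * k = k at hk' hF' m1
  clear hF F
  have add : ∀ a c, F' (a + c) = F' a + F' c := fun a c =>
    ((hF' _ _).1 (by rw [← X64_mul]; exact mul_mem ((hF' a _).2 rfl) ((hF' c _).2 rfl))).symm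
  have mul : ∀ l ≠ 0, ∀ e, F' (l * e) = F' e + F' l * e := by
    intro l l0 e
    obtain ⟨β, hβ⟩ := exists_N1 l
    have β0 : β ≠ 0 := by rintro rfl; exact l0 (by simpa using hβ.symm)
    have e1 := fun a b => h_X64 (L := L) (Units.mk0 β β0) a b
    simp only [Units.val_mk0, hβ] at e1
    have e2 := x1_X64 (L := L) (F' l / l) l (F' l)
    rw [div_mul_cancel₀ _ l0, CharTwo.add_self_eq_zero] at e2
    have e3 := f.cj_eq (y := L.X64 l 0) (g := L.h (Units.mk0 β β0) * k) (g' := L.ι (x1 (F' l / l)) * k)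
      (mt X64_eq_one.1 fun h => l0 h.1) (by rw [cj_mul, ← mul_one l, ← e1]; exact conj_mem_cj.2 m1)
      (by rw [cj_mul, ← e2]; exact conj_mem_cj.2 ((hF' _ _).2 rfl))
    have := conj_mem_cj (g := L.h (Units.mk0 β β0)).2 ((hF' e _).2 rfl)
    rw [e1, cj_cj, e3, cj_mul, mul_eq_one_iff_eq_inv.1 (x1_mul_x1 _), mem_cj_inv, x1_X64, hF'] at this
    rw [← this]; field_simp
  have F1 := (hF' _ _).1 m1
  have F0 : ∀ e, F' e = 0 := fun e => by
    rcases eq_or_ne e 0 with rfl | e0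
    · simpa using add 0 0
    rcases eq_or_ne e 1 with rfl | e1
    · exact F1.symm
    have h1 := mul (e + 1) (mt CharTwo.add_eq_zero.1 e1) e
    rw [add_mul, add, add, mul e e0, one_mul, ← F1] at h1
    grind
  refine ⟨k, hk', le_antisymm (fun y hy => ?_) fun y hy => ?_⟩
  · obtain ⟨a, b, rfl⟩ := mem_V_iff.1 (cj_eq_of_mem_normalizer hk' ▸ cj_mono k L.Z_le_V hy)
    exact X64_mem_V6.2 (((hF' _ _).1 hy).trans (F0 _))
  · obtain ⟨a, b, rfl⟩ := mem_V_iff.1 (L.V6_le_V hy)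
    exact (hF' _ _).2 ((X64_mem_V6.1 hy).trans (F0 _).symm)

theorem Fus.line (f : L.Fus) {g : G} (h : cj g L.Z ≤ L.V) :
    cj g L.Z = L.Z ∨ ∃ t, cj g L.Z = cj (L.ι (x1 t)) L.V6 := by
  have m := conj_mem_cj (g := g).2 (X64_mem_Z (L := L) (b := 1).2 rfl)
  have n : g * L.X64 0 1 * g⁻¹ ≠ 1 := by simp [X64_eq_one]
  obtain ⟨a, b, e⟩ := mem_V_iff.1 (h m)
  rw [e] at m n
  rcases eq_or_ne a 0 with rfl | a0
  · exact .inl ((f.cj_eq n m (g' := 1) (by simpa using X64_mem_Z.2 rfl)).trans (cj_one _))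
  obtain ⟨k, -, ek⟩ := f.exists_V6
  refine .inr ⟨b / a, ?_⟩
  have := conj_mem_cj (g := L.ι (x1 (b / a))).2 (X64_mem_V6 (L := L) (a := a).2 rfl)
  rw [x1_X64, zero_add, div_mul_cancel₀ _ a0, ← ek, cj_cj] at this
  rw [f.cj_eq n m this, ← ek, cj_cj]

theorem Fus.exists_swap (f : L.Fus) : ∃ x, L.Swap x := by
  obtain ⟨k, hk, ek⟩ := f.exists_V6
  rcases f.line (g := k⁻¹) (cj_eq_of_mem_normalizer (inv_mem hk) ▸ cj_mono _ L.Z_le_V) with e | ⟨t, e⟩
  · have := X64_mem_V6 (L := L) (a := 0) (b := 1)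
    rw [← ek, ← e, cj_cj_inv, X64_mem_Z] at this
    simp at this
  · refine ⟨L.ι (x1 t) * k⁻¹, ?_, ?_⟩
    · rw [cj_mul, e, cj_cj, x1_mul_x1, cj_one]
    · rw [cj_mul, ← ek, cj_inv_cj, cj_eq_of_mem_centralizer (L.C_le_CZ (L.ι_mem _))]

end Lc

end Cfsg.Lib.Oct
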