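import Cfsg.Agent.Oct.LcA
import Cfsg.Agent.Oct.StepC0
import Cfsg.Agent.Trans.Offender
import Cfsg.Agent.Solv.SchurZassenhaus

/-!
# Groups with the local structure of ²F₄(q): a torus
-/

set_option autoImplicit false
set_option linter.unusedSectionVars false
set_option maxRecDepth 100000

namespace Cfsg.Lib.Oct

open Subgroup Function Cfsg.Lib.Trans Cfsg.Lib.Trans.TJ Cfsg.Lib.Gold UU
open scoped commutatorElement

variable {K : Type*} [Field K] [TwF K] {ρ : RK K} {G : Type*} [Group G] [Finite K] [Finite G]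

namespace C1

theorem exists_compl {S H : Subgroup G} (hS : IsSylowIn 2 S H) (hn : H ≤ Ns S) :
    ∃ K ≤ H, Odd (Nat.card K) ∧ ∀ g ∈ H, ∃ s ∈ S, ∃ k ∈ K, s * k = g := by
  have : Fact (Nat.Prime 2) := ⟨Nat.prime_two⟩
  have := normal_subgroupOf_of_le_normalizer hn
  have ho : Odd (S.subgroupOf H).index := Nat.not_even_iff_odd.1 fun e => hS.not_dvd e.two_dvd
  obtain ⟨n, e⟩ := IsPGroup.iff_card.1 (isPGroup_subgroupOf hS.isPGroup H)
  obtain ⟨K, hK⟩ := exists_right_complement'_of_coprime (N := S.subgroupOf H)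
    (e ▸ (Nat.coprime_two_left.2 ho).pow_left n)
  refine ⟨K.map H.subtype, map_subtype_le _, ?_, fun g hg => ?_⟩
  · rwa [card_map_of_injective H.subtype_injective, ← hK.symm.index_eq_card]
  · obtain ⟨⟨a, k⟩, e⟩ := hK.2 ⟨g, hg⟩
    exact ⟨a.1, a.2, k.1, ⟨k, k.2, rfl⟩, congrArg Subtype.val e⟩

theorem cj_Cs (g : G) (A : Subgroup G) : cj g (Cs A) = Cs (cj g A) := cj_centralizer g A

variable (L : Lc ρ G)

/-- The stabiliser of `Z` and `V₆`. -/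
abbrev P : Subgroup G := Ns L.Z ⊓ Ns L.V6

/-- The stabiliser of `V₆` in `C`. -/
abbrev B6 : Subgroup G := L.C ⊓ Ns L.V6

theorem V_eq : L.Z ⊔ L.V6 = L.V := by
  rw [← Subgroup.map_sup]
  congr 1
  refine le_antisymm (sup_le (fun u hu => ?_) fun u hu => ?_) fun u hu => ?_
  · simp_all
  · simp_all
  · rw [eq_of_mem_V hu]
    exact mul_mem (mem_sup_right (by simp)) (mem_sup_left (by simp))

theorem R_le_S : L.R ≤ L.S := map_le_range _ _

theorem R_le_6 : L.R ≤ Cs L.V6 := by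
  rintro _ ⟨u, hu, rfl⟩ _ ⟨v, hv, rfl⟩
  rw [← map_mul, ← map_mul, eq_of_mem_V6 hv, x6_mul, mul_x6, mem_R.1 hu, mul_zero, add_zero]

theorem R_le_B : L.R ≤ B6 L :=
  le_inf ((R_le_S L).trans L.S_le) ((R_le_6 L).trans (centralizer_le_normalizer _))

theorem h_memB (β : Kˣ) : L.h β ∈ B6 L := ⟨L.h_mem β, mem_normalizer_of_cj_le (cj_le_iff.2 (by
  rintro _ ⟨v, hv, rfl⟩
  rw [L.hι, L.ι_mem_map, eq_of_mem_V6 hv, tl_x6]
  simp))⟩

theorem B6_le : B6 L ≤ P L := inf_le_inf_right _ (L.C_le_CZ.trans (centralizer_le_normalizer _))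

theorem mem_R_of {g : G} (h1 : g ∈ L.C) (h2 : g ∈ Cs L.V6) : g ∈ L.R :=
  L.cent_x6 h1 one_ne_zero (h2 _ (L.ι_mem_map.2 (by simp))).symm

variable {L} {x y g : G}

theorem sw_V (s : L.Swap x) : x ∈ Ns L.V := cj_eq_self_iff.1 (by
  rw [← V_eq, cj_sup, s.1, s.2, sup_comm])

theorem sw_inv (s : L.Swap x) : L.Swap x⁻¹ :=
  ⟨(cj_eq_iff_eq_cj_inv.1 s.2).symm, (cj_eq_iff_eq_cj_inv.1 s.1).symm⟩

theorem sw_mul (s : L.Swap x) (s' : L.Swap y) : x * y ∈ P L :=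
  ⟨cj_eq_self_iff.1 (by rw [cj_mul, s'.1, s.2]), cj_eq_self_iff.1 (by rw [cj_mul, s'.2, s.1])⟩

theorem sw_P (s : L.Swap x) : cj x (P L) = P L := by
  rw [cj_inf, cj_normalizer, cj_normalizer, s.1, s.2, inf_comm]

theorem P_le_V : P L ≤ Ns L.V := fun _ hg => cj_eq_self_iff.1 (by
  rw [← V_eq, cj_sup, cj_eq_of_mem_normalizer hg.1, cj_eq_of_mem_normalizer hg.2])

variable (b : L.Base)
include b

theorem P_le_R : P L ≤ Ns L.R := P_le_V.trans b.NV_le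

theorem P_le_B : P L ≤ Ns (B6 L) := fun _ hg =>
  inf_normalizer_le_normalizer_inf ⟨b.NZ_le hg.1, le_normalizer hg.2⟩

theorem P_le_S : P L ≤ Ns L.S := fun g hg => mem_normalizer_of_cj_le (cj_le_iff.2 fun s hs => by
  obtain ⟨u, β, e⟩ := L.norm_V (mem_normalizer_conj (b.NZ_le hg.1) (L.S_le hs))
    (mul_mem (mul_mem (P_le_V hg) (b.NS_le (le_normalizer hs)).2) (inv_mem (P_le_V hg)))
  obtain ⟨k, hk⟩ := L.S_two ⟨s, hs⟩
  have h1 : (L.ι u * L.h β) ^ 2 ^ k = 1 := by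
    rw [← e, conj_pow, show s ^ 2 ^ k = 1 from congrArg Subtype.val hk]; group
  rw [e, L.eq_one_of_pow h1, map_one, mul_one]
  exact ⟨u, rfl⟩)

theorem two_mem (hg : g ∈ P L) {k : ℕ} (e : g ^ 2 ^ k = 1) : g ∈ L.R := by
  obtain ⟨u, hu, β, rfl⟩ := L.norm_V6 (b.two hg.1 e) hg.2
  rw [L.eq_one_of_pow e, map_one, mul_one]
  exact ⟨u, hu, rfl⟩

theorem scal (hg : g ∈ P L) (hc : ∀ β, ⁅g, L.h β⁆ ∈ L.S) :
    ∃ a c : K, ∀ u, ∃ v, g * L.ι u * g⁻¹ = L.ι v ∧ v.a1 = a * u.a1 ∧ v.b8 = c * u.b8 := by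
  have ex : ∀ u, ∃ v, L.ι v = g * L.ι u * g⁻¹ := fun u => mem_normalizer_conj (P_le_S b hg) ⟨u, rfl⟩
  choose α₀ hα using ex
  let α : UU K →* UU K := MonoidHom.mk' α₀ fun u v => L.inj (by
    rw [map_mul, hα, hα, hα, map_mul]; group)
  replace hα : ∀ u, L.ι (α u) = g * L.ι u * g⁻¹ := hα
  clear_value α
  have nrm : ∀ A : Subgroup (UU K), g ∈ Ns (A.map L.ι) → ∀ u ∈ A, α u ∈ A := fun A h u hu =>
    L.ι_mem_map.1 (hα u ▸ mem_normalizer_conj h (L.ι_mem_map.2 hu))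
  have two : ∀ t : K, t + t = 0 := CharTwo.add_self_eq_zero
  have h1 : ∀ u, (α u).a1 = (α (x1 u.a1)).a1 := fun u => by
    have := nrm _ (P_le_R b hg) ((x1 u.a1)⁻¹ * u) (by simp [two])
    rw [map_mul, mem_R, mul_a1, map_inv, inv_a1] at this
    linear_combination this - two (α (x1 u.a1)).a1
  have h2 : ∀ u : UU K, u.b8 = 0 → (α u).b8 = 0 := fun u hu => by
    obtain ⟨s, hs⟩ := exists_N1 u.a8
    have := (nrm _ (L.NC_le_NQ (b.NZ_le hg.1)) (u * (y8 s * y8 s)⁻¹)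
      (by simp [two, hu, ← hs, mul_comm])).1
    rwa [map_mul, map_inv, map_mul, mul_b8, inv_b8, mul_b8, two, add_zero] at this
  have h3 : ∀ u, (α u).b8 = (α (y8 u.b8)).b8 := fun u => by
    have := h2 ((y8 u.b8)⁻¹ * u) (by simp [two])
    rw [map_mul, mul_b8, map_inv, inv_b8] at this
    linear_combination this - two (α (y8 u.b8)).b8
  have h4 : ∀ β, ∃ w, ∀ u, α (tl β u) = w * tl β (α u) * w⁻¹ := fun β => by
    obtain ⟨w, e⟩ := hc β
    refine ⟨w, fun u => L.inj ?_⟩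
    rw [map_mul, map_mul, map_inv, e, hα, ← L.hι, ← L.hι, hα, commutatorElement_def]
    group
  refine ⟨(α (x1 1)).a1, (α (y8 1)).b8, fun u => ⟨α u, (hα u).symm, ?_, ?_⟩⟩
  · rw [h1]
    by_cases e : u.a1 = 0
    · rw [e, show x1 (0 : K) = 1 from rfl, map_one, mul_zero]; rfl
    obtain ⟨t, ht⟩ := exists_N1 u.a1⁻¹
    have t0 : t ≠ 0 := fun e' => inv_ne_zero e (by rw [← ht, e', zero_mul])
    obtain ⟨w, hw⟩ := h4 (Units.mk0 t t0)
    have := congrArg UU.a1 (hw (x1 1))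
    rw [tl_x1, mul_a1, mul_a1, inv_a1, tl_a1, Units.val_mk0, ht, inv_inv, mul_one] at this
    linear_combination this + two w.a1
  · rw [h3]
    by_cases e : u.b8 = 0
    · rw [e, show y8 (0 : K) = 1 from rfl, map_one, mul_zero]; rfl
    obtain ⟨t, ht⟩ := exists_σ u.b8
    have t0 : t ≠ 0 := fun e' => e (by rw [← ht, e', map_zero])
    obtain ⟨w, hw⟩ := h4 (Units.mk0 t t0)
    have := congrArg UU.b8 (hw (y8 1))
    rw [tl_y8, mul_b8, mul_b8, inv_b8, tl_b8, Units.val_mk0, ht, mul_one] at this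
    linear_combination this + two w.b8

variable (s : L.Swap x)
include s

theorem J_le : B6 L ⊔ cj x (B6 L) ≤ P L := sup_le (B6_le L) (sw_P s ▸ cj_mono x (B6_le L))

theorem sw_J (s' : L.Swap y) : y ∈ Ns (B6 L ⊔ cj x (B6 L)) := cj_eq_self_iff.1 (by
  have e : cj y (B6 L) = cj x (B6 L) := by
    rw [← mul_inv_cancel_left x y, cj_mul, cj_eq_of_mem_normalizer (P_le_B b (sw_mul (sw_inv s) s'))]
  rw [cj_sup, e, cj_cj, cj_eq_of_mem_normalizer (P_le_B b (sw_mul s' s)), sup_comm])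

theorem comm_h (hg : g ∈ B6 L ⊔ cj x (B6 L)) (β : Kˣ) : ⁅g, L.h β⁆ ∈ L.R := by
  have hR : ∀ γ, L.h γ ∈ Ns L.R := fun γ => P_le_R b (B6_le L (h_memB L γ))
  refine (mem_commStab.1 ((sup_le (fun g hg => ?_) fun g hg => ?_ :
    _ ≤ commStab L.R {L.h β}) hg)).2 _ rfl
  · obtain ⟨u, hu, γ, rfl⟩ := L.norm_V6 hg.1 hg.2
    have hu' : L.ι u ∈ L.R := ⟨u, hu, rfl⟩
    refine mul_mem (mem_commStab.2 ⟨le_normalizer hu', ?_⟩) (mem_commStab.2 ⟨hR γ, ?_⟩)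
    · rintro _ rfl
      rw [commutatorElement_def, mul_assoc, mul_assoc, ← mul_assoc (L.h β)]
      exact mul_mem hu' (mem_normalizer_conj (hR β) (inv_mem hu'))
    · rintro _ rfl
      rw [commutatorElement_eq_one_iff_commute.2 ((Commute.all γ β).map L.h)]
      exact one_mem _
  · have hP := J_le b s (mem_sup_right hg)
    refine mem_commStab.2 ⟨P_le_R b hP, ?_⟩
    rintro _ rfl
    have h1 : ⁅g, L.h β⁆ ∈ B6 L :=
      mul_mem (mem_normalizer_conj (P_le_B b hP) (h_memB L β)) (inv_mem (h_memB L β))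
    have h2 : L.h β ∈ Ns (cj x (B6 L)) :=
      (cj_normalizer x (B6 L)).le (cj_mono x (P_le_B b) ((sw_P s).ge (B6_le L (h_memB L β))))
    have h3 : ⁅g, L.h β⁆ ∈ cj x (B6 L) := by
      rw [commutatorElement_def, mul_assoc, mul_assoc, ← mul_assoc (L.h β)]
      exact mul_mem hg (mem_normalizer_conj h2 (inv_mem hg))
    refine mem_R_of L h1.1 ?_
    rw [← s.1, ← cj_Cs]
    exact cj_mono x (inf_le_left.trans L.C_le_CZ) h3

end C1

open C1

theorem Lc.Fus.exists_tor {L : Lc ρ G} (f : L.Fus) : ∃ H, L.Tor H := by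
  have : Fact (Nat.Prime 2) := ⟨Nat.prime_two⟩
  have b := f.toBase
  obtain ⟨x, s⟩ := f.exists_swap
  have hJ := J_le b s
  have hRJ : L.R ≤ B6 L ⊔ cj x (B6 L) := (R_le_B L).trans le_sup_left
  have pR : IsPGroup 2 L.R := L.S_two.to_le (R_le_S L)
  obtain ⟨H, hH, odd, dec⟩ := exists_compl (isSylowIn_of_maximal hRJ pR fun Q hQ _ hle g hg =>
    let ⟨_, hk⟩ := hQ ⟨g, hg⟩
    two_mem b (hJ (hle hg)) (congrArg Subtype.val hk)) (hJ.trans (P_le_R b))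
  have hP := hH.trans hJ
  have e : L.R ⊔ H = B6 L ⊔ cj x (B6 L) := le_antisymm (sup_le hRJ hH) fun g hg =>
    let ⟨_, h1, _, h2, e⟩ := dec g hg
    e ▸ mul_mem_sup h1 h2
  refine ⟨H, odd, ?_, hP.trans inf_le_left, hP.trans inf_le_right, fun g hg => ?_,
    fun y s' => e ▸ sw_J b s s', ?_⟩
  · have ex := fun t : Kˣ × Kˣ => dec (L.h t.1 * (x * L.h t.2 * x⁻¹))
      (mul_mem_sup (h_memB L t.1) (conj_mem_cj.2 (h_memB L t.2)))
    choose r hr k hk ek using ex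
    rw [sq, ← Nat.card_prod]
    refine Nat.card_le_card_of_injective (fun t => (⟨k t, hk t⟩ : H)) fun t t' e => ?_
    have e1 : (r t)⁻¹ * (L.h t.1 * (x * L.h t.2 * x⁻¹)) =
        (r t')⁻¹ * (L.h t'.1 * (x * L.h t'.2 * x⁻¹)) := by
      rw [← ek, ← ek, inv_mul_cancel_left, inv_mul_cancel_left]
      exact congrArg Subtype.val e
    have e2 : x * L.h (t.2 * t'.2⁻¹) * x⁻¹ = (L.h t.1)⁻¹ * r t * (r t')⁻¹ * L.h t'.1 :=
      calc _ = (L.h t.1)⁻¹ * r t * ((r t)⁻¹ * (L.h t.1 * (x * L.h t.2 * x⁻¹))) *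
            (x * L.h t'.2 * x⁻¹)⁻¹ := by rw [map_mul, map_inv]; group
        _ = _ := by rw [e1]; group
    have h1 : x * L.h (t.2 * t'.2⁻¹) * x⁻¹ ∈ Cs L.Z := L.C_le_CZ (e2 ▸ mul_mem (mul_mem (mul_mem
      (inv_mem (L.h_mem _)) (R_le_B L (hr t)).1) (inv_mem (R_le_B L (hr t')).1)) (L.h_mem _))
    rw [← s.2, ← cj_Cs, conj_mem_cj] at h1
    obtain ⟨u, -, eu⟩ := mem_R_of L (L.h_mem _) h1
    have h2 : t.2 = t'.2 := mul_inv_eq_one.1
      (L.small_inj (u := 1) (u' := u) (β' := 1) (by rw [map_one, map_one, one_mul, mul_one, eu])).2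
    obtain ⟨v, -, ev⟩ := inv_mem (hr t)
    obtain ⟨v', -, ev'⟩ := inv_mem (hr t')
    rw [← ev, ← ev', h2, ← mul_assoc, ← mul_assoc (L.ι v'), mul_left_inj] at e1
    exact Prod.ext (L.small_inj e1).2 h2
  · obtain ⟨a, c, h1⟩ := scal b (hP hg) fun β => R_le_S L (comm_h b s (hH hg) β)
    obtain ⟨a', c', h2⟩ := scal b (hP (inv_mem hg)) fun β => R_le_S L (comm_h b s (hH (inv_mem hg)) β)
    obtain ⟨v, e1, k1, k2⟩ := h1 (x1 1 * y8 1)
    obtain ⟨w, e2, k3, k4⟩ := h2 v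
    have e3 : x1 1 * y8 1 = w := L.inj (by rw [← e2, ← e1]; group)
    subst e3
    have a0 : a ≠ 0 := fun e => by simp [k1, e] at k3
    have c0 : c ≠ 0 := fun e => by simp [k2, e] at k4
    exact ⟨Units.mk0 a a0, Units.mk0 c c0, h1⟩
  · obtain ⟨n, en⟩ := IsPGroup.iff_card.1 pR
    obtain ⟨k, hk, ek⟩ := Solv.schur_zassenhaus_conj_ambient L.R H (cj x H) (hP.trans (P_le_R b))
      (en ▸ (Nat.coprime_two_right.2 odd).pow_right n) (Or.inr (by have := pR.isNilpotent; infer_instance))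
      (e ▸ (cj_mono x hH).trans (cj_eq_of_mem_normalizer (sw_J b s s)).le) (card_cj x H)
    rw [conj_smul_eq_cj] at ek
    refine ⟨k⁻¹ * x, cj_eq_self_iff.1 (by rw [cj_mul, ← ek, cj_inv_cj]), ?_, ?_⟩
    · rw [cj_mul, s.1, cj_eq_of_mem_normalizer (inv_mem (R_le_B L hk).2)]
    · rw [cj_mul, s.2, cj_eq_of_mem_normalizer (inv_mem (B6_le L (R_le_B L hk)).1)]

end Cfsg.Lib.Oct
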