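import Cfsg.Agent.Oct.Defs
import Cfsg.Agent.S4207

/-!
# Groups with the local structure of ²F₄(q): the Frattini subgroup of the Sylow subgroup
-/

set_option autoImplicit false
set_option linter.unusedSectionVars false
set_option maxRecDepth 100000

namespace Cfsg.Lib.Oct

open Subgroup Function Cfsg.Lib.Trans Cfsg.Lib.Gold UU
open scoped commutatorElement

variable {K : Type*} [Field K] [TwF K]

namespace C2

theorem mem_of {Φ : Subgroup (UU K)} {w : UU K} (h1 : x1 w.a1 ∈ Φ) (h2 : y8 w.b8 ∈ Φ)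
    (h3 : y2 w.b2 ∈ Φ) (h4 : x8 w.a8 ∈ Φ) (h5 : y6 w.b6 ∈ Φ) (h6 : y4 w.b4 ∈ Φ) (h7 : x7 w.a7 ∈ Φ)
    (h8 : x2 w.a2 ∈ Φ) (h9 : x3 w.a3 ∈ Φ) (h10 : x5 w.a5 ∈ Φ) (h11 : x6 w.a6 ∈ Φ)
    (h12 : x4 w.a4 ∈ Φ) : w ∈ Φ := by
  rw [nf w]
  exact mul_mem (mul_mem (mul_mem (mul_mem (mul_mem (mul_mem (mul_mem (mul_mem (mul_mem (mul_mem
    (mul_mem h1 h2) h3) h4) h5) h6) h7) h8) h9) h10) h11) h12

theorem z0 {Φ : Subgroup (UU K)} {l : K → UU K} (h0 : l 0 = 1) {c : K} (hc : c = 0) : l c ∈ Φ := by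
  rw [hc, h0]; exact one_mem _

/-- The centre of `R`. -/
theorem mem_V_iff {u : UU K} : u ∈ V K ↔ u ∈ R K ∧ ∀ r ∈ R K, r * u = u * r := by
  constructor
  · intro hu
    refine ⟨hu.1, fun r hr => ?_⟩
    rw [eq_of_mem_V hu]
    have h : r.a1 = 0 := hr
    uu [h]
  · rintro ⟨h1, h⟩
    have h1 : u.a1 = 0 := h1
    have e1 := h (y8 1) rfl
    have e2 := h (y2 1) rfl
    have e3 := h (x8 1) rfl
    have e4 := h (y6 1) rfl
    have e5 := h (y4 1) rfl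
    have b8 : u.b8 = 0 := by have := congrArg b4 e2; uus [h1] at this; grind
    have b2 : u.b2 = 0 := by have := congrArg b6 e1; uus [h1] at this; grind
    have a8 : u.a8 = 0 := by have := congrArg a7 e2; uus [h1] at this; grind
    have b6 : u.b6 = 0 := by have := congrArg a7 e1; uus [h1, b2, b8] at this; grind
    have b4 : u.b4 = 0 := by have := congrArg a3 e2; uus [h1, b2, b8] at this; grind
    have a7 : u.a7 = 0 := by have := congrArg a6 e5; uus [h1, b2, b8, a8, b6] at this; grind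
    have a2 : u.a2 = 0 := by have := congrArg a3 e1; uus [h1, b2, b8] at this; grind
    have a3 : u.a3 = 0 := by have := congrArg a6 e3; uus [h1, b2, b8, a2, b6, b4] at this; grind
    have a5 : u.a5 = 0 := by have := congrArg a6 e1; uus [h1, b2, b8, a2, b6, b4] at this; grind
    exact ⟨h1, b8, b2, a8, b6, b4, a7, a2, a3, a5⟩

theorem c81 (t u : K) : ⁅x8 t, x1 u⁆.a1 = 0 ∧ ⁅x8 t, x1 u⁆.b8 = 0 ∧ ⁅x8 t, x1 u⁆.b2 = 0 ∧
    ⁅x8 t, x1 u⁆.a8 = 0 ∧ ⁅x8 t, x1 u⁆.b6 = t * u ∧ ⁅x8 t, x1 u⁆.b4 = t * σ u := by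
  simp [commutatorElement_def]; grind

variable [Finite K]

theorem exists_ne (q : 2 < Nat.card K) : ∃ a : K, a ≠ 0 ∧ a ≠ 1 := by
  by_contra! h
  have := Nat.card_le_card_of_surjective (![0, 1] : Fin 2 → K) fun a => by
    by_cases e : a = 0
    exacts [⟨0, e.symm⟩, ⟨1, (h a e).symm⟩]
  simp at this
  omega

theorem F_le (q : 2 < Nat.card K) : F K ≤ frattini (UU K) := by
  have : Fact (Nat.Prime 2) := ⟨Nat.prime_two⟩
  have hp := UU.isPGroup K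
  have := hp.isNilpotent
  have sq : ∀ u : UU K, u * u ∈ frattini (UU K) := fun u => pow_two u ▸ Solv.pow_mem_frattini hp u
  have cm : ∀ u v : UU K, ⁅u, v⁆ ∈ frattini (UU K) := fun u v =>
    Solv.commutator_le_frattini_of_isNilpotent (commutator_mem_commutator (mem_top u) (mem_top v))
  generalize frattini (UU K) = Φ at sq cm
  have N : ∀ {l m : K → UU K}, (∀ t, l t * l t = m (σ t * t)) → ∀ s, m s ∈ Φ := fun h s => by
    obtain ⟨t, rfl⟩ := exists_N1 s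
    rw [mul_comm, ← h]; exact sq _
  have h4 := N y4_sq
  have h6 := N y6_sq
  have h2 := N y2_sq
  have h8 := N y8_sq
  have h5 : ∀ s, x5 s ∈ Φ := fun s => by
    rw [show x5 s = ⁅x2 s, x8 1⁆ * x4 (σ s) * x6 s by uu]
    exact mul_mem (mul_mem (cm _ _) (h4 _)) (h6 _)
  have h3 : ∀ s, x3 s ∈ Φ := fun s => by
    rw [show x3 s = ⁅y4 s, y2 1⁆ by uu]; exact cm _ _
  have h7 : ∀ s, x7 s ∈ Φ := fun s => by
    rw [show x7 s = ⁅y6 s, y8 1⁆ by uu]; exact cm _ _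
  have low : ∀ w : UU K, w.a1 = 0 → w.b8 = 0 → w.b2 = 0 → w.b6 = 0 → w.b4 = 0 → w ∈ Φ :=
    fun w e1 e2 e3 e4 e5 => mem_of (z0 x1_zero e1) (z0 y8_zero e2) (z0 y2_zero e3) (h8 _)
      (z0 y6_zero e4) (z0 y4_zero e5) (h7 _) (h2 _) (h3 _) (h5 _) (h6 _) (h4 _)
  have k4 : ∀ s, y4 s ∈ Φ := fun s => by
    obtain ⟨a, a0, a1⟩ := exists_ne q
    have h : a + σ a ≠ 0 := fun e => by
      have e1 : σ a = a := by grind
      have e2 := σσ a
      rw [e1, e1] at e2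
      grind
    obtain ⟨t, rfl⟩ : ∃ t, t * (a + σ a) = s := ⟨s / (a + σ a), div_mul_cancel₀ s h⟩
    refine (mul_mem_cancel_left (mul_mem (cm (x8 (t * a)) (x1 1)) (cm (x8 t) (x1 a)))).1
      (low _ ?_ ?_ ?_ ?_ ?_) <;> simp [c81] <;> grind
  have k6 : ∀ s, y6 s ∈ Φ := fun s => by
    refine (mul_mem_cancel_left (mul_mem (cm (x8 s) (x1 1)) (k4 s))).1
      (low _ ?_ ?_ ?_ ?_ ?_) <;> simp [c81] <;> grind
  have low' : ∀ w : UU K, w.a1 = 0 → w.b8 = 0 → y2 w.b2 ∈ Φ → w ∈ Φ :=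
    fun w e1 e2 e3 => mem_of (z0 x1_zero e1) (z0 y8_zero e2) e3 (h8 _) (k6 _)
      (k4 _) (h7 _) (h2 _) (h3 _) (h5 _) (h6 _) (h4 _)
  have k2 : ∀ s, y2 s ∈ Φ := fun s => by
    refine (mul_mem_cancel_left (cm (y8 s) (x1 1))).1 (low' _ ?_ ?_ (z0 y2_zero ?_)) <;>
      simp [commutatorElement_def] <;> grind
  exact fun w hw => low' w hw.1 hw.2 (k2 _)

variable (K) in
/-- The automorphisms that are trivial modulo `F`. -/
def P0 : Subgroup (MulAut (UU K)) where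
  carrier := {β | ∀ u, (β u).a1 = u.a1 ∧ (β u).b8 = u.b8}
  mul_mem' := fun {a b} ha hb u => ⟨(ha (b u)).1.trans (hb u).1, (ha (b u)).2.trans (hb u).2⟩
  one_mem' := fun _ => ⟨rfl, rfl⟩
  inv_mem' := fun {a} ha u => by
    have := ha (a⁻¹ u)
    rw [MulAut.apply_inv_self] at this
    exact ⟨this.1.symm, this.2.symm⟩

theorem P0_two (q : 2 < Nat.card K) : IsPGroup 2 (P0 K) := by
  have : Fact (Nat.Prime 2) := ⟨Nat.prime_two⟩
  obtain ⟨n, hn⟩ := IsPGroup.iff_card.1 (UU.isPGroup K)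
  obtain ⟨r, hr⟩ := IsPGroup.iff_card.1 ((UU.isPGroup K).to_quotient (frattini (UU K)))
  obtain ⟨k, -, hk⟩ := (Nat.dvd_prime_pow Nat.prime_two).1
    (Cfsg.Agent.S4207.result hn hr (P0 K) fun α hα x => F_le q ⟨by
      simp [(hα x).1, CharTwo.add_self_eq_zero], by simp [(hα x).2, CharTwo.add_self_eq_zero]⟩)
  exact IsPGroup.of_card hk

end C2

end Cfsg.Lib.Oct
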