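import Cfsg.Agent.Oct.StepC0
import Cfsg.Agent.Oct.StepC2A
import Cfsg.Agent.Solv.SchurZassenhaus

/-!
# Groups with the local structure of ²F₄(q): coordinates adapted to the torus
-/

set_option autoImplicit false
set_option linter.unusedSectionVars false
set_option maxRecDepth 100000

namespace Cfsg.Lib.Oct

open Subgroup Function Cfsg.Lib.Trans Cfsg.Lib.Gold UU
open scoped commutatorElement Pointwise

variable {K : Type*} [Field K] [TwF K] {ρ : RK K} {G G' : Type*} [Group G] [Group G']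

namespace C2

variable (L L' : Lc ρ G)

/-- The embedding of the Sylow subgroup in `C`. -/
abbrev cι : UU K →* L.C := L.ι.codRestrict _ L.ι_mem

/-- The embedding of the torus in `C`. -/
abbrev ch : Kˣ →* L.C := L.h.codRestrict _ L.h_mem

/-- The reflection in `C`. -/
abbrev cn : L.C := ⟨L.n, L.n_mem⟩

theorem cι_inj : Injective (cι L) := fun _ _ e => L.inj (congrArg Subtype.val e)

theorem V_eq : L.V = L.R ⊓ Cs L.R := by
  apply le_antisymm
  · rintro _ ⟨u, hu, rfl⟩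
    refine ⟨⟨u, hu.1, rfl⟩, ?_⟩
    rintro _ ⟨r, hr, rfl⟩
    rw [← map_mul, ← map_mul, (mem_V_iff.1 hu).2 r hr]
  · rintro _ ⟨⟨u, hu, rfl⟩, h⟩
    exact ⟨u, mem_V_iff.2 ⟨hu, fun r hr => L.inj (by
      rw [map_mul, map_mul]; exact h _ ⟨r, hr, rfl⟩)⟩, rfl⟩

theorem Q_le (hC : L'.C = L.C) (hS : L'.S = L.S) : L'.Q ≤ L.Q :=
  L.le_Q (hS ▸ map_le_range _ _) (L'.C_le_NQ (hC ▸ L.n_mem))

theorem Z_le (hC : L'.C = L.C) : L'.Z ≤ L.Z := fun z hz =>
  L.cent_Q (hC ▸ L'.S_le (map_le_range _ _ hz)) fun _ hq =>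
    (L'.C_le_CZ (hC ▸ L.S_le (map_le_range _ _ hq)) z hz).symm

theorem Z_sq {z : G} (hz : z ∈ L.Z) : z * z = 1 := by
  obtain ⟨u, hu, rfl⟩ := hz
  rw [← map_mul, eq_of_mem_Z hu, x4_sq, map_one]

/-- An automorphism of `C` centralising `S` has order at most two. -/
theorem sq_of_fix {α : MulAut L.C} (h : ∀ u, α (cι L u) = cι L u) : α * α = 1 := by
  refine MulEquiv.ext fun c => ?_
  obtain ⟨z, hz, e⟩ : ((c⁻¹ * α c : L.C) : G) ∈ L.Z := by
    refine L.cent_Q (c⁻¹ * α c).2 ?_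
    rintro _ ⟨u, hu, rfl⟩
    obtain ⟨v, -, hv⟩ := mem_normalizer_conj (L.C_le_NQ c.2) ⟨u, hu, rfl⟩
    have e1 : cι L v = c * cι L u * c⁻¹ := Subtype.ext hv
    have e2 := h v
    rw [e1, map_mul, map_mul, map_inv, h] at e2
    have e3 : cι L u * (c⁻¹ * α c) = c⁻¹ * α c * cι L u := by
      calc _ = c⁻¹ * (c * cι L u * c⁻¹) * α c := by group
        _ = _ := by rw [← e2]; group
    exact congrArg Subtype.val e3
  have e1 : α c = c * cι L z := by
    rw [show cι L z = c⁻¹ * α c from Subtype.ext e, mul_inv_cancel_left]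
  rw [MulAut.mul_apply, e1, map_mul, h, e1, mul_assoc, ← map_mul, eq_of_mem_Z hz, x4_sq, map_one,
    mul_one, MulAut.one_apply]

/-- The automorphism normalises `S` and acts on `S / F` by the scalars `t`. -/
def Sc (α : MulAut L.C) (t : Kˣ × Kˣ) : Prop :=
  ∃ β : MulAut (UU K), (∀ u, α (cι L u) = cι L (β u)) ∧
    ∀ u, (β u).a1 = t.1 * u.a1 ∧ (β u).b8 = t.2 * u.b8

variable {L}

theorem Sc.mul {α α' : MulAut L.C} {t t' : Kˣ × Kˣ} (h : Sc L α t) (h' : Sc L α' t') :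
    Sc L (α * α') (t * t') := by
  obtain ⟨β, h1, h2⟩ := h
  obtain ⟨β', h1', h2'⟩ := h'
  exact ⟨β * β', fun u => by rw [MulAut.mul_apply, h1', h1, MulAut.mul_apply],
    fun u => by simp [h2, h2', mul_assoc]⟩

theorem Sc.inv {α : MulAut L.C} {t : Kˣ × Kˣ} (h : Sc L α t) : Sc L α⁻¹ t⁻¹ := by
  obtain ⟨β, h1, h2⟩ := h
  refine ⟨β⁻¹, fun u => α.injective (by rw [MulAut.apply_inv_self, h1, MulAut.apply_inv_self]),
    fun u => ?_⟩
  have := h2 (β⁻¹ u)
  rw [MulAut.apply_inv_self] at this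
  simp [this.1, this.2]

theorem Sc.of [Finite K] {α : MulAut L.C} {t : Kˣ × Kˣ}
    (h : ∀ u, ∃ v, α (cι L u) = cι L v ∧ v.a1 = t.1 * u.a1 ∧ v.b8 = t.2 * u.b8) : Sc L α t := by
  choose f h1 h2 using h
  let g : UU K →* UU K := MonoidHom.mk' f fun a b => cι_inj L (by
    rw [← h1, map_mul, map_mul, map_mul, h1, h1])
  exact ⟨MulEquiv.ofBijective g (Finite.injective_iff_bijective.1 fun a b e =>
    cι_inj L (α.injective (by rw [h1, h1]; exact congrArg _ e))), h1, h2⟩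

variable (L)

/-- The automorphisms of `C` acting trivially on `S / F`. -/
def OO : Subgroup (MulAut L.C) where
  carrier := {α | Sc L α 1}
  mul_mem' := fun ha hb => by simpa using Sc.mul ha hb
  one_mem' := ⟨1, fun _ => rfl, fun _ => by simp⟩
  inv_mem' := fun ha => by simpa using Sc.inv ha

variable [Finite K]

theorem OO_two (q : 2 < Nat.card K) : IsPGroup 2 (OO L) := by
  rintro ⟨α, β, h1, h2⟩
  obtain ⟨k, hk⟩ := P0_two q ⟨β, fun u => by simpa using h2 u⟩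
  have h3 : ∀ (n : ℕ) u, (α ^ n) (cι L u) = cι L ((β ^ n) u) := fun n => by
    induction n with
    | zero => exact fun _ => rfl
    | succ n ih => exact fun u => by rw [pow_succ, pow_succ, MulAut.mul_apply, h1, ih]; rfl
  refine ⟨k + 1, Subtype.ext ?_⟩
  change α ^ 2 ^ (k + 1) = 1
  rw [pow_succ, pow_mul, pow_two]
  exact sq_of_fix L fun u => by rw [h3, show β ^ 2 ^ k = 1 from congrArg Subtype.val hk]; rfl

variable [Finite G] {L} {H : Subgroup G}

theorem exists_k (q : 2 < Nat.card K) (b : L.Base) (t : L.Tor H) (τ : Kˣ × Kˣ →* MulAut L.C)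
    (τι : ∀ s u, τ s (cι L u) = cι L (tor (s.1 : K) (s.2 : K) u)) :
    ∃ k ∈ OO L, ∃ η : Kˣ × Kˣ →* G, η.range = H ∧
      ∀ s (c : L.C), η s * k c * (η s)⁻¹ = k (τ s c) := by
  have : Fact (Nat.Prime 2) := ⟨Nat.prime_two⟩
  let r : H →* MulAut L.C := L.C.normalizerMonoidHom.comp (inclusion (t.nZ.trans b.NZ_le))
  have hr : ∀ (g : H) (c : L.C), (r g c : G) = g * c * g⁻¹ := fun _ _ => rfl
  have r1 : Injective r := (injective_iff_map_eq_one _).2 fun g e => Subtype.ext (by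
    have h1 : (g : G) ∈ L.Z := b.cQ fun x hx => by
      have := hr g ⟨x, L.S_le (map_le_range _ _ hx)⟩
      rw [e, MulAut.one_apply] at this
      exact eq_mul_inv_iff_mul_eq.1 this
    have h2 : orderOf (g : G) ∣ 2 := orderOf_dvd_of_pow_eq_one (by rw [pow_two, Z_sq L h1])
    exact orderOf_eq_one_iff.1 (Nat.Coprime.eq_one_of_dvd (Nat.coprime_two_right.2
      (t.odd.of_dvd_nat (orderOf_dvd_natCard H g.2))) h2))
  have τ1 : Injective τ := (injective_iff_map_eq_one _).2 fun s e => by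
    have h1 := cι_inj L ((τι s (x1 1)).symm.trans (by rw [e, MulAut.one_apply]))
    have h2 := cι_inj L ((τι s (y8 1)).symm.trans (by rw [e, MulAut.one_apply]))
    rw [tor_x1, x1_inj, mul_one] at h1
    rw [tor_y8, y8_inj, mul_one] at h2
    exact Prod.ext (Units.ext h1) (Units.ext h2)
  have τs : ∀ s, Sc L (τ s) s := fun s => Sc.of fun u => ⟨_, τι s u, rfl, rfl⟩
  have nO : τ.range ≤ Ns (OO L) := by
    rintro _ ⟨s, rfl⟩
    refine mem_normalizer_of_cj_le (cj_le_iff.2 fun α hα => ?_)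
    have := ((τs s).mul hα).mul (τs s).inv
    rwa [mul_one, mul_inv_cancel] at this
  have cτ : Nat.card τ.range = Nat.card Kˣ ^ 2 := by
    rw [← Nat.card_congr (MonoidHom.ofInjective τ1).toEquiv, Nat.card_prod, pow_two]
  have cr : Nat.card r.range = Nat.card H := (Nat.card_congr (MonoidHom.ofInjective r1).toEquiv).symm
  obtain ⟨n, hn⟩ := IsPGroup.iff_card.1 (OO_two L q)
  have le : r.range ≤ OO L ⊔ τ.range := by
    rintro _ ⟨g, rfl⟩
    obtain ⟨a, a', h⟩ := t.sc g g.2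
    have h1 : Sc L (r g) (a, a') := Sc.of fun u =>
      let ⟨v, e, e'⟩ := h u; ⟨v, Subtype.ext e, e'⟩
    have h2 : r g * (τ (a, a'))⁻¹ ∈ OO L := by
      have := h1.mul (τs (a, a')).inv
      rwa [mul_inv_cancel] at this
    simpa using mul_mem_sup h2 (show τ (a, a') ∈ τ.range from ⟨_, rfl⟩)
  obtain ⟨k, hk, e⟩ := Solv.schur_zassenhaus_conj_ambient (OO L) τ.range r.range nO
    (by rw [hn, cτ]; exact (Nat.coprime_two_right.2 (odd_units K).pow).pow_right n)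
    (Or.inr (have := (OO_two L q).isNilpotent; inferInstance)) le (by
      refine le_antisymm (Nat.le_of_dvd Nat.card_pos ?_) (by rw [cτ, cr]; exact t.card)
      refine Nat.Coprime.dvd_of_dvd_mul_left (m := 2 ^ n)
        ((Nat.coprime_two_right.2 (cr ▸ t.odd)).pow_right n) ?_
      rw [← hn, ← Solv.card_sup_mul_card_inf_of_le_normalizer nO]
      exact (card_dvd_of_le le).mul_right _)
  have m : ∀ s, k * τ s * k⁻¹ ∈ r.range := fun s => e ▸ conj_mem_cj.2 ⟨s, rfl⟩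
  let η : Kˣ × Kˣ →* H := (MonoidHom.ofInjective r1).symm.toMonoidHom.comp
    (((MulAut.conj k).toMonoidHom.comp τ).codRestrict _ m)
  have hη : ∀ s, r (η s) = k * τ s * k⁻¹ := fun s =>
    MonoidHom.apply_ofInjective_symm r1 ⟨_, m s⟩
  refine ⟨k, hk, H.subtype.comp η, le_antisymm (by rintro _ ⟨s, rfl⟩; exact (η s).2)
    fun g hg => ?_, fun s c => ?_⟩
  · obtain ⟨_, ⟨s, rfl⟩, e'⟩ := e.ge ⟨⟨g, hg⟩, rfl⟩
    exact ⟨s, congrArg Subtype.val (r1 ((hη s).trans e'))⟩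
  · have := hr (η s) (k c)
    rw [hη, MulAut.mul_apply, MulAut.mul_apply, MulAut.inv_apply_self] at this
    exact this.symm

theorem fix_V6 (q : 2 < Nat.card K) (M : Lt ρ G) {s : K}
    (h : M.η.range ≤ Ns (cj (M.ι (x1 s)) M.V6)) : s = 0 := by
  obtain ⟨a, a0, a1⟩ := exists_ne q
  have h1 := mem_cj.1 (mem_normalizer_conj (h ⟨(Units.mk0 a a0, 1), rfl⟩)
    (conj_mem_cj.2 (M.ι_mem_map.2 (show x6 1 ∈ UU.V6 K by simp))))
  rw [← map_inv, ← map_mul, ← map_mul, M.ηι, ← map_mul, ← map_mul, M.ι_mem_map] at h1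
  have h2 := h1.2.2.2.2.2.2.2.2.2.2
  simp only [map_mul, map_inv, tor_x1, tor_x6, Units.val_mk0, Units.val_one] at h2
  uus at h2
  have h3 : s * (a * σ a * (a + 1)) = 0 := by grind
  exact (mul_eq_zero.1 h3).resolve_right (mul_ne_zero (mul_ne_zero a0 ((map_ne_zero σ).2 a0))
    fun e => a1 (by grind))

theorem core (q : 2 < Nat.card K) (f : L.Fus) (t : L.Tor H) (τ : Kˣ × Kˣ →* MulAut L.C)
    (τι : ∀ s u, τ s (cι L u) = cι L (tor (s.1 : K) (s.2 : K) u))
    (τh : ∀ β c, τ (jL β) c = ch L β * c * (ch L β)⁻¹)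
    (τn : ∀ s, τ s (cn L) = ch L (σu s.2) * cn L) :
    ∃ M : Lt ρ G, M.C = L.C ∧ M.Z = L.Z ∧ M.Fus ∧ M.η.range = H ∧ M.Tor H := by
  obtain ⟨k, ⟨κ, k1, k2⟩, η, η1, η2⟩ := exists_k q f.toBase t τ τι
  have inj : Injective (L.C.subtype.comp k.toMonoidHom) := L.C.subtype_injective.comp k.injective
  have hη : ∀ β, (k (ch L β) : G) = η (jL β) := fun β => by
    have h1 : ((k (ch L β) : G))⁻¹ * η (jL β) ∈ Cs L.C := fun c hc => by
      obtain ⟨d, e⟩ := k.surjective ⟨c, hc⟩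
      have h2 := η2 (jL β) d
      rw [τh, map_mul, map_mul, map_inv, e] at h2
      simp only [coe_mul, coe_inv] at h2
      generalize (k (ch L β) : G) = g at h2
      calc _ = g⁻¹ * (g * c * g⁻¹) * η (jL β) := by group
        _ = _ := by rw [← h2]; group
    have h2 := Z_sq L (f.cQ (centralizer_le ((map_le_range _ _).trans L.S_le) h1))
    have h3 : Commute (k (ch L β) : G) (((k (ch L β) : G))⁻¹ * η (jL β)) := h1 _ (k (ch L β)).2
    obtain ⟨m, hm⟩ := odd_units K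
    have h4 := h3.mul_pow (Nat.card Kˣ)
    rw [mul_inv_cancel_left, ← map_pow, ← map_pow, ← coe_pow, ← map_pow, ← map_pow, pow_card_eq_one',
      map_one, map_one, map_one, map_one, coe_one, one_mul, hm, pow_succ, pow_mul, pow_two, h2,
      one_pow, one_mul] at h4
    exact inv_mul_eq_one.1 h4.symm
  let M : Lt ρ G :=
    { toLc := L.map _ inj
      η := η
      ηι := fun s u => (η2 s (cι L u)).trans (by rw [τι]; rfl)
      hη := hη
      ηn := fun s => (η2 s (cn L)).trans (by rw [τn, map_mul]; rfl) }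
  have Mι : ∀ u, M.ι u = L.ι (κ u) := fun u => congrArg Subtype.val (k1 u)
  have Mη : M.η.range = H := η1
  have hC : M.C = L.C := (L.map_C _ inj).trans (by
    rw [MonoidHom.range_comp, MonoidHom.range_eq_top.2 k.surjective, ← MonoidHom.range_eq_map,
      range_subtype])
  clear_value M
  have hS : M.S = L.S := le_antisymm (by rintro _ ⟨u, rfl⟩; exact ⟨_, (Mι u).symm⟩)
    (by rintro _ ⟨u, rfl⟩; exact ⟨κ.symm u, by rw [Mι, κ.apply_symm_apply]⟩)
  have hR : M.R = L.R := le_antisymm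
    (by rintro _ ⟨u, hu, rfl⟩; exact ⟨_, by simpa [k2] using hu, (Mι u).symm⟩)
    (by
      rintro _ ⟨u, hu, rfl⟩
      refine ⟨κ.symm u, ?_, by rw [Mι, κ.apply_symm_apply]⟩
      have := (k2 (κ.symm u)).1
      rw [κ.apply_symm_apply] at this
      simpa [this] using hu)
  have hQ : M.Q = L.Q := le_antisymm (Q_le _ _ hC hS) (Q_le _ _ hC.symm hS.symm)
  have hZ : M.Z = L.Z := le_antisymm (Z_le _ _ hC) (Z_le _ _ hC.symm)
  have hV : M.V = L.V := by rw [V_eq, V_eq, hR]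
  have fM : M.Fus := ⟨⟨hC ▸ f.odd, by rw [hQ, hZ]; exact f.cQ, by rw [hZ, hC]; exact f.ti⟩,
    by rw [hZ, hV]; exact f.fus⟩
  have h6 : M.V6 = L.V6 := by
    obtain ⟨x, -, hx, -⟩ := t.ex
    rw [← hZ] at hx
    rcases fM.line (g := x) (by
      rw [hx, hV]; exact map_mono fun u hu => by simp_all) with e | ⟨s, e⟩
    · rw [hx, hZ] at e
      exact absurd (L.ι_mem_map.1 (e.le (L.ι_mem_map.2 (show x6 1 ∈ UU.V6 K by simp)))) (by simp)
    · rw [hx] at e
      rw [fix_V6 q M (s := s) (by rw [Mη, ← e]; exact t.n6), x1_zero, map_one, cj_one] at e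
      exact e.symm
  have sw : ∀ x, M.Swap x ↔ L.Swap x := fun x => by rw [Lc.Swap, Lc.Swap, hZ, h6]
  refine ⟨M, hC, hZ, fM, Mη, t.odd, t.card, hZ ▸ t.nZ, h6 ▸ t.n6, fun g hg => ?_,
    fun y hy => hR ▸ t.sw y ((sw y).1 hy), ?_⟩
  · obtain ⟨s, rfl⟩ := Mη.ge hg
    exact ⟨s.1, s.2, fun u => ⟨_, M.ηι s u, rfl, rfl⟩⟩
  · obtain ⟨x, h1, h2⟩ := t.ex
    exact ⟨x, h1, (sw x).2 h2⟩

theorem η_Ns [Finite G'] (M : Lt ρ G') (s : Kˣ × Kˣ) : M.η s ∈ Ns M.C :=
  mem_normalizer_of_cj_le (cj_le_iff_le_cj_inv.2 (M.C_le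
    (fun u => mem_cj_inv.2 (M.ηι s u ▸ M.ι_mem _))
    (fun β => mem_cj_inv.2 (by
      rw [M.hη, ← map_inv, ← map_mul, ← map_mul, mul_inv_cancel_comm, ← M.hη]; exact M.h_mem β))
    (mem_cj_inv.2 (M.ηn s ▸ mul_mem (M.h_mem _) M.n_mem))))

end C2

variable [Finite K] [Finite G] [Finite G']

open C2 in
theorem Lt.recoord (M : Lt ρ G') (φ : M.C →* G) (hφ : Injective φ) (q : 2 < Nat.card K)
    (f : (M.toLc.map φ hφ).Fus) {H : Subgroup G} (t : (M.toLc.map φ hφ).Tor H) :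
    ∃ L : Lt ρ G, L.C = φ.range ∧ L.Z = (M.toLc.map φ hφ).Z ∧ L.Fus ∧ L.η.range = H ∧ L.Tor H := by
  let e : M.C ≃* (M.toLc.map φ hφ).C :=
    (MonoidHom.ofInjective hφ).trans (MulEquiv.subgroupCongr (M.toLc.map_C φ hφ).symm)
  let τ : Kˣ × Kˣ →* MulAut M.C := M.C.normalizerMonoidHom.comp (M.η.codRestrict _ (η_Ns M))
  have hτ : ∀ s c, (((MulAut.congr e).toMonoidHom.comp τ) s) (e c) = e (τ s c) := fun s c => by
    simp
  rw [← M.toLc.map_C φ hφ]
  refine core q f t ((MulAut.congr e).toMonoidHom.comp τ) (fun s u => ?_) (fun β c => ?_) fun s => ?_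
  · exact (hτ s (cι M.toLc u)).trans (congrArg e (Subtype.ext (M.ηι s u)))
  · obtain ⟨c, rfl⟩ := e.surjective c
    rw [hτ, show τ (jL β) c = ch M.toLc β * c * (ch M.toLc β)⁻¹ from
      Subtype.ext (by change M.η _ * _ * (M.η _)⁻¹ = _; rw [← M.hη]; rfl), map_mul, map_mul, map_inv]
    rfl
  · refine (hτ s (cn M.toLc)).trans ?_
    rw [show τ s (cn M.toLc) = ch M.toLc (σu s.2) * cn M.toLc from Subtype.ext (M.ηn s), map_mul]
    rfl

end Cfsg.Lib.Oct
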