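import Cfsg.Agent.Oct.StepC3A
import Cfsg.Agent.Oct.StepC0

/-!
# Groups with the local structure of ²F₄(q): the second reflection
-/

set_option autoImplicit false
set_option linter.unusedSectionVars false
set_option maxRecDepth 100000

namespace Cfsg.Lib.Oct

open Subgroup Function Cfsg.Lib.Trans Cfsg.Lib.Gold UU

variable {K : Type*} [Field K] [TwF K] {ρ : RK K} {G : Type*} [Group G] [Finite K] [Finite G]

namespace C3

variable {L : Lt ρ G}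

theorem sup_V : L.Z ⊔ L.V6 = L.V := by
  refine le_antisymm (sup_le (map_mono fun u hu => by simp_all) (map_mono fun u hu => by simp_all)) ?_
  rintro _ ⟨u, hu, rfl⟩
  rw [eq_of_mem_V hu, map_mul]
  exact mul_mem (mem_sup_right (L.ι_mem_map.2 (by simp))) (mem_sup_left (L.ι_mem_map.2 (by simp)))

theorem swap_NV {y : G} (h : L.Swap y) : y ∈ Ns L.V :=
  cj_eq_self_iff.1 (by rw [← sup_V, cj_sup, h.1, h.2, sup_comm])

theorem swap_inv {y : G} (h : L.Swap y) : L.Swap y⁻¹ :=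
  ⟨by rw [← h.2, cj_inv_cj], by rw [← h.1, cj_inv_cj]⟩

theorem comm1 (β : Kˣ) (s : K) : L.η (1, β) * L.ι (x1 s) * (L.η (1, β))⁻¹ = L.ι (x1 s) := by
  rw [L.ηι, tor_x1]; simp

theorem ι_N (f : L.Fus) (u : UU K) : L.ι u ∈ Ns L.Z ⊓ Ns L.V :=
  f.toBase.NS_le (le_normalizer ⟨u, rfl⟩)

theorem line' (f : L.Fus) {x y : G} (hx : L.Swap x) (hy : y ∈ Ns L.V) :
    cj y (cj (L.ι (x1 1)) L.V6) = L.Z ∨
      ∃ s, cj y (cj (L.ι (x1 1)) L.V6) = cj (L.ι (x1 s)) L.V6 := by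
  have h := f.line (g := y * L.ι (x1 1) * x) (by
    rw [← cj_eq_of_mem_normalizer (mul_mem (mul_mem hy (ι_N f (x1 1)).2) (swap_NV hx))]
    exact cj_mono _ (le_sup_left.trans sup_V.le))
  rwa [cj_mul, cj_mul, hx.1] at h

theorem nH1 (f : L.Fus) (t : L.Tor L.η.range) {y : G} (hy : y ∈ Ns L.η.range) (hV : y ∈ Ns L.V)
    (β : Kˣ) : ∃ β', y * L.η (1, β) * y⁻¹ = L.η (1, β') := by
  obtain ⟨x, -, hx⟩ := t.ex
  obtain ⟨⟨a, b⟩, e⟩ := mem_normalizer_conj hy (⟨(1, β), rfl⟩ : L.η (1, β) ∈ L.η.range)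
  have h1 : cj (L.η (1, β)) (cj y⁻¹ (cj (L.ι (x1 1)) L.V6)) = cj y⁻¹ (cj (L.ι (x1 1)) L.V6) := by
    rcases line' f hx (inv_mem hV) with h | ⟨s, h⟩ <;> rw [h]
    · exact cj_eq_of_mem_normalizer (t.nZ ⟨_, rfl⟩)
    · rw [cj_cj, mul_inv_eq_iff_eq_mul.1 (comm1 β s), cj_mul,
        cj_eq_of_mem_normalizer (t.n6 ⟨_, rfl⟩)]
  have h2 : cj (L.η (a, b)) (cj (L.ι (x1 1)) L.V6) = cj (L.ι (x1 1)) L.V6 := by
    rw [e, cj_mul, cj_mul, h1, cj_cj_inv]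
  have h3 : L.η (a, b) * (L.ι (x1 1) * L.ι (x6 1) * (L.ι (x1 1))⁻¹) * (L.η (a, b))⁻¹ ∈
      cj (L.ι (x1 1)) L.V6 := h2 ▸ conj_mem_cj.2 (conj_mem_cj.2 (L.ι_mem_map.2 (by simp)))
  rw [mem_cj, ← map_inv, ← map_mul, ← map_mul, L.ηι, ← map_mul, ← map_mul, L.ι_mem_map,
    show x1 1 * x6 1 * (x1 (1 : K))⁻¹ = x6 1 * x4 1 by uu, map_mul, tor_x6, tor_x4] at h3
  have h4 := h3.2.2.2.2.2.2.2.2.2.2
  uus at h4
  have sa := (map_ne_zero (σ : K →+* K)).2 a.ne_zero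
  have sb := (map_ne_zero (σ : K →+* K)).2 b.ne_zero
  have a0 := a.ne_zero
  have b0 := b.ne_zero
  obtain rfl : a = 1 := Units.ext (by rw [Units.val_one]; grind)
  exact ⟨b, e.symm⟩

theorem nS (f : L.Fus) {g : G} (hZ : g ∈ Ns L.Z) (hV : g ∈ Ns L.V) (u : UU K) :
    ∃ v, g * L.ι u * g⁻¹ = L.ι v := by
  obtain ⟨v, β, e⟩ := L.norm_V (mem_normalizer_conj (f.toBase.NZ_le hZ) (L.ι_mem u))
    (mul_mem (mul_mem hV (ι_N f u).2) (inv_mem hV))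
  obtain ⟨k, hk⟩ := UU.isPGroup K u
  have : β = 1 := L.eq_one_of_pow (u := v) (k := k) (by
    rw [← e, conj_pow, ← map_pow, hk, map_one, mul_one, mul_inv_cancel])
  exact ⟨v, by rw [e, this, map_one, mul_one]⟩

theorem η_ne {β : Kˣ} (h : L.η (1, β) = 1) : (β : K) = 1 := by
  have := L.ηι (1, β) (y8 1)
  rw [h, one_mul, inv_one, mul_one, tor_y8, mul_one] at this
  exact (y8_inj.1 (L.inj this)).symm

theorem nH (q : 2 < Nat.card K) {m : G} (h1 : m ∈ Ns (L.R ⊔ L.η.range))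
    (h2 : ∀ β, L.η (1, β) * m * (L.η (1, β))⁻¹ = m) : m ∈ Ns L.η.range := by
  obtain ⟨β, hβ⟩ := exists_unit q
  refine mem_normalizer_of_cj_le (cj_le_iff.2 ?_)
  rintro _ ⟨t, rfl⟩
  have hn : L.η.range ≤ Ns L.R := by
    rintro _ ⟨t, rfl⟩
    refine mem_normalizer_of_cj_le (cj_le_iff.2 ?_)
    rintro _ ⟨u, hu, rfl⟩
    rw [L.ηι, L.ι_mem_map]
    simp [mem_R.1 hu]
  have h3 : m * L.η t * m⁻¹ ∈ ((L.R ⊔ L.η.range : Subgroup G) : Set G) :=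
    mem_normalizer_conj h1 (mem_sup_right ⟨t, rfl⟩)
  rw [coe_mul_of_right_le_normalizer_left _ _ hn] at h3
  obtain ⟨_, ⟨u, hu, rfl⟩, _, ⟨t', rfl⟩, e⟩ := h3
  have c : ∀ t, L.η (1, β) * L.η t * (L.η (1, β))⁻¹ = L.η t := fun t => by
    rw [← map_mul, mul_comm, map_mul, mul_inv_cancel_right]
  have e1 : L.η (1, β) * L.ι u * (L.η (1, β))⁻¹ = L.ι u := by
    have e' : L.ι u = m * L.η t * m⁻¹ * (L.η t')⁻¹ := eq_mul_inv_iff_mul_eq.2 e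
    calc _ = (L.η (1, β) * m * (L.η (1, β))⁻¹) * (L.η (1, β) * L.η t * (L.η (1, β))⁻¹) *
          (L.η (1, β) * m * (L.η (1, β))⁻¹)⁻¹ * (L.η (1, β) * L.η t' * (L.η (1, β))⁻¹)⁻¹ := by
          rw [e']; group
      _ = _ := by rw [h2, c, c, e']
  rw [L.ηι] at e1
  have e2 := eq_of_mem_U1 (fix1 hβ (L.inj e1))
  rw [mem_R.1 hu, x1_zero] at e2
  rw [← e, e2, map_one]
  exact ⟨t', (one_mul _).symm⟩

end C3

open C3

theorem Lt.exists_oa (L : Lt ρ G) (q : 2 < Nat.card K) (f : L.Fus) (t : L.Tor L.η.range) :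
    ∃ O : Oa ρ G, O.toLt = L := by
  obtain ⟨x, hxH, hx⟩ := t.ex
  have hxV := swap_NV hx
  have sq : ∀ s, L.ι (x1 s) * L.ι (x1 s) = 1 := fun s => by rw [← map_mul, x1_sq, map_one]
  obtain ⟨s, hs⟩ : ∃ s, cj x⁻¹ (cj (L.ι (x1 1)) L.V6) = cj (L.ι (x1 s)) L.V6 := by
    refine (line' f hx (inv_mem hxV)).resolve_left fun h => ?_
    rw [cj_eq_iff_eq_cj_inv, inv_inv, hx.1] at h
    have h1 : L.ι (x1 1) * L.ι (x6 1) * (L.ι (x1 1))⁻¹ ∈ L.V6 :=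
      h ▸ conj_mem_cj.2 (L.ι_mem_map.2 (by simp))
    rw [← map_inv, ← map_mul, ← map_mul, L.ι_mem_map] at h1
    have h2 := h1.2.2.2.2.2.2.2.2.2.2
    uus at h2
    exact one_ne_zero h2
  obtain ⟨b, hb⟩ : ∃ b, b = x * L.ι (x1 s) * x⁻¹ := ⟨_, rfl⟩
  have bb : b * b = 1 := by
    calc _ = x * (L.ι (x1 s) * L.ι (x1 s)) * x⁻¹ := by rw [hb]; group
      _ = 1 := by rw [sq]; group
  have b6 : cj b L.V6 = L.V6 := by
    rw [hb, cj_mul, cj_mul, (swap_inv hx).2, cj_eq_of_mem_normalizer (ι_N f _).1, hx.1]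
  have bZ : cj b L.Z = cj (L.ι (x1 1)) L.V6 := by
    rw [hb, cj_mul, cj_mul, (swap_inv hx).1, ← hs, cj_cj_inv]
  have bη : ∀ β, L.η (1, β) * b * (L.η (1, β))⁻¹ = b := fun β => by
    obtain ⟨β', e⟩ := nH1 f t (inv_mem hxH) (inv_mem hxV) β
    calc _ = x * ((x⁻¹ * L.η (1, β) * x⁻¹⁻¹) * L.ι (x1 s) * (x⁻¹ * L.η (1, β) * x⁻¹⁻¹)⁻¹) * x⁻¹ := by
          rw [hb]; group
      _ = b := by rw [e, comm1, hb]
  obtain ⟨m, hm⟩ : ∃ m, m = b * L.ι (x1 1) * b := ⟨_, rfl⟩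
  have mm : m * m = 1 := by
    calc _ = b * (L.ι (x1 1) * (b * b) * L.ι (x1 1)) * b := by rw [hm]; group
      _ = 1 := by rw [bb, mul_one, sq, mul_one, bb]
  have mi : m⁻¹ = m := inv_eq_of_mul_eq_one_right mm
  have mZ : cj m L.Z = L.V6 := by
    rw [hm, cj_mul, cj_mul, bZ, cj_cj (L.ι (x1 1)), sq, cj_one, b6]
  have hsw : L.Swap m := ⟨mZ, by rw [← mZ, cj_cj, mm, cj_one]⟩
  have mη : ∀ β, L.η (1, β) * m * (L.η (1, β))⁻¹ = m := fun β => by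
    calc _ = (L.η (1, β) * b * (L.η (1, β))⁻¹) * (L.η (1, β) * L.ι (x1 1) * (L.η (1, β))⁻¹) *
          (L.η (1, β) * b * (L.η (1, β))⁻¹) := by rw [hm]; group
      _ = m := by rw [bη, comm1, hm]
  have hmV := swap_NV hsw
  obtain ⟨v, hv⟩ := nS f (g := m * x) (cj_eq_self_iff.1 (by rw [cj_mul, hx.1, hsw.2]))
    (mul_mem hmV hxV) (x1 s)
  have hv' : m * b * m⁻¹ = L.ι v := by rw [← hv, hb]; group
  obtain ⟨β, hβ⟩ := exists_unit q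
  have e1 : L.η (1, β) * L.ι v * (L.η (1, β))⁻¹ = L.ι v := by
    calc _ = (L.η (1, β) * m * (L.η (1, β))⁻¹) * (L.η (1, β) * b * (L.η (1, β))⁻¹) *
          (L.η (1, β) * m * (L.η (1, β))⁻¹)⁻¹ := by rw [← hv']; group
      _ = _ := by rw [mη, bη, hv']
  rw [L.ηι] at e1
  rw [eq_of_mem_U1 (fix1 hβ (L.inj e1))] at hv'
  refine final L q mm hsw (f.toBase.NV_le hmV) (nH q (t.sw m hsw) mη) (s := v.a1) ?_
  rw [← hv']
  have e2 : L.ι (x1 1) = b * m * b⁻¹ := by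
    rw [inv_eq_of_mul_eq_one_right bb]
    calc _ = (b * b) * L.ι (x1 1) * (b * b) := by rw [bb]; group
      _ = _ := by rw [hm]; group
  rw [e2]; group

end Cfsg.Lib.Oct
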