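import Cfsg.Agent.Oct.LcA
import Cfsg.Agent.Oct.StepC0
import Cfsg.Agent.S0215

/-!
# The octagon relation
-/

set_option autoImplicit false
set_option linter.unusedSectionVars false
set_option maxRecDepth 100000

namespace Cfsg.Lib.Oct

open Subgroup Function Cfsg.Lib.Trans Cfsg.Lib.Gold UU
open scoped commutatorElement

variable {K : Type*} [Field K] [TwF K] {ρ : RK K} {G : Type*} [Group G]

namespace C4

theorem U4_sq {u : UU K} (h : u ∈ U4 K) : u * u ∈ UU.Z K := by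
  rw [eq_of_mem_U4 h]; simp [CharTwo.add_self_eq_zero]
theorem Z_sq {u : UU K} (h : u ∈ UU.Z K) : u * u = 1 := by rw [eq_of_mem_Z h, x4_sq]
theorem Z_of_sq {u : UU K} (h : u ∈ U4 K) (e : u * u = 1) : u ∈ UU.Z K := by
  have := congrArg UU.a4 e
  rw [eq_of_mem_U4 h] at this ⊢
  simp at this
  have h2 : u.b4 = 0 := by
    by_contra h0
    have := (map_ne_zero σ).2 h0
    grind
  simp [h2]
theorem Z_le_U4 : UU.Z K ≤ U4 K := fun u h => by simp_all
theorem tl_U4 {u : UU K} (h : u ∈ U4 K) (β : Kˣ) : tl β u = u := by ext <;> simp_all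
theorem unit_sq {β : Kˣ} (h : β * β = 1) : β = 1 := by
  have h1 : (β : K) * β = 1 := by rw [← Units.val_mul, h, Units.val_one]
  ext
  have : ((β : K) - 1) ^ 2 = 0 := by linear_combination h1 + (1 - (β : K)) * two0 (K := K)
  exact sub_eq_zero.1 (pow_eq_zero_iff two_ne_zero |>.1 this)

variable (L : Lc ρ G)

/-- Elements centralising or inverting the torus. -/
def Y : Subgroup G where
  carrier := {g | (∀ β, g * L.h β * g⁻¹ = L.h β) ∨ ∀ β, g * L.h β * g⁻¹ = L.h β⁻¹}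
  one_mem' := Or.inl (by simp)
  mul_mem' := by
    have e : ∀ a b x : G, a * b * x * (a * b)⁻¹ = a * (b * x * b⁻¹) * a⁻¹ := fun _ _ _ => by group
    rintro a b (h | h) (k | k)
    exacts [Or.inl fun β => by rw [e, k, h], Or.inr fun β => by rw [e, k, h],
      Or.inr fun β => by rw [e, k, h], Or.inl fun β => by rw [e, k, h, inv_inv]]
  inv_mem' := by
    rintro a (h | h)
    · exact Or.inl fun β => by rw [inv_inv, mul_assoc, inv_mul_eq_iff_eq_mul, ← mul_inv_eq_iff_eq_mul.1 (h β)]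
    · refine Or.inr fun β => ?_
      rw [inv_inv, mul_assoc, inv_mul_eq_iff_eq_mul, mul_inv_eq_iff_eq_mul.1 (h β⁻¹), inv_inv]

theorem n_U4 {u : UU K} (h : u ∈ U4 K) : Commute L.n (L.ι u) := by
  rw [eq_of_mem_U4 h, map_mul]
  exact Commute.mul_right (mul_inv_eq_iff_eq_mul.1 (L.ny4 _)) (mul_inv_eq_iff_eq_mul.1 (L.nx4 _))
theorem h_U4 {u : UU K} (h : u ∈ U4 K) (β : Kˣ) : Commute (L.h β) (L.ι u) :=
  mul_inv_eq_iff_eq_mul.1 (by rw [L.hι, tl_U4 h])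
theorem U4_h {u : UU K} (h : u ∈ U4 K) (β : Kˣ) : L.ι u * L.h β * (L.ι u)⁻¹ = L.h β := by
  rw [← (h_U4 L h β).eq, mul_inv_cancel_right]

/-- A Sylow subgroup of `Y`. -/
def P : Subgroup G where
  carrier := {g | ∃ u ∈ U4 K, g = L.ι u ∨ g = L.ι u * L.n}
  one_mem' := ⟨1, one_mem _, Or.inl (map_one _).symm⟩
  mul_mem' := by
    rintro _ _ ⟨u, hu, rfl | rfl⟩ ⟨v, hv, rfl | rfl⟩ <;> refine ⟨u * v, mul_mem hu hv, ?_⟩ <;>
      rw [map_mul]
    · exact Or.inl rfl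
    · exact Or.inr (mul_assoc _ _ _).symm
    · right; rw [mul_assoc, (n_U4 L hv).eq, mul_assoc]
    · left; rw [(n_U4 L hv).mul_mul_mul_comm, L.nn, mul_one]
  inv_mem' := by
    rintro _ ⟨u, hu, rfl | rfl⟩ <;> refine ⟨u⁻¹, inv_mem hu, ?_⟩
    · exact Or.inl (map_inv _ _).symm
    · right; rw [mul_inv_rev, L.n_inv, ← map_inv, (n_U4 L (inv_mem hu)).eq]

theorem nY : L.n ∈ Y L := Or.inr L.nh
theorem nP : L.n ∈ P L := ⟨1, one_mem _, Or.inr (by simp)⟩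
theorem ιP {u : UU K} (h : u ∈ U4 K) : L.ι u ∈ P L := ⟨u, h, Or.inl rfl⟩
theorem ιY {u : UU K} (h : u ∈ U4 K) : L.ι u ∈ Y L := Or.inl (U4_h L h)
theorem P_le : P L ≤ Y L := by
  rintro _ ⟨u, hu, rfl | rfl⟩
  exacts [ιY L hu, mul_mem (ιY L hu) (nY L)]
theorem P_n {g : G} (h : g ∈ P L) : Commute g L.n := by
  obtain ⟨u, hu, rfl | rfl⟩ := h
  exacts [(n_U4 L hu).symm, (n_U4 L hu).symm.mul_left (Commute.refl _)]
theorem P_Z {g : G} (h : g ∈ P L) {z : UU K} (hz : z ∈ UU.Z K) : Commute g (L.ι z) := by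
  have e : ∀ u, Commute (L.ι u) (L.ι z) := fun u => by
    rw [eq_of_mem_Z hz]; exact (Commute.map (x4_comm _ u) L.ι).symm
  obtain ⟨u, hu, rfl | rfl⟩ := h
  exacts [e u, (e u).mul_left (n_U4 L (Z_le_U4 hz))]
theorem P_two : IsPGroup 2 (P L) := by
  rintro ⟨_, u, hu, e⟩
  refine ⟨2, Subtype.ext ?_⟩
  have h1 : L.ι u * L.ι u * (L.ι u * L.ι u) = 1 := by
    rw [← map_mul, ← map_mul, Z_sq (U4_sq hu), map_one]
  rw [Subgroup.coe_pow, show 2 ^ 2 = 2 + 2 from rfl, pow_add, pow_two, OneMemClass.coe_one]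
  dsimp only
  rcases e with rfl | rfl
  · exact h1
  · rwa [(n_U4 L hu).mul_mul_mul_comm, L.nn, mul_one]

variable [Finite K] (q : 2 < Nat.card K)
include q

theorem not_both {g : G} (h1 : ∀ β, g * L.h β * g⁻¹ = L.h β) (h2 : ∀ β, g * L.h β * g⁻¹ = L.h β⁻¹) :
    False := by
  haveI : Nontrivial Kˣ := Finite.one_lt_card_iff_nontrivial.1 (by rw [Nat.card_units]; omega)
  obtain ⟨β, hβ⟩ := exists_ne (1 : Kˣ)
  have := (L.small_inj (u := 1) (u' := 1) (β := β) (β' := β⁻¹) (by rw [← h1 β, h2])).2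
  exact hβ (unit_sq (mul_eq_one_iff_eq_inv.2 this))

theorem conj_n {g : G} (hg : g ∈ Y L) (β : Kˣ) :
    g * L.n * g⁻¹ * L.h β * (g * L.n * g⁻¹)⁻¹ = L.h β⁻¹ := by
  have e : g * L.n * g⁻¹ * L.h β * (g * L.n * g⁻¹)⁻¹ =
    g * (L.n * (g⁻¹ * L.h β * g⁻¹⁻¹) * L.n⁻¹) * g⁻¹ := by group
  rcases inv_mem hg with h | h
  · rw [e, h, L.nh]; conv_lhs => rw [← h]
    group
  · rw [e, h, L.nh, ← h]; group

theorem conj_nP {g : G} (hg : g ∈ Y L) (h : g * L.n * g⁻¹ ∈ P L) :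
    ∃ z ∈ UU.Z K, g * L.n * g⁻¹ = L.ι z * L.n := by
  obtain ⟨u, hu, e | e⟩ := h
  · exact (not_both L q (U4_h L hu) (e ▸ conj_n L q hg)).elim
  · refine ⟨u, Z_of_sq hu (L.inj ?_), e⟩
    have : g * L.n * g⁻¹ * (g * L.n * g⁻¹) = 1 := by rw [conj_mul, L.nn]; group
    rwa [e, (n_U4 L hu).mul_mul_mul_comm, L.nn, mul_one, ← map_mul, ← map_one L.ι] at this

variable [Finite G]

theorem NP_le {g : G} (hg : g ∈ Y L) (h : g ∈ Ns (P L)) : g ∈ Ns L.Z := by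
  have e : ∀ u ∈ U4 K, ∃ v ∈ U4 K, g * L.ι u * g⁻¹ = L.ι v := fun u hu => by
    obtain ⟨v, hv, e | e⟩ := mem_normalizer_conj h (ιP L hu)
    · exact ⟨v, hv, e⟩
    refine (not_both L q (g := g * L.ι u * g⁻¹) (fun β => ?_) fun β => ?_).elim
    · have e1 : g * L.ι u * g⁻¹ * L.h β * (g * L.ι u * g⁻¹)⁻¹ =
        g * (L.ι u * (g⁻¹ * L.h β * g⁻¹⁻¹) * (L.ι u)⁻¹) * g⁻¹ := by group
      rcases inv_mem hg with k | k <;> rw [e1, k, U4_h L hu] <;> conv_lhs => rw [← k]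
      all_goals group
    · rw [e, show L.ι v * L.n * L.h β * (L.ι v * L.n)⁻¹ =
        L.ι v * (L.n * L.h β * L.n⁻¹) * (L.ι v)⁻¹ by group, L.nh, U4_h L hv]
  refine mem_normalizer_of_cj_le (cj_le_iff.2 ?_)
  rintro _ ⟨z, hz, rfl⟩
  obtain ⟨t, ht⟩ := exists_N1 z.a4
  obtain ⟨v, hv, e1⟩ := e (y4 t) (by simp)
  rw [eq_of_mem_Z hz, ← ht, mul_comm t, ← y4_sq, map_mul, ← conj_mul, e1, ← map_mul]
  exact L.ι_mem_map.2 (U4_sq hv)

variable {L} (b : L.Base)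
include b

theorem two_mem {g : G} (hg : g ∈ Y L) (h : g ∈ Ns (P L)) {k : ℕ} (e : g ^ 2 ^ k = 1) :
    g ∈ P L := by
  have hC := b.two (NP_le L q hg h) e
  rcases hg with h1 | h1
  · obtain ⟨u, hu, β, rfl⟩ := L.cent_h q hC fun β => mul_inv_eq_iff_eq_mul.1 (h1 β)
    rw [L.eq_one_of_pow e, map_one, mul_one]; exact ιP L hu
  · obtain ⟨u, hu, β, e1⟩ := L.cent_h q (mul_mem hC L.n_mem) fun β => mul_inv_eq_iff_eq_mul.1 (by
      rw [show g * L.n * L.h β * (g * L.n)⁻¹ = g * (L.n * L.h β * L.n⁻¹) * g⁻¹ by group, L.nh, h1,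
        inv_inv])
    obtain rfl : g = L.ι u * L.h β * L.n := by rw [← e1, mul_assoc, L.nn, mul_one]
    obtain ⟨z, hz, e2⟩ := conj_nP L q (Or.inr h1) (mem_normalizer_conj h (nP L))
    have e3 : L.h β * L.n * (L.h β)⁻¹ = L.h (β * β) * L.n := by
      rw [mul_assoc, ← map_inv, mul_inv_eq_iff_eq_mul.1 (L.nh β⁻¹), inv_inv, map_mul, mul_assoc]
    rw [show L.ι u * L.h β * L.n * L.n * (L.ι u * L.h β * L.n)⁻¹ =
      L.ι u * (L.h β * L.n * (L.h β)⁻¹) * (L.ι u)⁻¹ by group, e3, ← conj_mul, U4_h L hu,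
      ← (n_U4 L hu).eq, mul_inv_cancel_right, mul_left_inj] at e2
    rw [unit_sq (L.small_inj (u := 1) (u' := z) (β := β * β) (β' := 1) (by simpa using e2)).2, map_one, mul_one]
    exact ⟨u, hu, Or.inr rfl⟩

theorem syl : IsSylowIn 2 (P L) (Y L) :=
  isSylowIn_of_maximal (P_le L) (P_two L) fun Q hQ h1 h2 => by
    by_contra h
    obtain ⟨g, hg, h3⟩ := SetLike.exists_of_lt (lt_inf_normalizer hQ (lt_of_le_not_ge h1 h))
    obtain ⟨k, e⟩ := hQ ⟨g, hg.1⟩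
    exact h3 (two_mem q b (h2 hg.1) hg.2 (congrArg Subtype.val e))

end C4

open C4

variable [Finite K] [Finite G]

theorem C4.iso (L : Lt ρ G) (q : 2 < Nat.card K) (b : L.Base) {g : G} (hg : g ∈ Y L.toLc)
    (h : g * L.n * g⁻¹ ∈ P L.toLc) : g * L.n * g⁻¹ = L.n := by
  obtain ⟨z, hz, e⟩ := conj_nP _ q hg h
  suffices z = 1 by rw [e, this, map_one, one_mul]
  by_contra z1
  have hs : IsSylowIn 2 (P L.toLc) (Y L.toLc ⊓ C1 (L.ι z * L.n)) :=
    (syl q b).mono (le_inf (P_le _) fun x hx => mem_centralizer_singleton_iff.2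
      ((P_Z _ hx hz).mul_right (P_n _ hx))) inf_le_left
  obtain ⟨c, hc, e1⟩ := hs.exists_cj_le (isPGroup_cj (P_two L.toLc) g) (le_inf
    (cj_le_of_mem_of_le hg (P_le _)) (cj_le_iff.2 fun x hx => mem_centralizer_singleton_iff.2 (by
      rw [← e, conj_mul, conj_mul, (P_n _ hx).eq])))
  rw [cj_cj] at e1
  have s1 := inv_mem (mem_normalizer_of_cj_le e1)
  have s2 : (c * g)⁻¹ ∈ Y L.toLc := inv_mem (mul_mem hc.1 hg)
  have s3 : (c * g)⁻¹ * (L.ι z * L.n) * (c * g)⁻¹⁻¹ = L.n := by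
    rw [show (c * g)⁻¹ * (L.ι z * L.n) * (c * g)⁻¹⁻¹ = g⁻¹ * (c⁻¹ * (L.ι z * L.n * c)) * g by group,
      ← mem_centralizer_singleton_iff.1 hc.2, ← e]; group
  generalize (c * g)⁻¹ = s at s1 s2 s3
  obtain ⟨z', hz', e2⟩ := conj_nP _ q s2 (mem_normalizer_conj s1 (nP _))
  have z1' : z'.a4 ≠ 0 := fun h => z1 (L.inj (by
    rw [eq_of_mem_Z hz', h, x4_zero, map_one, one_mul] at e2
    rw [← conj_mul, e2, mul_eq_right, conj_eq_one_iff] at s3
    rw [s3, map_one]))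
  obtain ⟨a, ha⟩ := exists_N2 (z.a4 / z'.a4)
  have a0 : a ≠ 0 := by
    rintro rfl
    refine z1 ?_
    rw [eq_of_mem_Z hz, x4_eq_one]
    simpa [z1'] using ha.symm
  set η := L.η (Units.mk0 a a0, 1) with hη
  have η1 : η * L.n * η⁻¹ = L.n := by rw [hη, L.ηn]; simp
  have η2 : η * L.ι z' * η⁻¹ = L.ι z := by
    rw [hη, L.ηι, eq_of_mem_Z hz', eq_of_mem_Z hz, tor_x4]
    simp [ha, z1']
  have η3 : η ∈ Y L.toLc := Or.inl fun β => by
    rw [L.hη, hη, ← map_inv, ← map_mul, ← map_mul, mul_inv_cancel_comm]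
  have η4 : η ∈ Ns (P L.toLc) := mem_normalizer_of_cj_le (cj_le_iff.2 (by
    rintro _ ⟨u, hu, rfl | rfl⟩
    · rw [hη, L.ηι]; exact ιP _ (by simp_all)
    · rw [← conj_mul, η1, hη, L.ηι]; exact mul_mem (ιP _ (by simp_all)) (nP _)))
  have t1 : η * s * L.n * (η * s)⁻¹ = L.ι z * L.n := by
    rw [← η2, ← η1, conj_mul, η1, ← e2]; group
  have t2 : η * s * (L.ι z * L.n) * (η * s)⁻¹ = L.n := by
    rw [show η * s * (L.ι z * L.n) * (η * s)⁻¹ = η * (s * (L.ι z * L.n) * s⁻¹) * η⁻¹ by group, s3, η1]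
  have t3 := mul_mem η3 s2
  have t4 := mul_mem η4 s1
  generalize η * s = t at t1 t2 t3 t4
  obtain ⟨k, _, ⟨j, rfl⟩, e3⟩ := Nat.exists_eq_two_pow_mul_odd (orderOf_pos t).ne'
  have t5 := P_n _ (two_mem q b (pow_mem t3 (2 * j + 1)) (pow_mem t4 (2 * j + 1)) (k := k) (by
    rw [← pow_mul, mul_comm, ← e3, pow_orderOf_eq_one]))
  have t6 : Commute (t ^ 2) L.n := mul_inv_eq_iff_eq_mul.1 (by
    rw [pow_two, show t * t * L.n * (t * t)⁻¹ = t * (t * L.n * t⁻¹) * t⁻¹ by group, t1, t2])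
  have t7 : Commute t L.n := by
    have := (t6.pow_left j).inv_left.mul_left t5
    rwa [← pow_mul, pow_succ, inv_mul_cancel_left] at this
  rw [t7.eq, mul_inv_cancel_right, right_eq_mul, ← map_one L.ι] at t1
  exact z1 (L.inj t1)

theorem C4.key (L : Lt ρ G) (q : 2 < Nat.card K) (f : L.Fus) {y : G} (hy : y ∈ Y L.toLc)
    {u : UU K} (hu : u ∈ U4 K) : Commute (y * L.n * y⁻¹) (L.ι u) := by
  have n1 : L.n ≠ 1 := fun h => not_both L.toLc q (g := L.n) (by simp [h]) L.nh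
  obtain ⟨N, hN, odd, hc⟩ := Agent.S0215.result (syl q f.toBase).toSylow ⟨L.n, nY _⟩
    (by rw [← orderOf_coe]; exact orderOf_eq_prime (by rw [pow_two]; exact L.nn) n1)
    (nP L.toLc) fun g h => Subtype.ext (C4.iso L q f.toBase g.2 h)
  set M := N.map (Y L.toLc).subtype
  have cM : Nat.card M = Nat.card N := card_map_of_injective (subtype_injective _)
  have nM : Y L.toLc ≤ Ns M := fun g hg => mem_normalizer_of_cj_le (cj_le_iff.2 (by
    rintro _ ⟨x, hx, rfl⟩; exact ⟨_, hN.conj_mem x hx ⟨g, hg⟩, rfl⟩))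
  have two : ∀ x ∈ M, ∀ k, x ^ 2 ^ k = 1 → x = 1 := fun x hx k e => by
    have h1 := orderOf_dvd_of_pow_eq_one e
    have h2 := cM ▸ M.orderOf_dvd_natCard hx
    exact orderOf_eq_one_iff.1 (Nat.eq_one_of_dvd_coprimes
      (Nat.Coprime.pow_left k (Nat.coprime_two_left.2 odd)) h1 h2)
  have br : ∀ g ∈ Y L.toLc, ⁅y * L.n * y⁻¹, g⁆ ∈ M := fun g hg => by
    have := mem_normalizer_conj (nM hy) ⟨_, hc ⟨_, mul_mem (mul_mem (inv_mem hy) hg) hy⟩, rfl⟩
    convert this using 1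
    simp [commutatorElement_def, mul_assoc]
  have zY : L.Z ≤ Y L.toLc := by rintro _ ⟨z, hz, rfl⟩; exact ιY _ (Z_le_U4 hz)
  have z2 : ∀ z ∈ L.Z, z * z = 1 := by
    rintro _ ⟨z, hz, rfl⟩; rw [← map_mul, Z_sq hz, map_one]
  haveI : IsMulCommutative L.Z := ⟨⟨fun a b => Subtype.ext (by
    have h1 := z2 _ (mul_mem a.2 b.2)
    rw [coe_mul, coe_mul, ← inv_eq_of_mul_eq_one_right h1, mul_inv_rev,
      inv_eq_of_mul_eq_one_right (z2 _ a.2), inv_eq_of_mul_eq_one_right (z2 _ b.2)])⟩⟩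
  have Zp : IsPGroup 2 L.Z := L.S_two.to_le (map_le_range _ _)
  have MZ : M ≤ Cs L.Z := by
    refine Solv.Coprime.le_of_forall_centralizer_singleton (A := L.Z) (fun hc => ?_) (zY.trans nM)
      ?_ fun z hz z1 o ho => mem_centralizer_iff.2 fun z' hz' => ?_
    · obtain ⟨g, hg⟩ := hc.exists_generator
      have h1 : orderOf g ∣ 2 := orderOf_dvd_of_pow_eq_one (Subtype.ext (by
        rw [pow_two]; exact z2 _ g.2))
      have h2 : Nat.card K ≤ Nat.card L.Z := Nat.card_le_card_of_injective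
        (fun t => ⟨L.ι (x4 t), L.ι_mem_map.2 (by simp)⟩) fun s t e =>
          x4_inj.1 (L.inj (congrArg Subtype.val e))
      rw [orderOf_eq_card_of_forall_mem_zpowers hg] at h1
      have := Nat.le_of_dvd two_pos h1
      omega
    · obtain ⟨k, e⟩ := Zp.exists_card_eq
      rw [e, cM]; exact Nat.Coprime.pow_left k (Nat.coprime_two_left.2 odd)
    · have h1 := f.ti' hz z1 (g := o) (by
        rw [mem_centralizer_singleton_iff.1 ho.2, mul_inv_cancel_right]; exact hz)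
      have h2 : ⁅z', o⁆ ∈ M := mul_mem (mem_normalizer_conj (nM (zY hz')) ho.1) (inv_mem ho.1)
      have h3 : ⁅z', o⁆ ∈ L.Z := by
        have := mul_mem hz' (mem_normalizer_conj h1 (inv_mem hz'))
        simpa only [commutatorElement_def, mul_assoc] using this
      exact commutatorElement_eq_one_iff_mul_comm.1 (two _ h2 1 (by simpa [pow_two] using z2 _ h3))
  have nn : y * L.n * y⁻¹ * (y * L.n * y⁻¹) = 1 := by rw [conj_mul, L.nn]; group
  generalize y * L.n * y⁻¹ = n at nn br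
  have nZ : n ∈ Cs L.Z := mem_centralizer_iff.2 fun z hz => by
    have h1 : Commute z ⁅n, z⁆ := mem_centralizer_iff.1 (MZ (br z (zY hz))) z hz
    refine (commutatorElement_eq_one_iff_mul_comm.1 (two _ (br z (zY hz)) 1 ?_)).symm
    have h2 : ⁅n, z⁆ * z * (⁅n, z⁆ * z) = 1 := by
      rw [show ⁅n, z⁆ * z = n * z * n⁻¹ by group, conj_mul, z2 z hz]; group
    rwa [h1.mul_mul_mul_comm, z2 z hz, mul_one, ← pow_two] at h2
  have nQ := L.C_le_NQ (f.toBase.two (centralizer_le_normalizer _ nZ) (k := 1) (by simpa [pow_two]))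
  have uQ : L.ι u ∈ L.Q := L.ι_mem_map.2 (by simp_all)
  obtain ⟨k, e⟩ := L.S_two ⟨_, map_le_range _ _
    (mul_mem (mem_normalizer_conj nQ uQ) (inv_mem uQ))⟩
  exact commutatorElement_eq_one_iff_mul_comm.1 (two _ (br _ (ιY _ hu)) k (congrArg Subtype.val e))

theorem C4.r4 (O : Oa ρ G) : (O.m * O.n) ^ 4 ∈ Y O.toLc := by
  have e1 : ∀ t : Kˣ × Kˣ, O.n * O.η t * O.n⁻¹ = O.η (t * jL (σu t.2⁻¹)) := fun t => by
    have := O.ηn t⁻¹
    rw [map_inv, inv_inv, O.hη, mul_assoc, inv_mul_eq_iff_eq_mul] at this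
    rw [this, map_mul, mul_assoc, mul_inv_cancel_right]; rfl
  have e2 : ∀ t : Kˣ × Kˣ, O.m * O.n * O.η t * (O.m * O.n)⁻¹ =
      O.η ((t.1 * t.2 ^ 2 * σu t.2)⁻¹, t.1 * t.2 * σu t.2) := fun t => by
    rw [show O.m * O.n * O.η t * (O.m * O.n)⁻¹ = O.m * (O.n * O.η t * O.n⁻¹) * O.m⁻¹ by group, e1,
      O.mη]
    have := t.2.ne_zero
    have := (map_ne_zero σ).2 this
    congr 2 <;> ext <;> simp <;> field_simp
  refine Or.inr fun β => ?_
  generalize O.m * O.n = r at e2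
  rw [show r ^ 4 * O.h β * (r ^ 4)⁻¹ = r * (r * (r * (r * O.h β * r⁻¹) * r⁻¹) * r⁻¹) * r⁻¹ by
    simp only [pow_succ, pow_zero, one_mul, mul_inv_rev, mul_assoc], O.hη, O.hη, e2, e2, e2, e2]
  have := β.ne_zero
  have := (map_ne_zero σ).2 this
  congr 2 <;> ext <;> simp <;> field_simp

theorem Oa.r8_of (O : Oa ρ G) (q : 2 < Nat.card K) (f : O.Fus) : (O.m * O.n) ^ 8 = 1 := by
  have e : ∀ x, O.m * O.n * x * (O.m * O.n)⁻¹ = O.m * (O.n * x * O.n⁻¹) * O.m⁻¹ := fun x => by group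
  have mm : ∀ {x y : G}, O.m * x * O.m⁻¹ = y → O.m * y * O.m⁻¹ = x := fun h => by
    rw [← h, O.m_inv]; simp only [← mul_assoc, O.mm, one_mul]; rw [mul_assoc, O.mm, mul_one]
  have nn : ∀ {x y : G}, O.n * x * O.n⁻¹ = y → O.n * y * O.n⁻¹ = x := fun h => by
    rw [← h, O.n_inv]; simp only [← mul_assoc, O.nn, one_mul]; rw [mul_assoc, O.nn, mul_one]
  have nr : O.n * (O.m * O.n) * O.n⁻¹ = (O.m * O.n)⁻¹ := by
    rw [mul_inv_rev, O.m_inv, ← mul_assoc, mul_inv_cancel_right, O.n_inv]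
  have k := fun u hu => C4.key O.toLt q f (C4.r4 O) (u := u) hu
  have r1 := fun t => (e _).trans (by rw [O.nx1, O.mx7] : _ = O.ι (x3 t))
  have r2 := fun t => (e _).trans (by rw [O.ny2, O.my6] : _ = O.ι (y4 t))
  have r2' := fun t => (e _).trans (by rw [O.nx2, O.mx6] : _ = O.ι (x4 t))
  have r3 := fun t => (e _).trans (by rw [O.nx3, O.mx5] : _ = O.ι (x5 t))
  have r4 := fun t => (e _).trans (by rw [O.ny4, mm (O.my6 t)] : _ = O.ι (y6 t))
  have r4' := fun t => (e _).trans (by rw [O.nx4, mm (O.mx6 t)] : _ = O.ι (x6 t))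
  have r5 := fun t => (e _).trans (by rw [nn (O.nx3 t), mm (O.mx7 t)] : _ = O.ι (x7 t))
  have r6 := fun t => (e _).trans (by rw [nn (O.ny2 t), mm (O.my8 t)] : _ = O.ι (y8 t))
  have r6' := fun t => (e _).trans (by rw [nn (O.nx2 t), mm (O.mx8 t)] : _ = O.ι (x8 t))
  generalize O.m * O.n = r at *
  have e4 : r ^ 4 * O.n * (r ^ 4)⁻¹ = r ^ 8 * O.n := by
    have : O.n * (r ^ 4)⁻¹ * O.n⁻¹ = r ^ 4 := by rw [← conj_inv, ← conj_pow, nr]; group
    rw [mul_assoc, mul_inv_eq_iff_eq_mul.1 this]; group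
  have c4 : ∀ u ∈ U4 K, Commute (r ^ 8) (O.ι u) := fun u hu => by
    have := (k u hu).mul_left (n_U4 O.toLc hu)
    rwa [e4, mul_assoc, O.nn, mul_one] at this
  have cr : Commute (r ^ 8) r := (Commute.refl r).pow_left 8
  have up : ∀ {x y : G}, r * x * r⁻¹ = y → Commute (r ^ 8) x → Commute (r ^ 8) y := fun h c =>
    h ▸ (cr.mul_right c).mul_right cr.inv_right
  have dn : ∀ {x y : G}, r * x * r⁻¹ = y → Commute (r ^ 8) y → Commute (r ^ 8) x := fun h c => by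
    have := (cr.inv_right.mul_right c).mul_right cr
    rw [← h] at this
    simpa [mul_assoc] using this
  have a4 := fun t => c4 (y4 t) (by simp)
  have a4' := fun t => c4 (x4 t) (by simp)
  have a2 := fun t => dn (r2 t) (a4 t)
  have a6 := fun t => up (r4 t) (a4 t)
  have a6' := fun t => up (r4' t) (a4' t)
  have a3 : ∀ t, Commute (r ^ 8) (O.ι (x3 t)) := fun t => by
    rw [show x3 t = (y4 t)⁻¹ * (y2 1)⁻¹ * y4 t * y2 1 by uu, map_mul, map_mul, map_mul, map_inv,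
      map_inv]
    exact (((a4 t).inv_right.mul_right (a2 1).inv_right).mul_right (a4 t)).mul_right (a2 1)
  have a5 := fun t => up (r3 t) (a3 t)
  have all : ∀ u, Commute (r ^ 8) (O.ι u) := fun u => by
    rw [nf u]
    simp only [map_mul]
    refine Commute.mul_right (.mul_right (.mul_right (.mul_right (.mul_right (.mul_right (.mul_right
      (.mul_right (.mul_right (.mul_right (.mul_right ?_ ?_) ?_) ?_) ?_) ?_) ?_) ?_) ?_) ?_) ?_) ?_
    exacts [dn (r1 _) (a3 _), up (r6 _) (a6 _), a2 _, up (r6' _) (a6' _), a6 _, a4 _,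
      up (r5 _) (a5 _), dn (r2' _) (a4' _), a3 _, a5 _, a6' _, a4' _]
  obtain ⟨z, hz, e1⟩ := f.cQ (mem_centralizer_iff.2 (by
    rintro _ ⟨u, -, rfl⟩; exact (all u).symm.eq) : r ^ 8 ∈ Cs O.Q)
  rw [eq_of_mem_Z hz] at e1
  have e2 := r4' z.a4
  rw [e1, ← cr.eq, mul_inv_cancel_right, ← e1] at e2
  have e3 : z.a4 = 0 := by simpa using congrArg UU.a4 (O.inj e2)
  rw [← e1, e3, x4_zero, map_one]

end Cfsg.Lib.Oct
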