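import Cfsg.Agent.Oct.Defs
import Cfsg.Agent.Chev.StructFilt

/-!
# The structure of the centraliser `C`
-/

set_option autoImplicit false
set_option linter.unusedSectionVars false
set_option maxRecDepth 100000

namespace Cfsg.Lib.Oct

open Subgroup Function Cfsg.Lib.Trans Cfsg.Lib.Gold UU
open scoped commutatorElement

variable {K : Type*} [Field K] [TwF K] {ρ : RK K} {G : Type*} [Group G]

/-- Check an identity between long words in `UU K`. -/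
syntax "uw" (" [" Lean.Parser.Tactic.simpLemma,* "]")? : tactic

macro_rules
  | `(tactic| uw) => `(tactic| uw [mul_zero])
  | `(tactic| uw [$ts,*]) => `(tactic| ((try uus [$ts,*]) <;> uu [$ts,*]))

theorem mem_Z_of_comm {u : UU K} (h : ∀ v ∈ Q K, u * v = v * u) : u ∈ Z K := by
  have h1 := h (x1 1) (by simp)
  have h2 := h (y2 1) (by simp)
  have h3 := h (y6 1) (by simp)
  have h4 := h (x7 1) (by simp)
  have h5 := h (y4 1) (by simp)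
  have h6 := h (x6 1) (by simp)
  have h7 := h (x5 1) (by simp)
  have h8 := h (x3 1) (by simp)
  have h9 := h (x2 1) (by simp)
  simp only [UU.ext_iff] at h1 h2 h3 h4 h5 h6 h7 h8 h9
  uus at h1 h2 h3 h4 h5 h6 h7 h8 h9
  simp only [mem_Z]
  grind

theorem mem_V_of_comm {u : UU K} (h : ∀ v, ⁅u, v⁆ ∈ Z K) : u ∈ V K := by
  have h1 := h (x1 1)
  have h2 := h (y2 1)
  have h3 := h (y8 1)
  have h4 := h (x8 1)
  have h5 := h (y4 1)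
  have h6 := h (x7 1)
  have h7 := h (x5 1)
  have h8 := h (x3 1)
  have h9 := h (x2 1)
  simp only [mem_Z] at h1 h2 h3 h4 h5 h6 h7 h8 h9
  uus at h1 h2 h3 h4 h5 h6 h7 h8 h9
  simp only [mem_V]
  grind

theorem comm_mem_Z {u : UU K} (h : u ∈ V K) (v : UU K) : ⁅u, v⁆ ∈ Z K := by
  rw [eq_of_mem_V h, mem_Z]
  uus
  and_intros <;> grind

theorem comm_of_RV {u v : UU K} (hu : u ∈ R K) (hv : v ∈ V K) : u * v = v * u := by
  rw [eq_of_mem_V hv]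
  uu [show u.a1 = 0 from hu]

theorem exists_QU (u : UU K) : ∃ q ∈ Q K, ∃ v ∈ U8 K, u = q * v :=
  ⟨u * (y8 u.b8 * x8 u.a8)⁻¹, by rw [mem_Q]; uus; grind, y8 u.b8 * x8 u.a8, by simp, (inv_mul_cancel_right ..).symm⟩

theorem ν8_mem (u : UU K) : ν8 u ∈ Q K := by
  rw [mem_Q, ν8]; uus; simp

theorem ν8_W {u : UU K} (h : u ∈ W K) : ν8 u = ⟨0, 0, 0, 0, 0, 0, 0, u.a6, u.a5, u.a3, u.a2, u.a4⟩ := by
  obtain ⟨h1, -, h3, -, h5, h6, h7⟩ := h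
  unfold ν8
  uu [h1, h3, h5, h6, h7]

theorem x4_eq (t : K) : x4 t = ⁅x6 t, x1 1⁆ := by uu

theorem y2_eq (a s : K) : y2 (a + s) = y2 a * (y2 s)⁻¹ * x2 (σ (a + s) * s) := by uw

theorem y6_eq (a s : K) : y6 (a + s) = y6 a * (y6 s)⁻¹ * x6 (σ (a + s) * s) := by uw

theorem y8_eq (a s : K) : y8 (a + s) = y8 a * (y8 s)⁻¹ * x8 (σ (a + s) * s) := by uw

theorem y4_eq (s : K) : y4 (σ s) = (y6 s)⁻¹ * ((y8 1 * y2 s)⁻¹ * y2 s * y8 1) * x4 (s ^ 2 * σ s) := by uw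

theorem tl_mem_U8 (β : Kˣ) {v : UU K} (h : v ∈ U8 K) : tl β v ∈ U8 K := by simp_all

theorem N1_ne {β : Kˣ} (h : β ≠ 1) : (β : K) * σ (β : K) ≠ 1 := fun e => h (Units.ext (eq_one_of_N1 e))

theorem N2_ne {β : Kˣ} (h : β ≠ 1) : (β : K) ^ 2 * σ (β : K) ≠ 1 := fun e => h (Units.ext (eq_one_of_N2 e))

theorem σ_ne {β : Kˣ} (h : β ≠ 1) : σ (β : K) ≠ 1 := fun e =>
  h (Units.ext ((σ : K →+* K).injective (e.trans (map_one _).symm)))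

theorem σ_ne_zero (β : Kˣ) : σ (β : K) ≠ 0 := (map_ne_zero σ).2 β.ne_zero

theorem exists_unit_ne [Finite K] (q : 2 < Nat.card K) : ∃ β : Kˣ, β ≠ 1 := by
  have : Nontrivial Kˣ := Finite.one_lt_card_iff_nontrivial.1 (by rw [Nat.card_units]; omega)
  exact exists_ne 1

theorem exists_unit_sq [Finite K] (β : Kˣ) : ∃ δ : Kˣ, δ * δ = β := by
  obtain ⟨a, ha⟩ := exists_σ (β : K)
  obtain ⟨b, rfl⟩ := exists_σ a
  rw [σσ] at ha
  have hb : b ≠ 0 := by rintro rfl; exact β.ne_zero (by simp [← ha])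
  exact ⟨Units.mk0 b hb, Units.ext (by simp [← ha, sq])⟩

theorem unit_eq_one {β : Kˣ} {k : ℕ} (h : β ^ 2 ^ k = 1) : β = 1 := by
  have h1 : ((β : K) - 1) ^ 2 ^ k = 0 := by
    rw [sub_pow_char_pow, one_pow, ← Units.val_pow_eq_pow_val, h, Units.val_one, sub_self]
  exact Units.ext (sub_eq_zero.1 (pow_eq_zero_iff (by positivity) |>.1 h1))

theorem eq_top_of {A : Subgroup (UU K)} (e1 : ∀ t, x1 t ∈ A) (f8 : ∀ t, y8 t ∈ A) (f2 : ∀ t, y2 t ∈ A)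
    (e8 : ∀ t, x8 t ∈ A) (f6 : ∀ t, y6 t ∈ A) (f4 : ∀ t, y4 t ∈ A) (e7 : ∀ t, x7 t ∈ A) (e2 : ∀ t, x2 t ∈ A)
    (e3 : ∀ t, x3 t ∈ A) (e5 : ∀ t, x5 t ∈ A) (e6 : ∀ t, x6 t ∈ A) (e4 : ∀ t, x4 t ∈ A) (u : UU K) : u ∈ A := by
  rw [u.nf]
  exact mul_mem (mul_mem (mul_mem (mul_mem (mul_mem (mul_mem (mul_mem (mul_mem (mul_mem (mul_mem (mul_mem (e1 _)
    (f8 _)) (f2 _)) (e8 _)) (f6 _)) (f4 _)) (e7 _)) (e2 _)) (e3 _)) (e5 _)) (e6 _)) (e4 _)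

namespace Lc

variable (L : Lc ρ G)

@[simp high] theorem ι_mem_map' {A : Subgroup (UU K)} {u : UU K} : L.ι u ∈ A.map L.ι ↔ u ∈ A := L.ι_mem_map

theorem cn {a b : G} (h : L.n * a * L.n⁻¹ = b) : L.n * b * L.n⁻¹ = a := by
  rw [← h, L.n_inv, ← mul_assoc, ← mul_assoc, L.nn, one_mul, mul_assoc, L.nn, mul_one]

theorem nι {u : UU K} (hu : u ∈ UU.Q K) : L.n * L.ι u * L.n⁻¹ = L.ι (ν8 u) := by
  have e : u = x1 u.a1 * y2 u.b2 * y6 u.b6 * y4 u.b4 * x7 u.a7 * x2 u.a2 * x3 u.a3 * x5 u.a5 * x6 u.a6 *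
    x4 u.a4 := by uu [hu.1, hu.2]
  conv_lhs => rw [e]
  simp only [ν8, map_mul, ← conj_mul, L.nx1, L.ny2, L.nx2, L.nx3, L.ny4, L.nx4, L.cn (L.nx1 _), L.cn (L.ny2 _),
    L.cn (L.nx2 _), L.cn (L.nx3 _)]

theorem h_ι (β : Kˣ) (u : UU K) : L.h β * L.ι u = L.ι (tl β u) * L.h β := by
  rw [← L.hι, inv_mul_cancel_right]

theorem ι_h (β : Kˣ) (u : UU K) : L.ι u * L.h β = L.h β * L.ι (tl β⁻¹ u) := by
  rw [← L.hι, map_inv]; group

theorem n_h (β : Kˣ) : L.n * L.h β = L.h β⁻¹ * L.n := by rw [← L.nh, inv_mul_cancel_right]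

theorem h_n_h (γ : Kˣ) : L.h γ * L.n * L.h γ = L.n := by
  rw [mul_assoc, L.n_h, ← mul_assoc, ← map_mul, mul_inv_cancel, map_one, one_mul]

/-- The Borel subgroup of `C`. -/
def B : Subgroup G where
  carrier := {g | ∃ u β, g = L.ι u * L.h β}
  one_mem' := ⟨1, 1, by simp⟩
  mul_mem' := by
    rintro _ _ ⟨u, β, rfl⟩ ⟨v, γ, rfl⟩
    exact ⟨u * tl β v, β * γ, by rw [map_mul, map_mul, mul_assoc, ← mul_assoc (L.h β), L.h_ι]; group⟩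
  inv_mem' := by
    rintro _ ⟨u, β, rfl⟩
    exact ⟨tl β⁻¹ u⁻¹, β⁻¹, by rw [← L.h_ι]; simp⟩

theorem ι_B (u : UU K) : L.ι u ∈ L.B := ⟨u, 1, by simp⟩

theorem h_B (β : Kˣ) : L.h β ∈ L.B := ⟨1, β, by simp⟩

theorem conj_small (u y : UU K) (β : Kˣ) :
    L.ι u * L.h β * L.ι y * (L.ι u * L.h β)⁻¹ = L.ι (u * tl β y * u⁻¹) := by
  rw [map_mul, map_mul, ← L.hι, map_inv]; group

theorem conj_big (u v : UU K) (β : Kˣ) {y : UU K} (hy : v * y * v⁻¹ ∈ UU.Q K) :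
    L.ι u * L.h β * L.n * L.ι v * L.ι y * (L.ι u * L.h β * L.n * L.ι v)⁻¹ =
      L.ι (u * tl β (ν8 (v * y * v⁻¹)) * u⁻¹) := by
  rw [← L.conj_small, ← L.nι hy, map_mul, map_mul, map_inv]; group

theorem n_not_mem : L.n ∉ L.B := by
  rintro ⟨u, β, e⟩
  have h := L.nx1 1
  rw [e, conj_small] at h
  have h1 := congrArg a1 (L.inj h)
  uus [tl_a1] at h1
  have := β.ne_zero
  have := σ_ne_zero β
  grind

theorem small_ne_big (u u' v : UU K) (β β' : Kˣ) : L.ι u * L.h β ≠ L.ι u' * L.h β' * L.n * L.ι v := fun e =>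
  L.n_not_mem (by
    rw [show L.n = (L.ι u' * L.h β')⁻¹ * (L.ι u * L.h β) * (L.ι v)⁻¹ by rw [e]; group]
    exact mul_mem (mul_mem (inv_mem ⟨_, _, rfl⟩) ⟨_, _, rfl⟩) (inv_mem (L.ι_B v)))

theorem conj_not_mem {v : UU K} (hv : v ∈ U8 K) (h : L.n * L.ι v * L.n⁻¹ ∈ L.B) : v = 1 := by_contra fun h1 => by
  obtain ⟨u, β, e⟩ := h
  exact L.small_ne_big _ _ _ _ _ (e.symm.trans (L.rk v hv h1).2.2)

theorem small_inj {u u' : UU K} {β β' : Kˣ} (e : L.ι u * L.h β = L.ι u' * L.h β') : u = u' ∧ β = β' := by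
  have h := L.conj_small u (x5 1) β
  rw [e, conj_small, tl_x5, tl_x5] at h
  have h1 := congrArg a5 (L.inj h)
  uus at h1
  obtain rfl : β = β' := Units.ext (by grind)
  exact ⟨L.inj (mul_right_cancel e), rfl⟩

theorem big_inj {u u' v v' : UU K} {β β' : Kˣ} (hv : v ∈ U8 K) (hv' : v' ∈ U8 K)
    (e : L.ι u * L.h β * L.n * L.ι v = L.ι u' * L.h β' * L.n * L.ι v') : u = u' ∧ β = β' ∧ v = v' := by
  obtain rfl : v = v' := mul_inv_eq_one.1 (L.conj_not_mem (mul_mem hv (inv_mem hv')) (by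
    rw [map_mul, map_inv, show L.n * (L.ι v * (L.ι v')⁻¹) * L.n⁻¹ = (L.ι u * L.h β)⁻¹ *
      (L.ι u * L.h β * L.n * L.ι v) * (L.ι v')⁻¹ * L.n⁻¹ by group, e]
    simpa [mul_assoc] using mul_mem (inv_mem ⟨u, β, rfl⟩ : _ ∈ L.B) ⟨u', β', rfl⟩))
  have := L.small_inj (mul_right_cancel (mul_right_cancel e))
  exact ⟨this.1, this.2, rfl⟩

theorem B_le : L.B ≤ L.C := by rintro _ ⟨u, β, rfl⟩; exact mul_mem (L.ι_mem u) (L.h_mem β)

theorem mem_C {g : G} : g ∈ L.C ↔ (∃ u β, g = L.ι u * L.h β) ∨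
    ∃ u β, ∃ v ∈ U8 K, g = L.ι u * L.h β * L.n * L.ι v := by
  refine ⟨fun hg => ?_, ?_⟩
  swap
  · rintro (h | ⟨u, β, v, -, rfl⟩)
    exacts [L.B_le h, mul_mem (mul_mem (L.B_le ⟨u, β, rfl⟩) L.n_mem) (L.ι_mem v)]
  let P : G → Prop := fun g => g ∈ L.B ∨ ∃ b ∈ L.B, ∃ v ∈ U8 K, g = b * L.n * L.ι v
  have h1 : ∀ b ∈ L.B, ∀ g, P g → P (b * g) := by
    rintro b hb g (h | ⟨c, hc, v, hv, rfl⟩)
    exacts [.inl (mul_mem hb h), .inr ⟨_, mul_mem hb hc, v, hv, by group⟩]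
  have h2 : ∀ g, P g → P (L.n * g) := by
    rintro _ (⟨u, β, rfl⟩ | ⟨_, ⟨u, β, rfl⟩, w, hw, rfl⟩) <;> obtain ⟨q, hq, v, hv, rfl⟩ := exists_QU u
    · refine .inr ⟨_, ⟨ν8 q, β⁻¹, rfl⟩, _, tl_mem_U8 β⁻¹ hv, ?_⟩
      rw [map_mul, mul_assoc (L.ι q), L.ι_h, ← L.nι hq, ← L.nh]; group
    have e : L.n * (L.ι (q * v) * L.h β * L.n * L.ι w) =
        L.ι (ν8 q) * (L.n * L.ι v * L.n⁻¹ * (L.h β⁻¹ * L.ι w)) := by
      rw [map_mul, ← L.nι hq, ← L.nh]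
      nth_rw 2 [← L.n_inv]
      group
    rw [e]
    refine h1 _ (L.ι_B _) _ ?_
    rcases eq_or_ne v 1 with rfl | h
    · exact .inl (by simpa using mul_mem (inv_mem (L.h_B β)) (L.ι_B w))
    obtain ⟨-, k2, k3⟩ := L.rk v hv h
    refine .inr ⟨_, ⟨(ρ v).1, (ρ v).2.1 * β, rfl⟩, _, mul_mem (tl_mem_U8 β k2) hw, ?_⟩
    rw [k3, map_mul, map_mul, ← L.hι, map_inv]
    nth_rw 1 [← L.h_n_h β]
    group
  let A : Subgroup G :=
    { carrier := {a | ∀ g, P g → P (a * g) ∧ P (a⁻¹ * g)}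
      one_mem' := fun g h => by simpa
      mul_mem' := fun ha hb g h => ⟨by rw [mul_assoc]; exact (ha _ (hb g h).1).1,
        by rw [mul_inv_rev, mul_assoc]; exact (hb _ (ha g h).2).2⟩
      inv_mem' := fun ha g h => ⟨(ha g h).2, by rw [inv_inv]; exact (ha g h).1⟩ }
  have h3 := (L.C_le (A := A) (fun u g h => ⟨h1 _ (L.ι_B u) g h, h1 _ (inv_mem (L.ι_B u)) g h⟩)
    (fun u g h => ⟨h1 _ (L.h_B u) g h, h1 _ (inv_mem (L.h_B u)) g h⟩)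
    (fun g h => ⟨h2 g h, L.n_inv.symm ▸ h2 g h⟩) hg 1 (.inl (one_mem _))).1
  rw [mul_one] at h3
  exact h3.imp_right fun ⟨_, ⟨u, β, e⟩, v, hv, e'⟩ => ⟨u, β, v, hv, e ▸ e'⟩

theorem B_le_N {A : Subgroup (UU K)} (h1 : ∀ u, ∀ a ∈ A, u * a * u⁻¹ ∈ A) (h2 : ∀ β, ∀ a ∈ A, tl β a ∈ A) :
    L.B ≤ Ns (A.map L.ι) := Chev.le_normalizer_of_conj_mem (by
  rintro _ ⟨u, β, rfl⟩ _ ⟨a, ha, rfl⟩
  exact ⟨_, h1 u _ (h2 β a ha), (L.conj_small ..).symm⟩)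

theorem C_le_N {A : Subgroup (UU K)} (h1 : ∀ u, ∀ a ∈ A, u * a * u⁻¹ ∈ A) (h2 : ∀ β, ∀ a ∈ A, tl β a ∈ A)
    (h3 : ∀ a ∈ A, a ∈ UU.Q K ∧ ν8 a ∈ A) : L.C ≤ Ns (A.map L.ι) := by
  have k : ∀ g ∈ A.map L.ι, L.n * g * L.n⁻¹ ∈ A.map L.ι := by
    rintro _ ⟨a, ha, rfl⟩
    exact ⟨_, (h3 a ha).2, (L.nι (h3 a ha).1).symm⟩
  exact L.C_le (fun u => L.B_le_N h1 h2 (L.ι_B u)) (fun u => L.B_le_N h1 h2 (L.h_B u))
    (mem_normalizer_iff.2 fun g => ⟨k g, fun h => L.cn (a := g) rfl ▸ k _ h⟩)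

theorem C_le_NQ : L.C ≤ Ns L.Q := L.C_le_N (fun u a ha => by rw [mem_Q]; uus [ha.1, ha.2]; grind)
  (fun _ _ _ => by simp_all) fun _ ha => ⟨ha, ν8_mem _⟩

theorem C_le_NW : L.C ≤ Ns ((W K).map L.ι) := L.C_le_N (fun u a ⟨h1, h2, h3, h4, h5, h6, h7⟩ => by
    rw [mem_W]; uus [h1, h2, h3, h4, h5, h6, h7]; grind)
  (fun _ _ _ => by simp_all) fun _ ha => ⟨⟨ha.2.1, ha.2.2.2.1⟩, by simp [ν8_W ha]⟩

theorem B_le_NV : L.B ≤ Ns L.V := L.B_le_N (fun u a ha => by rw [eq_of_mem_V ha, mem_V]; uus; grind)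
  fun _ _ _ => by simp_all

theorem B_le_NR : L.B ≤ Ns L.R := L.B_le_N (fun u a ha => by rw [mem_R] at *; uus [ha]; grind)
  fun _ _ _ => by simp_all

theorem B_le_NS : L.B ≤ Ns L.S := by
  rw [S, MonoidHom.range_eq_map]; exact L.B_le_N (fun _ _ _ => trivial) fun _ _ _ => trivial

theorem mem_Z {g : G} : g ∈ L.Z ↔ ∃ c, L.ι (x4 c) = g :=
  ⟨fun ⟨_, h, e⟩ => ⟨_, eq_of_mem_Z h ▸ e⟩, fun ⟨c, e⟩ => ⟨_, by simp, e⟩⟩

theorem mem_V6 {g : G} : g ∈ L.V6 ↔ ∃ c, L.ι (x6 c) = g :=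
  ⟨fun ⟨_, h, e⟩ => ⟨_, eq_of_mem_V6 h ▸ e⟩, fun ⟨c, e⟩ => ⟨_, by simp, e⟩⟩

theorem mem_V {g : G} : g ∈ L.V ↔ ∃ a c, L.ι (x6 a * x4 c) = g :=
  ⟨fun ⟨_, h, e⟩ => ⟨_, _, eq_of_mem_V h ▸ e⟩, fun ⟨a, c, e⟩ => ⟨_, by simp, e⟩⟩

theorem C_le_CZ : L.C ≤ Cs L.Z := by
  have k : ∀ g, (∀ c, g * L.ι (x4 c) * g⁻¹ = L.ι (x4 c)) → g ∈ Cs L.Z := fun g h =>
    mem_centralizer_of_conj_eq fun a ha => by obtain ⟨c, rfl⟩ := L.mem_Z.1 ha; exact h c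
  exact L.C_le (fun u => k _ fun c => by rw [← map_mul, ← x4_comm]; simp)
    (fun β => k _ fun c => by rw [L.hι, tl_x4]) (k _ L.nx4)

theorem Z_le_V : L.Z ≤ L.V := map_mono fun _ _ => by simp_all
theorem V6_le_V : L.V6 ≤ L.V := map_mono fun _ _ => by simp_all
theorem V_le_R : L.V ≤ L.R := map_mono fun _ _ => by simp_all
theorem V_le_Q : L.V ≤ L.Q := map_mono fun _ _ => by simp_all
theorem map_le_S (A : Subgroup (UU K)) : A.map L.ι ≤ L.S := map_le_range _ _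
theorem map_le_C (A : Subgroup (UU K)) : A.map L.ι ≤ L.C := (L.map_le_S A).trans L.S_le

theorem Z_sup_V6 : L.Z ⊔ L.V6 = L.V := le_antisymm (sup_le L.Z_le_V L.V6_le_V) fun g hg => by
  obtain ⟨a, c, rfl⟩ := L.mem_V.1 hg
  rw [map_mul]
  exact mul_mem (mem_sup_right (L.mem_V6.2 ⟨a, rfl⟩)) (mem_sup_left (L.mem_Z.2 ⟨c, rfl⟩))

theorem eq_one_of_Z_V6 {g : G} (h : g ∈ L.Z) (h' : g ∈ L.V6) : g = 1 := by
  obtain ⟨c, rfl⟩ := L.mem_V6.1 h'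
  simp_all

theorem R_le_CV : L.R ≤ Cs L.V := by
  rintro _ ⟨u, hu, rfl⟩ _ ⟨v, hv, rfl⟩
  rw [← map_mul, ← map_mul, comm_of_RV hu hv]

theorem le_Q {A : Subgroup G} (h1 : A ≤ L.S) (h2 : L.n ∈ Ns A) : A ≤ L.Q := fun a ha => by
  obtain ⟨u, rfl⟩ := h1 ha
  obtain ⟨q, hq, v, hv, rfl⟩ := exists_QU u
  obtain ⟨w, e⟩ := h1 (mem_normalizer_conj h2 ha)
  rw [map_mul, ← conj_mul, L.nι hq, ← inv_mul_eq_iff_eq_mul] at e
  rw [L.conj_not_mem hv (e ▸ mul_mem (inv_mem (L.ι_B _)) (L.ι_B w)), mul_one]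
  exact ⟨q, hq, rfl⟩

theorem small_of_x6 {g : G} (hg : g ∈ L.C) {t : K} (ht : t ≠ 0) (h : g * L.ι (x6 t) * g⁻¹ ∈ L.V) :
    ∃ u β, g = L.ι u * L.h β := (L.mem_C.1 hg).resolve_right (by
  rintro ⟨u, β, v, hv, rfl⟩
  have e : v * x6 t * v⁻¹ = x6 t := by rw [eq_of_mem_U8 hv]; uu
  rw [L.conj_big _ _ _ (by simp [e]), e, ν8_W (by simp), ι_mem_map] at h
  have h1 := h.2.2.2.2.2.2.2.1
  uus [tl_a1, tl_b8, tl_b2, tl_a8, tl_b6, tl_b4, tl_a7, tl_a2] at h1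
  have := β.ne_zero
  have := σ_ne_zero β
  grind)

theorem norm_V {g : G} (hg : g ∈ L.C) (h : g ∈ Ns L.V) : ∃ u β, g = L.ι u * L.h β :=
  L.small_of_x6 hg one_ne_zero (mem_normalizer_conj h (by simp))

theorem norm_V6 {g : G} (hg : g ∈ L.C) (h : g ∈ Ns L.V6) : ∃ u ∈ UU.R K, ∃ β, g = L.ι u * L.h β := by
  have h1 := mem_normalizer_conj h (x := L.ι (x6 1)) (by simp)
  obtain ⟨u, β, rfl⟩ := L.small_of_x6 hg one_ne_zero (L.V6_le_V h1)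
  rw [conj_small, ι_mem_map, tl_x6] at h1
  have h2 := h1.2.2.2.2.2.2.2.2.2.2
  uus at h2
  have := β.ne_zero
  have := σ_ne_zero β
  exact ⟨u, show u.a1 = 0 by grind, β, rfl⟩

theorem cent_small {u y : UU K} {β : Kˣ} (h : Commute (L.ι u * L.h β) (L.ι y)) : u * tl β y = y * u := by
  have := L.conj_small u y β
  rw [h.eq, mul_inv_cancel_right] at this
  exact mul_inv_eq_iff_eq_mul.1 (L.inj this).symm

theorem cent_big {u v y : UU K} {β : Kˣ} (hy : v * y * v⁻¹ ∈ UU.Q K)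
    (h : Commute (L.ι u * L.h β * L.n * L.ι v) (L.ι y)) : u * tl β (ν8 (v * y * v⁻¹)) = y * u := by
  have := L.conj_big u v β hy
  rw [h.eq, mul_inv_cancel_right] at this
  exact mul_inv_eq_iff_eq_mul.1 (L.inj this).symm

theorem cent_x6 {g : G} (hg : g ∈ L.C) {t : K} (ht : t ≠ 0) (h : Commute g (L.ι (x6 t))) : g ∈ L.R := by
  obtain ⟨u, β, rfl⟩ := L.small_of_x6 hg ht (by rw [h.eq]; simp)
  have h1 := L.cent_small h
  rw [tl_x6, UU.ext_iff] at h1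
  uus at h1
  obtain rfl : β = 1 := by_contra fun k => N1_ne k (by grind)
  exact ⟨u, show u.a1 = 0 by grind, by simp⟩

theorem cent_Q {g : G} (hg : g ∈ L.C) (h : g ∈ Cs L.Q) : g ∈ L.Z := by
  obtain ⟨u, -, rfl⟩ := L.cent_x6 hg one_ne_zero (h _ (L.ι_mem_map.2 (by simp))).symm
  exact ⟨u, mem_Z_of_comm fun v hv => L.inj (by simpa using (h _ ⟨v, hv, rfl⟩).symm), rfl⟩

theorem cent_x5 {g : G} (hg : g ∈ L.C) (h : Commute g (L.ι (x5 1))) : g ∈ (T5 K).map L.ι := by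
  rcases L.mem_C.1 hg with ⟨u, β, rfl⟩ | ⟨u, β, v, hv, rfl⟩
  · have h1 := L.cent_small h
    rw [tl_x5, UU.ext_iff] at h1
    uus at h1
    obtain rfl : β = 1 := Units.ext (by rw [Units.val_one]; grind)
    exact ⟨u, ⟨by grind, by grind⟩, by simp⟩
  have e : v * x5 1 * v⁻¹ = x5 1 * x6 v.b8 := by rw [eq_of_mem_U8 hv]; uu
  have h1 := L.cent_big (by simp [e]) h
  rw [e, ν8_W (by simp), UU.ext_iff] at h1
  uus [tl_a1, tl_b8, tl_b2, tl_a8, tl_b6, tl_b4, tl_a7, tl_a2, tl_a3] at h1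
  have := β.ne_zero
  have := σ_ne_zero β
  grind

theorem cent_x7 {g : G} (hg : g ∈ L.C) (h : Commute g (L.ι (x7 1))) : g ∈ (T7 K).map L.ι := by
  rcases L.mem_C.1 hg with ⟨u, β, rfl⟩ | ⟨u, β, v, hv, rfl⟩
  · have h1 := L.cent_small h
    rw [tl_x7, UU.ext_iff] at h1
    uus at h1
    obtain rfl : β = 1 := by_contra fun k => N1_ne k (by grind)
    simp only [Units.val_one, map_one, mul_one] at h1
    have h2 : u.a1 = 0 := (map_eq_zero σ).1 (by grind)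
    have h3 : u.b2 = 0 := (map_eq_zero σ).1 (by grind)
    exact ⟨u, ⟨h2, h3, by grind, by grind⟩, by simp⟩
  have e : v * x7 1 * v⁻¹ = x7 1 := by rw [eq_of_mem_U8 hv]; uu
  have h1 := congrArg a1 (L.cent_big (by simp [e]) h)
  rw [e] at h1
  uus [tl_a1, ν8] at h1
  have := β.ne_zero
  have := σ_ne_zero β
  grind

theorem cent_x8 {g : G} (hg : g ∈ L.C) (e : K) (h : Commute g (L.ι (x8 1 * x4 e))) : g ∈ (T8 K).map L.ι := by
  rcases L.mem_C.1 hg with ⟨u, β, rfl⟩ | ⟨u, β, v, hv, rfl⟩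
  · have h1 := L.cent_small h
    rw [map_mul, tl_x8, tl_x4, UU.ext_iff] at h1
    uus at h1
    obtain rfl : β = 1 := by_contra fun k => N2_ne k (by grind)
    simp only [Units.val_one, map_one, mul_one, one_pow] at h1
    exact ⟨u, ⟨by grind, by grind, by grind, by grind⟩, by simp⟩
  have e1 : v * (x8 1 * x4 e) = x8 1 * x4 e * v := by rw [eq_of_mem_U8 hv]; uu
  have h1 : L.n * L.ι (x8 1) * L.n⁻¹ = (L.ι u * L.h β)⁻¹ * L.ι (x8 1 * x4 e) * (L.ι u * L.h β) * (L.ι (x4 e))⁻¹ := by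
    have h2 := h.eq
    rw [mul_assoc, ← map_mul, e1, map_mul, ← mul_assoc, ← mul_assoc, mul_left_inj] at h2
    rw [← L.nx4, mul_assoc _⁻¹, eq_mul_inv_of_mul_eq h2.symm, map_mul]
    group
  exact absurd (L.conj_not_mem (by simp) (h1 ▸ mul_mem (mul_mem (mul_mem (inv_mem (mul_mem (L.ι_B _) (L.h_B _)))
    (L.ι_B _)) (mul_mem (L.ι_B _) (L.h_B _))) (inv_mem (L.ι_B _)))) (by simp)

theorem eq_one_of_pow {u : UU K} {β : Kˣ} {k : ℕ} (e : (L.ι u * L.h β) ^ 2 ^ k = 1) : β = 1 := by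
  have h : ∀ j : ℕ, ∃ v, (L.ι u * L.h β) ^ j = L.ι v * L.h (β ^ j) := fun j => by
    induction j with
    | zero => exact ⟨1, by simp⟩
    | succ j ih =>
      obtain ⟨v, hv⟩ := ih
      exact ⟨v * tl (β ^ j) u, by
        rw [pow_succ, hv, pow_succ, map_mul, map_mul, mul_assoc, ← mul_assoc (L.h _), L.h_ι]; group⟩
  obtain ⟨v, hv⟩ := h (2 ^ k)
  exact unit_eq_one (L.small_inj (u' := 1) (β' := 1) (by rw [← hv, e]; simp)).2

theorem conj_h_big (u v : UU K) (β γ : Kˣ) : L.h γ * (L.ι u * L.h β * L.n * L.ι v) * (L.h γ)⁻¹ =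
    L.ι (tl γ u) * L.h (β * (γ * γ)) * L.n * L.ι (tl γ v) := by
  rw [← L.hι, ← L.hι, mul_left_comm β, map_mul, map_mul]
  nth_rw 1 [← L.h_n_h γ]
  group

variable [Finite K]

theorem cent_h (q : 2 < Nat.card K) {g : G} (hg : g ∈ L.C) (h : ∀ β, Commute g (L.h β)) :
    ∃ u ∈ U4 K, ∃ β, g = L.ι u * L.h β := by
  obtain ⟨γ, hγ⟩ := exists_unit_ne q
  have h0 := (h γ).symm.mul_inv_cancel
  rcases L.mem_C.1 hg with ⟨u, β, rfl⟩ | ⟨u, β, v, hv, rfl⟩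
  · refine ⟨u, ?_, β, rfl⟩
    rw [← mul_assoc, L.h_ι, mul_assoc, mul_assoc, ← map_inv, ← map_mul, ← map_mul] at h0
    have h1 := (L.small_inj h0).1
    have := N1_ne hγ
    have := N2_ne hγ
    have := σ_ne hγ
    have := γ.ne_zero
    have := σ_ne_zero γ
    have : (γ : K) ≠ 1 := fun e => hγ (Units.ext e)
    simp only [UU.ext_iff, tl_a1, tl_b8, tl_b2, tl_a8, tl_b6, tl_b4, tl_a7, tl_a2, tl_a3, tl_a5, tl_a6, tl_a4] at h1
    rw [mem_U4]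
    grind
  · rw [conj_h_big] at h0
    have h1 := (L.big_inj (tl_mem_U8 γ hv) hv h0).2.1
    exact absurd (unit_eq_one (k := 1) (by simpa [sq] using h1)) hγ

theorem C_le_of {A : Subgroup G} (h1 : L.S ≤ A) (h2 : L.n ∈ A) : L.C ≤ A := by
  have k : ∀ u, L.ι u ∈ A := fun u => h1 ⟨u, rfl⟩
  refine L.C_le k (fun β => ?_) h2
  obtain ⟨-, -, e⟩ := L.rk (x8 1) (by simp) (by simp)
  obtain ⟨δ, hδ⟩ := exists_unit_sq ((ρ (x8 1)).2.1⁻¹ * β)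
  have h3 := L.conj_h_big (ρ (x8 1)).1 (ρ (x8 1)).2.2 (ρ (x8 1)).2.1 δ
  rw [← e, hδ, mul_inv_cancel_left] at h3
  have h4 := mul_mem (mul_mem h2 (k (tl δ⁻¹ (x8 1)))) (inv_mem h2)
  rw [← L.hι, ← conj_mul, ← conj_mul, ← conj_inv, L.nh, inv_inv, h3] at h4
  exact (mul_mem_cancel_left (k _)).1 ((mul_mem_cancel_right h2).1 ((mul_mem_cancel_right (k _)).1 h4))

theorem perfect (q : 2 < Nat.card K) : ⁅L.C, L.C⁆ = L.C := by
  refine le_antisymm (commutator_le_self _) ?_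
  obtain ⟨γ, hγ⟩ := exists_unit_ne q
  have := N1_ne hγ
  have := N2_ne hγ
  have := σ_ne hγ
  have := γ.ne_zero
  have := σ_ne_zero γ
  have : (γ : K) ≠ 1 := fun e => hγ (Units.ext e)
  let A := ⁅L.C, L.C⁆.comap L.ι
  have k1 : ∀ u, tl γ u * u⁻¹ ∈ A := fun u => by
    simpa [A, ← L.hι, commutatorElement_def] using commutator_mem_commutator (L.h_mem γ) (L.ι_mem u)
  have k2 : ∀ u v, ⁅u, v⁆ ∈ A := fun u v => by
    rw [mem_comap, map_commutatorElement]; exact commutator_mem_commutator (L.ι_mem u) (L.ι_mem v)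
  have k3 : ∀ (f : K → UU K) (w : K), w ≠ 1 → (∀ s, f (w * s + s) ∈ A) → ∀ t, f t ∈ A := fun f w h1 h2 t => by
    convert h2 (t / (w + 1)); grind
  have e1 := k3 x1 (γ * σ (γ : K))⁻¹ (by grind) fun s => by convert k1 (x1 s) using 1; rw [tl_x1, x1_inv, x1_add]
  have e2 := k3 x2 (γ * σ (γ : K))⁻¹ (by grind) fun s => by convert k1 (x2 s) using 1; rw [tl_x2, x2_inv, x2_add]
  have e3 := k3 x3 (γ : K)⁻¹ (by grind) fun s => by convert k1 (x3 s) using 1; rw [tl_x3, x3_inv, x3_add]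
  have e5 := k3 x5 γ (by grind) fun s => by convert k1 (x5 s) using 1; rw [tl_x5, x5_inv, x5_add]
  have e6 := k3 x6 (γ * σ (γ : K)) (by grind) fun s => by convert k1 (x6 s) using 1; rw [tl_x6, x6_inv, x6_add]
  have e7 := k3 x7 (γ * σ (γ : K)) (by grind) fun s => by convert k1 (x7 s) using 1; rw [tl_x7, x7_inv, x7_add]
  have e8 := k3 x8 (γ ^ 2 * σ (γ : K)) (by grind) fun s => by convert k1 (x8 s) using 1; rw [tl_x8, x8_inv, x8_add]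
  have e4 : ∀ t, x4 t ∈ A := fun t => x4_eq t ▸ k2 _ _
  have f2 := k3 y2 (γ : K)⁻¹ (by grind) fun s => by
    rw [y2_eq, ← tl_y2]; exact mul_mem (k1 _) (e2 _)
  have f6 := k3 y6 γ (by grind) fun s => by
    rw [y6_eq, ← tl_y6]; exact mul_mem (k1 _) (e6 _)
  have f8 := k3 y8 (σ (γ : K)) (by grind) fun s => by
    rw [y8_eq, ← tl_y8]; exact mul_mem (k1 _) (e8 _)
  have f4 : ∀ t, y4 t ∈ A := fun t => by
    obtain ⟨s, rfl⟩ := exists_σ t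
    rw [y4_eq]
    exact mul_mem (mul_mem (inv_mem (f6 s)) (mul_mem (mul_mem (inv_mem (mul_mem (f8 1) (f2 s))) (f2 s)) (f8 1))) (e4 _)
  have hS : ∀ u, L.ι u ∈ ⁅L.C, L.C⁆ := eq_top_of e1 f8 f2 e8 f6 f4 e7 e2 e3 e5 e6 e4
  refine L.C_le_of (by rintro _ ⟨u, rfl⟩; exact hS u) ?_
  obtain ⟨-, -, e⟩ := L.rk (x8 1) (by simp) (by simp)
  obtain ⟨δ, hδ⟩ := exists_unit_sq (ρ (x8 1)).2.1
  have h3 := commutator_mem_commutator (L.h_mem δ) L.n_mem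
  rw [commutatorElement_def, ← map_inv, mul_assoc, mul_assoc, ← mul_assoc L.n, L.nh, inv_inv, ← map_mul, hδ] at h3
  have h4 := mul_mem (commutator_mem_commutator L.n_mem (L.ι_mem (x8 1))) (hS (x8 1))
  rw [commutatorElement_def, inv_mul_cancel_right, e] at h4
  exact (mul_mem_cancel_left (mul_mem (hS _) h3)).1 ((mul_mem_cancel_right (hS _)).1 h4)

theorem S_two : IsPGroup 2 L.S := (UU.isPGroup K).of_surjective _ L.ι.rangeRestrict_surjective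

theorem ι_pow (u : UU K) : ∃ k, L.ι u ^ 2 ^ k = 1 := (UU.isPGroup K u).imp fun k h => by rw [← map_pow, h, map_one]

variable [Finite G]

theorem small_of_NS {g : G} (hg : g ∈ L.C) (h : g ∈ Ns L.S) : g ∈ L.B := (L.mem_C.1 hg).resolve_right (by
  rintro ⟨u, β, v, -, rfl⟩
  have h1 := (mul_mem_cancel_left (L.B_le_NS ⟨u, β, rfl⟩)).1 ((mul_mem_cancel_right (L.B_le_NS (L.ι_B v))).1 h)
  obtain ⟨w, e⟩ := mem_normalizer_conj h1 ⟨x8 1, rfl⟩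
  exact absurd (L.conj_not_mem (by simp) (e ▸ L.ι_B w)) (by simp))

theorem syl : IsSylowIn 2 L.S L.C := isSylowIn_of_maximal L.S_le L.S_two fun P hP h1 h2 => by_contra fun h => by
  obtain ⟨g, ⟨h3, h4⟩, h5⟩ := SetLike.exists_of_lt (lt_inf_normalizer hP (lt_of_le_not_ge h1 h))
  obtain ⟨u, β, rfl⟩ := L.small_of_NS (h2 h3) h4
  obtain ⟨k, hk⟩ := hP ⟨_, h3⟩
  rw [L.eq_one_of_pow (congrArg Subtype.val hk)] at h5
  exact h5 ⟨u, by simp⟩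

theorem NC_le_NQ : Ns L.C ≤ Ns L.Q := fun g hg => by
  have h1 : L.C ≤ Ns (cj g L.Q) := by
    rw [← cj_eq_of_mem_normalizer hg, Ns, ← cj_normalizer]; exact cj_mono g L.C_le_NQ
  exact mem_normalizer_of_cj_le (L.le_Q (L.syl.le_of_normal (isPGroup_cj (L.S_two.to_le (L.map_le_S _)) g)
    ((cj_mono g (L.map_le_C _)).trans (cj_eq_of_mem_normalizer hg).le) h1) (h1 L.n_mem))

variable {L}

theorem Base.syl (b : L.Base) : IsSylowIn 2 L.S ⊤ := L.syl.trans le_top (by rw [relIndex_top_right]; exact b.odd)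

theorem Base.NZ_le (b : L.Base) : Ns L.Z ≤ Ns L.C := fun g hg => by
  obtain ⟨τ, h1, -, h2⟩ := b.ti
  exact h2 g (mem_normalizer_conj hg h1)

theorem Base.CQ_eq (b : L.Base) : Cs L.Q = L.Z :=
  le_antisymm b.cQ (le_centralizer_iff.1 ((L.map_le_C _).trans L.C_le_CZ))

theorem Base.NC_le (b : L.Base) : Ns L.C ≤ Ns L.Z :=
  L.NC_le_NQ.trans (b.CQ_eq ▸ normalizer_le_normalizer_centralizer _)

theorem Base.two (b : L.Base) {g : G} (hg : g ∈ Ns L.Z) {k : ℕ} (e : g ^ 2 ^ k = 1) : g ∈ L.C := by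
  obtain ⟨x, hx, h⟩ := (b.syl.mono (L.S_le.trans le_normalizer) le_top).exists_cj_le (Q := zpowers g)
    (IsPGroup.of_card_dvd_pow (by rw [Nat.card_zpowers]; exact orderOf_dvd_of_pow_eq_one e))
    (zpowers_le.2 (b.NZ_le hg))
  simpa [mul_assoc] using mem_normalizer_conj' hx (L.S_le (h (conj_mem_cj.2 (mem_zpowers g))))

theorem Base.NV_le (b : L.Base) : Ns L.V ≤ Ns L.R := fun g hg => mem_normalizer_of_cj_le (cj_le_iff.2 fun r hr => by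
  have h1 := mem_normalizer_conj (normalizer_le_normalizer_centralizer _ hg) (L.R_le_CV hr)
  obtain ⟨u, -, rfl⟩ := hr
  obtain ⟨k, hk⟩ := L.ι_pow u
  exact L.cent_x6 (b.two (centralizer_le_normalizer _ (centralizer_le L.Z_le_V h1)) (k := k)
    (by rw [conj_pow, hk]; simp)) one_ne_zero (h1 _ (L.ι_mem_map.2 (by simp))).symm)

theorem Base.NS_le (_ : L.Base) : Ns L.S ≤ Ns L.Z ⊓ Ns L.V := fun g hg => by
  have h1 : g ∈ Ns L.Z := mem_normalizer_of_cj_le (cj_le_iff.2 fun z hz => by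
    obtain ⟨u, e⟩ := mem_normalizer_conj hg (L.map_le_S _ hz)
    refine ⟨u, mem_Z_of_comm fun v _ => L.inj ?_, e⟩
    have := L.C_le_CZ (L.S_le (mem_normalizer_conj' hg ⟨v, rfl⟩)) z hz
    rw [map_mul, map_mul, e]
    calc _ = g * (z * (g⁻¹ * L.ι v * g)) * g⁻¹ := by group
      _ = _ := by rw [this]; group)
  refine ⟨h1, mem_normalizer_of_cj_le (cj_le_iff.2 ?_)⟩
  rintro _ ⟨w, hw, rfl⟩
  obtain ⟨u, e⟩ := mem_normalizer_conj hg ⟨w, rfl⟩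
  refine ⟨u, mem_V_of_comm fun v => L.ι_mem_map.1 ?_, e⟩
  obtain ⟨v', e'⟩ := mem_normalizer_conj' hg ⟨v, rfl⟩
  convert mem_normalizer_conj h1 (L.ι_mem_map.2 (comm_mem_Z hw v')) using 1
  simp only [map_mul, map_inv, e, e', commutatorElement_def]
  group

end Lc

end Cfsg.Lib.Oct
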