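import Cfsg.Agent.Oct.U
import Cfsg.Agent.Gold.Defs
import Cfsg.Agent.Trans.SylowIn

/-!
# Groups with the local structure of ²F₄(q): definitions
-/

set_option autoImplicit false
set_option linter.unusedSectionVars false
set_option maxRecDepth 100000

namespace Cfsg.Lib.Oct

open Subgroup Function Cfsg.Lib.Trans Cfsg.Lib.Gold UU

variable {K : Type*} [Field K] [TwF K]

/-- The action of `n₈` on `Q`. -/
def ν8 (u : UU K) : UU K :=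
  x7 u.a1 * y6 u.b2 * y2 u.b6 * y4 u.b4 * x1 u.a7 * x6 u.a2 * x5 u.a3 * x3 u.a5 * x2 u.a6 * x4 u.a4

/-- The action of `n₁` on `R`. -/
def ν1 (u : UU K) : UU K :=
  y2 u.b8 * y8 u.b2 * x2 u.a8 * y4 u.b6 * y6 u.b4 * x3 u.a7 * x8 u.a2 * x7 u.a3 * x5 u.a5 * x4 u.a6 * x6 u.a4

/-- The data of the rank one relation in the Suzuki group. -/
abbrev RK (K : Type*) [Field K] := UU K → UU K × Kˣ × UU K

/-- The centraliser of a central involution. -/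
structure Lc (ρ : RK K) (G : Type*) [Group G] where
  /-- the Sylow subgroup -/
  ι : UU K →* G
  inj : Injective ι
  /-- the torus of the Suzuki group -/
  h : Kˣ →* G
  /-- the reflection `n₈` -/
  n : G
  nn : n * n = 1
  hι : ∀ β u, h β * ι u * (h β)⁻¹ = ι (tl β u)
  nh : ∀ β, n * h β * n⁻¹ = h β⁻¹
  nx1 : ∀ t, n * ι (x1 t) * n⁻¹ = ι (x7 t)
  ny2 : ∀ t, n * ι (y2 t) * n⁻¹ = ι (y6 t)
  nx2 : ∀ t, n * ι (x2 t) * n⁻¹ = ι (x6 t)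
  nx3 : ∀ t, n * ι (x3 t) * n⁻¹ = ι (x5 t)
  ny4 : ∀ t, n * ι (y4 t) * n⁻¹ = ι (y4 t)
  nx4 : ∀ t, n * ι (x4 t) * n⁻¹ = ι (x4 t)
  rk : ∀ v ∈ U8 K, v ≠ 1 → (ρ v).1 ∈ U8 K ∧ (ρ v).2.2 ∈ U8 K ∧
    n * ι v * n⁻¹ = ι (ρ v).1 * h (ρ v).2.1 * n * ι (ρ v).2.2

/-- With the full torus. -/
structure Lt (ρ : RK K) (G : Type*) [Group G] extends Lc ρ G where
  /-- the torus -/
  η : Kˣ × Kˣ →* G
  ηι : ∀ t u, η t * ι u * (η t)⁻¹ = ι (tor (t.1 : K) (t.2 : K) u)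
  hη : ∀ β, h β = η (jL β)
  ηn : ∀ t, η t * n * (η t)⁻¹ = h (σu t.2) * n

/-- With the second reflection. -/
structure Oa (ρ : RK K) (G : Type*) [Group G] extends Lt ρ G where
  /-- the reflection `n₁` -/
  m : G
  mm : m * m = 1
  my8 : ∀ t, m * ι (y8 t) * m⁻¹ = ι (y2 t)
  mx8 : ∀ t, m * ι (x8 t) * m⁻¹ = ι (x2 t)
  my6 : ∀ t, m * ι (y6 t) * m⁻¹ = ι (y4 t)
  mx6 : ∀ t, m * ι (x6 t) * m⁻¹ = ι (x4 t)
  mx7 : ∀ t, m * ι (x7 t) * m⁻¹ = ι (x3 t)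
  mx5 : ∀ t, m * ι (x5 t) * m⁻¹ = ι (x5 t)
  mη : ∀ t, m * η t * m⁻¹ = η (t.1⁻¹, t.1 * t.2)
  br : (m * ι (x1 1)) ^ 3 = 1

/-- With the octagon relation. -/
structure Oc (ρ : RK K) (G : Type*) [Group G] extends Oa ρ G where
  r8 : (m * n) ^ 8 = 1

variable {ρ : RK K} {G G' : Type*} [Group G] [Group G']

namespace Lc

variable (L : Lc ρ G)

/-- The Sylow subgroup. -/
abbrev S : Subgroup G := L.ι.range
/-- The centre of `S`. -/
abbrev Z : Subgroup G := (UU.Z K).map L.ι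
/-- The second centre of `S`. -/
abbrev V : Subgroup G := (UU.V K).map L.ι
/-- A conjugate of `Z`. -/
abbrev V6 : Subgroup G := (UU.V6 K).map L.ι
/-- The centraliser of `V` in `S`. -/
abbrev R : Subgroup G := (UU.R K).map L.ι
/-- The largest normal `2`-subgroup of `C`. -/
abbrev Q : Subgroup G := (UU.Q K).map L.ι
/-- The centraliser of `Z`. -/
def C : Subgroup G := L.S ⊔ L.h.range ⊔ zpowers L.n

theorem ι_mem (u : UU K) : L.ι u ∈ L.C := mem_sup_left (mem_sup_left ⟨u, rfl⟩)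

theorem h_mem (β : Kˣ) : L.h β ∈ L.C := mem_sup_left (mem_sup_right ⟨β, rfl⟩)

theorem n_mem : L.n ∈ L.C := mem_sup_right (mem_zpowers _)

theorem S_le : L.S ≤ L.C := le_sup_left.trans le_sup_left

theorem C_le {A : Subgroup G} (h1 : ∀ u, L.ι u ∈ A) (h2 : ∀ β, L.h β ∈ A) (h3 : L.n ∈ A) : L.C ≤ A :=
  sup_le (sup_le (by rintro _ ⟨u, rfl⟩; exact h1 u) (by rintro _ ⟨u, rfl⟩; exact h2 u)) (zpowers_le.2 h3)

@[simp] theorem ι_mem_map {A : Subgroup (UU K)} {u : UU K} : L.ι u ∈ A.map L.ι ↔ u ∈ A :=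
  mem_map_iff_mem L.inj

theorem n_inv : L.n⁻¹ = L.n := inv_eq_of_mul_eq_one_right L.nn

/-- Transport along an embedding of `C`. -/
def map (φ : L.C →* G') (hφ : Injective φ) : Lc ρ G' where
  ι := φ.comp (L.ι.codRestrict _ L.ι_mem)
  inj := hφ.comp fun _ _ e => L.inj (congrArg Subtype.val e)
  h := φ.comp (L.h.codRestrict _ L.h_mem)
  n := φ ⟨L.n, L.n_mem⟩
  nn := by rw [← map_mul, ← map_one φ]; exact congrArg φ (Subtype.ext L.nn)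
  hι β u := by simp only [MonoidHom.comp_apply, ← map_mul, ← map_inv φ]; exact congrArg φ (Subtype.ext (L.hι β u))
  nh β := by simp only [MonoidHom.comp_apply, ← map_mul, ← map_inv φ]; exact congrArg φ (Subtype.ext (L.nh β))
  nx1 t := by simp only [MonoidHom.comp_apply, ← map_mul, ← map_inv φ]; exact congrArg φ (Subtype.ext (L.nx1 t))
  ny2 t := by simp only [MonoidHom.comp_apply, ← map_mul, ← map_inv φ]; exact congrArg φ (Subtype.ext (L.ny2 t))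
  nx2 t := by simp only [MonoidHom.comp_apply, ← map_mul, ← map_inv φ]; exact congrArg φ (Subtype.ext (L.nx2 t))
  nx3 t := by simp only [MonoidHom.comp_apply, ← map_mul, ← map_inv φ]; exact congrArg φ (Subtype.ext (L.nx3 t))
  ny4 t := by simp only [MonoidHom.comp_apply, ← map_mul, ← map_inv φ]; exact congrArg φ (Subtype.ext (L.ny4 t))
  nx4 t := by simp only [MonoidHom.comp_apply, ← map_mul, ← map_inv φ]; exact congrArg φ (Subtype.ext (L.nx4 t))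
  rk v hv h1 := ⟨(L.rk v hv h1).1, (L.rk v hv h1).2.1, by
    simp only [MonoidHom.comp_apply, ← map_mul φ, ← map_inv φ]
    exact congrArg φ (Subtype.ext (L.rk v hv h1).2.2)⟩

theorem map_ι (φ : L.C →* G') (hφ : Injective φ) (u : UU K) : (L.map φ hφ).ι u = φ ⟨L.ι u, L.ι_mem u⟩ := rfl

theorem map_h (φ : L.C →* G') (hφ : Injective φ) (β : Kˣ) : (L.map φ hφ).h β = φ ⟨L.h β, L.h_mem β⟩ := rfl

theorem map_n (φ : L.C →* G') (hφ : Injective φ) : (L.map φ hφ).n = φ ⟨L.n, L.n_mem⟩ := rfl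

theorem map_C (φ : L.C →* G') (hφ : Injective φ) : (L.map φ hφ).C = φ.range := by
  refine le_antisymm (C_le _ (fun _ => ⟨_, rfl⟩) (fun _ => ⟨_, rfl⟩) ⟨_, rfl⟩) ?_
  rintro _ ⟨⟨c, hc⟩, rfl⟩
  obtain ⟨a, ha, rfl⟩ := L.C_le (A := (((L.map φ hφ).C).comap φ).map L.C.subtype)
    (fun u => ⟨⟨_, L.ι_mem u⟩, (L.map φ hφ).ι_mem u, rfl⟩) (fun β => ⟨⟨_, L.h_mem β⟩, (L.map φ hφ).h_mem β, rfl⟩)
    ⟨⟨_, L.n_mem⟩, (L.map φ hφ).n_mem, rfl⟩ hc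
  exact ha

/-- The hypotheses on the ambient group. -/
structure Base : Prop where
  odd : ¬ 2 ∣ L.C.index
  cQ : Cs L.Q ≤ L.Z
  ti : ∃ τ ∈ L.Z, τ ≠ 1 ∧ ∀ g, g * τ * g⁻¹ ∈ L.Z → g ∈ Ns L.C

/-- The fused case. -/
structure Fus : Prop extends L.Base where
  fus : ∃ g ∈ Ns L.V, g ∉ Ns L.Z

/-- Elements interchanging `Z` and `V₆`. -/
def Swap (x : G) : Prop := cj x L.Z = L.V6 ∧ cj x L.V6 = L.Z

/-- A torus. -/
structure Tor (H : Subgroup G) : Prop where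
  odd : Odd (Nat.card H)
  card : Nat.card Kˣ ^ 2 ≤ Nat.card H
  nZ : H ≤ Ns L.Z
  n6 : H ≤ Ns L.V6
  sc : ∀ g ∈ H, ∃ a b : Kˣ, ∀ u, ∃ v, g * L.ι u * g⁻¹ = L.ι v ∧ v.a1 = a * u.a1 ∧ v.b8 = b * u.b8
  sw : ∀ y, L.Swap y → y ∈ Ns (L.R ⊔ H)
  ex : ∃ x ∈ Ns H, L.Swap x

end Lc

/-- The group generated by the root groups. -/
def Oa.GG (O : Oa ρ G) : Subgroup G := O.C ⊔ cj O.m O.C

theorem Oa.m_inv (O : Oa ρ G) : O.m⁻¹ = O.m := inv_eq_of_mul_eq_one_right O.mm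

/-- The diagonal structure in a product. -/
def Oc.prod (O : Oc ρ G) (O' : Oc ρ G') : Oc ρ (G × G') where
  ι := O.ι.prod O'.ι
  inj _ _ e := O.inj (congrArg Prod.fst e)
  h := O.h.prod O'.h
  n := (O.n, O'.n)
  nn := Prod.ext O.nn O'.nn
  hι β u := Prod.ext (O.hι β u) (O'.hι β u)
  nh β := Prod.ext (O.nh β) (O'.nh β)
  nx1 t := Prod.ext (O.nx1 t) (O'.nx1 t)
  ny2 t := Prod.ext (O.ny2 t) (O'.ny2 t)
  nx2 t := Prod.ext (O.nx2 t) (O'.nx2 t)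
  nx3 t := Prod.ext (O.nx3 t) (O'.nx3 t)
  ny4 t := Prod.ext (O.ny4 t) (O'.ny4 t)
  nx4 t := Prod.ext (O.nx4 t) (O'.nx4 t)
  rk v hv h1 := ⟨(O.rk v hv h1).1, (O.rk v hv h1).2.1, Prod.ext (O.rk v hv h1).2.2 (O'.rk v hv h1).2.2⟩
  η := O.η.prod O'.η
  ηι t u := Prod.ext (O.ηι t u) (O'.ηι t u)
  hη β := Prod.ext (O.hη β) (O'.hη β)
  ηn t := Prod.ext (O.ηn t) (O'.ηn t)
  m := (O.m, O'.m)
  mm := Prod.ext O.mm O'.mm
  my8 t := Prod.ext (O.my8 t) (O'.my8 t)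
  mx8 t := Prod.ext (O.mx8 t) (O'.mx8 t)
  my6 t := Prod.ext (O.my6 t) (O'.my6 t)
  mx6 t := Prod.ext (O.mx6 t) (O'.mx6 t)
  mx7 t := Prod.ext (O.mx7 t) (O'.mx7 t)
  mx5 t := Prod.ext (O.mx5 t) (O'.mx5 t)
  mη t := Prod.ext (O.mη t) (O'.mη t)
  br := Prod.ext O.br O'.br
  r8 := Prod.ext O.r8 O'.r8

end Cfsg.Lib.Oct
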