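import Cfsg.Agent.Oct.Defs
import Cfsg.Agent.Chev.TwistF4

/-!
# A collector for the unipotent group of type `F₄` in characteristic two
-/

set_option autoImplicit false
set_option linter.unusedSectionVars false

namespace Cfsg.Lib.Oct.Md

open Cfsg.Lie Cfsg.Lib.Chev

/-- Exponents of `s`, `σ s`, `t`, `σ t`. -/
abbrev Mn : Type := ℕ × ℕ × ℕ × ℕ

/-- A product of powers of two monomials. -/
def lin (a : ℕ) (m : Mn) (b : ℕ) (n : Mn) : Mn :=
  (a * m.1 + b * n.1, a * m.2.1 + b * n.2.1, a * m.2.2.1 + b * n.2.2.1, a * m.2.2.2 + b * n.2.2.2)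

/-- The image of a monomial. -/
def sg (m : Mn) : Mn := (2 * m.2.1, m.1, 2 * m.2.2.2, m.2.2.1)

/-- The sorting key. -/
def key (m : Mn) : ℕ := m.1 + 32 * (m.2.1 + 32 * (m.2.2.1 + 32 * m.2.2.2))

/-- The terms of the commutator formula. -/
def ct (r s : ℕ) : List (ℕ × ℕ × ℕ) :=
  ((chevF4.commTerms r s).filter fun c => c.2.1 % 2 != 0).map fun c => (c.1, c.2.2)

/-- Collection; the first word is reversed. -/
def run : ℕ → List (ℕ × Mn) → List (ℕ × Mn) → Bool
  | 0, _, _ => false
  | _ + 1, r, [] => r.isEmpty
  | f + 1, [], l :: s => run f [l] s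
  | f + 1, k :: r, l :: s =>
    if k.1 = l.1 then
      if k.2 = l.2 then (decide (l.1 < 48) && run f r s)
      else if key l.2 < key k.2 then (decide (l.1 < 48) && run f r (l :: k :: s)) else run f (l :: k :: r) s
    else if l.1 < k.1 then (decide (24 ≤ l.1) && decide (k.1 < 48) &&
      run f r (l :: k :: ((ct l.1 k.1).map (fun c => (c.1, lin c.2.1 l.2 c.2.2 k.2)) ++ s)))
    else run f (l :: k :: r) s

theorem lin_eq_1' : type_of% @lin.eq_1 := @lin.eq_1
theorem sg_eq_1' : type_of% @sg.eq_1 := @sg.eq_1
theorem key_eq_1' : type_of% @key.eq_1 := @key.eq_1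
theorem ct_eq_1' : type_of% @ct.eq_1 := @ct.eq_1
theorem run_eq_1' : type_of% @run.eq_1 := @run.eq_1

variable {K : Type*} [Field K] [TwF K] {G : Type*} [Group G] {x : ℕ → K → G}

/-- The value of a monomial. -/
def ev (s t : K) (m : Mn) : K := s ^ m.1 * σ s ^ m.2.1 * t ^ m.2.2.1 * σ t ^ m.2.2.2

/-- The value of a word. -/
def evs (s t : K) (w : List (ℕ × Mn)) : List (ℕ × K) := w.map fun p => (p.1, ev s t p.2)

theorem ev_eq_1' : type_of% @ev.eq_1 := @ev.eq_1
theorem evs_eq_1' : type_of% @evs.eq_1 := @evs.eq_1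

variable (s t : K)

theorem ev_lin (a b : ℕ) (m n : Mn) : ev s t (lin a m b n) = ev s t m ^ a * ev s t n ^ b := by
  simp only [ev, lin]; ring

theorem ev_sg (m : Mn) : ev s t (sg m) = σ (ev s t m) := by
  simp only [ev, sg, map_mul, map_pow, σσ]; ring

theorem evs_cons (p : ℕ × Mn) (w : List (ℕ × Mn)) : evs s t (p :: w) = (p.1, ev s t p.2) :: evs s t w := rfl

theorem evs_append (v w : List (ℕ × Mn)) : evs s t (v ++ w) = evs s t v ++ evs s t w := List.map_append

theorem comm_lt : ∀ r < 48, 24 ≤ r → chevF4.neg r < 24 ∧ ∀ s < 48, ∀ c ∈ chevF4.commTerms r s, c.1 < 48 := by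
  decide +kernel

theorem lt_n {r : ℕ} (h : r < 48) : r < chevF4.nroots := h

variable (h : StRel chevF4 x)
include h

theorem x_sq {r : ℕ} (hr : r < 48) : x r t * x r t = 1 := by
  rw [h.add r hr, CharTwo.add_self_eq_zero, h.zero hr]

theorem comm2 {r k : ℕ} (h1 : 24 ≤ r) (h2 : r < k) (h3 : k < 48) :
    x k s * x r t = x r t * x k s * word x ((ct r k).map fun c => (c.1, t ^ c.2.1 * s ^ c.2.2)) := by
  obtain ⟨h4, h5⟩ := comm_lt r (h2.trans h3) h1
  rw [h.comm r k (lt_n (h2.trans h3)) h3 h2.ne' (by omega), ChevalleyDatum.commWord, ct]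
  congr 1
  replace h5 := h5 k h3
  generalize chevF4.commTerms r k = L at h5
  induction L with
  | nil => rfl
  | cons c L ih =>
    rw [List.map_cons, word_cons, ih fun c hc => h5 c (List.mem_cons_of_mem _ hc)]
    rcases Int.emod_two_eq_zero_or_one c.2.1 with e | e
    · rw [List.filter_cons_of_neg (by simp [e]), (CharP.intCast_eq_zero_iff K 2 _).2
        (Int.dvd_of_emod_eq_zero e), zero_mul, zero_mul, h.zero (h5 c List.mem_cons_self), one_mul]
    · rw [List.filter_cons_of_pos (by simp [e]), (CharP.intCast_eq_intCast K 2 (b := 1)).2 e]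
      simp [CharTwo.neg_eq]

theorem run_sound : ∀ (f : ℕ) (r w : List (ℕ × Mn)), run f r w = true →
    word x (evs s t r.reverse) * word x (evs s t w) = 1
  | 0, _, _, e => absurd e (by simp [run])
  | _ + 1, r, [], e => by
    obtain rfl : r = [] := by simpa [run] using e
    exact one_mul _
  | f + 1, [], l :: w, e => by simpa [evs] using run_sound f [l] w e
  | f + 1, k :: r, l :: w, e => by
    have h0 : run f (l :: k :: r) w = true →
        word x (evs s t (k :: r).reverse) * word x (evs s t (l :: w)) = 1 := fun e => by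
      simpa [evs, word_append, mul_assoc] using run_sound f _ _ e
    rw [run] at e
    split_ifs at e with h1 h2 h3 h4
    · simp only [Bool.and_eq_true, decide_eq_true_eq] at e
      rw [List.reverse_cons, evs_append, word_append, evs_cons, evs_cons, word_cons, word_cons, h1, h2,
        ← run_sound f _ _ e.2]
      simp [evs, mul_assoc, ← mul_assoc (x _ _), x_sq _ h e.1]
    · simp only [Bool.and_eq_true, decide_eq_true_eq] at e
      rw [List.reverse_cons, evs_append, word_append, evs_cons, evs_cons, word_cons, word_cons,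
        ← run_sound f _ _ e.2]
      simp only [evs, List.map_nil, word_nil, mul_one, mul_assoc, List.map_cons, word_cons, h1]
      rw [← mul_assoc (x _ _), h.add _ (lt_n e.1), add_comm, ← h.add _ (lt_n e.1), mul_assoc]
    · exact h0 e
    · simp only [Bool.and_eq_true, decide_eq_true_eq] at e
      rw [List.reverse_cons, evs_append, word_append, evs_cons, evs_cons, word_cons, word_cons,
        ← run_sound f _ _ e.2]
      simp only [evs, List.map_nil, word_nil, mul_one, List.map_cons, word_cons, List.map_append, word_append,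
        List.map_map, Function.comp_def, ev_lin]
      rw [mul_assoc, ← mul_assoc (x _ _), comm2 _ _ h e.1.1 h4 e.1.2]
      simp only [mul_assoc]
    · exact h0 e

theorem word_reverse {w : List (ℕ × K)} (hw : ∀ p ∈ w, p.1 < 48) : word x w.reverse = (word x w)⁻¹ := by
  induction w with
  | nil => simp
  | cons p w ih =>
    rw [List.reverse_cons, word_append, ih fun q hq => hw q (List.mem_cons_of_mem _ hq), word_cons,
      word_cons, mul_inv_rev, word_nil, mul_one, inv_eq_of_mul_eq_one_right (x_sq _ h (hw p List.mem_cons_self))]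

theorem word_eq {v w : List (ℕ × Mn)} (e : (w.all (·.1 < 48) && run 100000 [] (v ++ w.reverse)) = true) :
    word x (evs s t v) = word x (evs s t w) := by
  simp only [Bool.and_eq_true, List.all_eq_true, decide_eq_true_eq] at e
  have := run_sound s t h _ _ _ e.2
  rwa [evs_append, word_append, show evs s t w.reverse = (evs s t w).reverse from List.map_reverse,
    word_reverse h (w := evs s t w) (List.forall_mem_map.2 e.1), List.reverse_nil, show word x (evs s t []) = 1 from rfl,
    one_mul, mul_inv_eq_one] at this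

end Cfsg.Lib.Oct.Md
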