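import Cfsg.Agent.Oct.ModA
import Cfsg.Agent.Oct.LcA
import Cfsg.Agent.Solv.PGroupBasic

/-!
# The unipotent group of the octagon inside a group of type `F₄`
-/

set_option autoImplicit false
set_option linter.unusedSectionVars false
set_option maxRecDepth 100000

namespace Cfsg.Lib.Oct.Md

open Cfsg.Lie Cfsg.Lib.Chev UU Subgroup

/-- The roots of the letters. -/
def ld (k : ℕ) : List (ℕ × ℕ × ℕ) :=
  [[(33, 1, 0), (24, 0, 1)], [(27, 1, 0), (25, 0, 1), (30, 2, 1)], [(34, 1, 0), (26, 0, 1), (42, 2, 1)],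
    [(28, 1, 0), (30, 0, 1)], [(35, 1, 0), (31, 0, 1), (46, 2, 1)], [(29, 1, 0), (41, 0, 1), (47, 2, 1)],
    [(37, 1, 0), (32, 0, 1)], [(36, 1, 0), (42, 0, 1)], [(38, 1, 0), (43, 0, 1)], [(39, 1, 0), (45, 0, 1)],
    [(40, 1, 0), (46, 0, 1)], [(44, 1, 0), (47, 0, 1)]].getD k []

/-- The commutation rules. -/
def rl : ℕ → ℕ → List (ℕ × Mn)
  | 1, 0 => [(2, 1, 0, 1, 0), (4, 1, 1, 1, 0), (6, 2, 1, 1, 0), (8, 2, 1, 1, 1)]
  | 3, 0 => [(4, 1, 0, 1, 0), (5, 1, 0, 0, 1), (6, 0, 1, 1, 0), (7, 1, 0, 1, 1), (8, 0, 1, 1, 1), (9, 2, 0, 1, 1),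
      (10, 1, 1, 1, 1), (11, 1, 1, 2, 1)]
  | 4, 0 => [(7, 1, 0, 0, 1), (8, 0, 1, 1, 0)]
  | 5, 0 => [(7, 1, 0, 1, 0)]
  | 6, 0 => [(8, 1, 0, 0, 1), (9, 0, 1, 1, 0)]
  | 10, 0 => [(11, 1, 0, 1, 0)]
  | 2, 1 => [(4, 1, 0, 0, 1), (5, 0, 1, 1, 0), (11, 2, 1, 1, 1)]
  | 4, 1 => [(6, 1, 0, 1, 0)]
  | 7, 1 => [(8, 1, 0, 1, 0), (9, 1, 0, 1, 1), (10, 1, 0, 2, 1)]
  | 8, 1 => [(9, 1, 0, 0, 1), (11, 0, 1, 1, 0)]
  | 9, 1 => [(10, 1, 0, 1, 0)]
  | 3, 2 => [(6, 1, 0, 1, 0), (9, 1, 0, 1, 1), (11, 1, 0, 2, 1)]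
  | 5, 2 => [(8, 1, 0, 1, 0)]
  | 6, 2 => [(9, 1, 0, 0, 1), (10, 0, 1, 1, 0)]
  | 9, 2 => [(11, 1, 0, 1, 0)]
  | 7, 3 => [(9, 1, 0, 1, 0), (10, 1, 0, 0, 1), (11, 0, 1, 1, 0)]
  | 8, 3 => [(10, 1, 0, 1, 0)]
  | 5, 4 => [(9, 1, 0, 1, 0)]
  | 8, 4 => [(11, 1, 0, 1, 0)]
  | 6, 5 => [(10, 1, 0, 1, 0)]
  | 7, 6 => [(11, 1, 0, 1, 0)]
  | 1, 1 => [(3, 0, 1, 1, 0)]
  | 2, 2 => [(7, 0, 1, 1, 0)]
  | 4, 4 => [(10, 0, 1, 1, 0)]
  | 5, 5 => [(11, 0, 1, 1, 0)]
  | _, _ => []

/-- Expansion of a word in the letters. -/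
def ex (w : List (ℕ × Mn)) : List (ℕ × Mn) :=
  w.flatMap fun p => (ld p.1).map fun c => (c.1, lin c.2.1 p.2 c.2.2 (sg p.2))

/-- Expansion of a power of a sum. -/
def ad (a b : ℕ) : List Mn :=
  if b = 0 then [(1, 0, 0, 0), (0, 0, 1, 0)] else if a = 0 then [(0, 1, 0, 0), (0, 0, 0, 1)]
  else [(2, 1, 0, 0), (2, 0, 0, 1), (0, 1, 2, 0), (0, 0, 2, 1)]

/-- The check of an identity. -/
def ck (v w : List (ℕ × Mn)) : Bool := w.all (·.1 < 48) && run 100000 [] (v ++ w.reverse)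

theorem ld_eq_1' : type_of% @ld.eq_1 := @ld.eq_1
theorem rl_eq_1' : type_of% @rl.eq_1 := @rl.eq_1
theorem ex_eq_1' : type_of% @ex.eq_1 := @ex.eq_1
theorem ad_eq_1' : type_of% @ad.eq_1 := @ad.eq_1
theorem ck_eq_1' : type_of% @ck.eq_1 := @ck.eq_1

theorem ck_rl : ∀ j < 12, ∀ i < j, ck (ex [(j, 1, 0, 0, 0), (i, 0, 0, 1, 0)])
    (ex ((i, 0, 0, 1, 0) :: (j, 1, 0, 0, 0) :: rl j i)) = true := by decide +kernel

theorem ck_ad : ∀ i < 12, ck (ex [(i, 1, 0, 0, 0), (i, 0, 0, 1, 0)])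
    (((ld i).flatMap fun c => (ad c.2.1 c.2.2).map fun m => (c.1, m)) ++ ex (rl i i)) = true := by decide +kernel

theorem rl_lt : ∀ j < 12, ∀ i ≤ j, ∀ p ∈ rl j i, i + 1 ≤ p.1 ∧ p.1 < 12 := by decide +kernel

theorem ld_ok : ∀ i < 12, ∀ c ∈ ld i, 24 ≤ c.1 ∧ c.1 < 48 ∧ (c.2 = (1, 0) ∨ c.2 = (0, 1) ∨ c.2 = (2, 1)) := by
  decide +kernel

variable {K : Type*} [Field K] [TwF K] {G : Type*} [Group G]

/-- The relations between the letters. -/
structure Rel (f : ℕ → K → G) : Prop where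
  zero : ∀ i < 12, f i 0 = 1
  comm : ∀ j < 12, ∀ i < j, ∀ s t, f j s * f i t = f i t * (f j s * word f (evs s t (rl j i)))
  add : ∀ i < 12, ∀ s t, f i s * f i t = f i (s + t) * word f (evs s t (rl i i))

theorem Rel.prod {G' : Type*} [Group G'] {f : ℕ → K → G} {f' : ℕ → K → G'} (h : Rel f) (h' : Rel f') :
    Rel fun i t => (f i t, f' i t) := by
  have e : ∀ w, word (fun i t => (f i t, f' i t)) w = (word f w, word f' w) := fun w => by
    induction w with
    | nil => rfl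
    | cons p w ih => rw [word_cons, ih]; rfl
  exact ⟨fun i hi => Prod.ext (h.zero i hi) (h'.zero i hi),
    fun j hj i hi s t => by rw [e]; exact Prod.ext (h.comm j hj i hi s t) (h'.comm j hj i hi s t),
    fun i hi s t => by rw [e]; exact Prod.ext (h.add i hi s t) (h'.add i hi s t)⟩

theorem Rel.ordered {f : ℕ → K → G} (h : Rel f) (n : ℕ) : ∀ k, k + n = 12 →
    ∀ g ∈ Submonoid.closure {g | ∃ j t, k ≤ j ∧ j < 12 ∧ g = f j t},
      ∃ c : ℕ → K, g = ((List.range' k n).map fun j => f j (c j)).prod := by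
  induction n with
  | zero =>
    intro k hk g hg
    refine ⟨0, Submonoid.mem_bot.1 (Submonoid.closure_le.2 ?_ hg)⟩
    rintro _ ⟨j, t, h1, h2, rfl⟩
    omega
  | succ n ih =>
    intro k hk g hg
    set M := Submonoid.closure {g | ∃ j t, k + 1 ≤ j ∧ j < 12 ∧ g = f j t}
    have hf : ∀ j t, k + 1 ≤ j → j < 12 → f j t ∈ M := fun j t h1 h2 =>
      Submonoid.subset_closure ⟨j, t, h1, h2, rfl⟩
    have hw : ∀ j < 12, k ≤ j → ∀ s t, word f (evs s t (rl j k)) ∈ M := fun j h1 h2 s t =>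
      Submonoid.list_prod_mem _ fun g hg => by
        obtain ⟨p, hp, rfl⟩ := List.mem_map.1 hg
        obtain ⟨q, hq, rfl⟩ := List.mem_map.1 hp
        exact hf _ _ (rl_lt j h1 k h2 q hq).1 (rl_lt j h1 k h2 q hq).2
    have h1 : ∀ t, ∀ m ∈ M, ∃ m' ∈ M, m * f k t = f k t * m' := fun t m hm => by
      induction hm using Submonoid.closure_induction with
      | mem m hm =>
        obtain ⟨j, s, h1, h2, rfl⟩ := hm
        exact ⟨_, mul_mem (hf j s h1 h2) (hw j h2 (by omega) s t), h.comm j h2 k h1 s t⟩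
      | one => exact ⟨1, one_mem _, by simp⟩
      | mul a b _ _ ha hb =>
        obtain ⟨a', h1, h2⟩ := ha
        obtain ⟨b', h3, h4⟩ := hb
        exact ⟨_, mul_mem h1 h3, by rw [mul_assoc, h4, ← mul_assoc, h2, mul_assoc]⟩
    obtain ⟨t, m, hm, rfl⟩ : ∃ t, ∃ m ∈ M, g = f k t * m := by
      induction hg using Submonoid.closure_induction_right with
      | one => exact ⟨0, 1, one_mem _, by rw [h.zero k (by omega), one_mul]⟩
      | mul_right a _ b hb ih =>
        obtain ⟨t, m, hm, rfl⟩ := ih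
        obtain ⟨j, s, h2, h3, rfl⟩ := hb
        rcases h2.eq_or_lt with rfl | h2
        · obtain ⟨m', h4, h5⟩ := h1 s m hm
          exact ⟨t + s, _, mul_mem (hw k h3 le_rfl t s) h4, by
            rw [mul_assoc, h5, ← mul_assoc, h.add k h3, mul_assoc]⟩
        · exact ⟨t, _, mul_mem hm (hf j s h2 h3), mul_assoc _ _ _⟩
    obtain ⟨c, rfl⟩ := ih (k + 1) (by omega) m hm
    refine ⟨Function.update c k t, ?_⟩
    rw [List.range'_succ, List.map_cons, List.prod_cons, Function.update_self]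
    congr 2
    exact List.map_congr_left fun j hj => by
      rw [Function.update_of_ne (by have := (List.mem_range'_1.1 hj).1; omega)]

/-- The ordered product. -/
def op (f : ℕ → K → G) (u : UU K) : G :=
  f 0 u.a1 * f 1 u.b8 * f 2 u.b2 * f 3 u.a8 * f 4 u.b6 * f 5 u.b4 * f 6 u.a7 * f 7 u.a2 * f 8 u.a3 *
    f 9 u.a5 * f 10 u.a6 * f 11 u.a4

/-- The letters of `UU`. -/
def lt (k : ℕ) (t : K) : UU K :=
  [x1 t, y8 t, y2 t, x8 t, y6 t, y4 t, x7 t, x2 t, x3 t, x5 t, x6 t, x4 t].getD k 1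

theorem op_eq_1' : type_of% @op.eq_1 := @op.eq_1
theorem lt_eq_1' : type_of% @lt.eq_1 := @lt.eq_1

theorem op_lt (u : UU K) : op lt u = u := by
  unfold op
  exact Eq.trans (by simp only [lt, List.getD_cons_succ, List.getD_cons_zero]) u.nf.symm

set_option maxHeartbeats 4000000 in
theorem rel_lt : Rel (lt (K := K)) := by
  refine ⟨fun i hi => ?_, fun j hj i hi s t => ?_, fun i hi s t => ?_⟩
  · interval_cases i <;> rfl
  · interval_cases j <;> interval_cases i <;>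
      simp only [lt, rl, evs, ev, word_cons, word_nil, List.map_cons, List.map_nil, List.getD_cons_succ,
        List.getD_cons_zero, pow_zero, pow_one, mul_one, one_mul, ← mul_assoc] <;>
      uus [UU.mk.injEq, true_and, and_true] <;> grind
  · interval_cases i <;>
      simp only [lt, rl, evs, ev, word_cons, word_nil, List.map_cons, List.map_nil, List.getD_cons_succ,
        List.getD_cons_zero, pow_zero, pow_one, mul_one, one_mul, x1_add, y8_add, y2_add, x8_add, y6_add, y4_add,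
        x7_add, x2_add, x3_add, x5_add, x6_add, x4_add]

theorem Rel.op_mul {f : ℕ → K → G} (h : Rel f) (u v : UU K) : op f (u * v) = op f u * op f v := by
  have hm : ∀ u : UU K, op (fun i t => (lt i t, f i t)) u ∈
      Submonoid.closure {g | ∃ j t, 0 ≤ j ∧ j < 12 ∧ g = ((lt j t : UU K), f j t)} := fun u => by
    unfold op
    repeat' apply mul_mem
    all_goals exact Submonoid.subset_closure ⟨_, _, Nat.zero_le _, by decide, rfl⟩
  obtain ⟨c, hc⟩ := (rel_lt.prod h).ordered 12 0 rfl _ (mul_mem (hm u) (hm v))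
  replace hc : _ = op (fun i t => ((lt i t : UU K), f i t))
      ⟨c 0, c 1, c 2, c 3, c 4, c 5, c 6, c 7, c 8, c 9, c 10, c 11⟩ := hc.trans (by
    simp only [List.range', List.map_cons, List.map_nil, List.prod_cons, List.prod_nil, op, mul_assoc, mul_one])
  have e : ∀ u : UU K, op (fun i t => ((lt i t : UU K), f i t)) u = (u, op f u) := fun u =>
    Prod.ext (Eq.trans (by simp only [op, Prod.fst_mul]) (op_lt u)) (by simp only [op, Prod.snd_mul])
  rw [e, e, e, Prod.mk_mul_mk, Prod.mk.injEq] at hc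
  rw [hc.2, hc.1]

/-- The homomorphism given by letters. -/
def Rel.hom {f : ℕ → K → G} (h : Rel f) : UU K →* G := MonoidHom.mk' (op f) h.op_mul

theorem Rel.hom_eq_1' : type_of% @Rel.hom.eq_1 := @Rel.hom.eq_1

theorem Rel.hom_lt {f : ℕ → K → G} (h : Rel f) {k : ℕ} (hk : k < 12) (t : K) : h.hom (lt k t) = f k t := by
  change op f _ = _
  interval_cases k <;> simp [op, lt, h.zero]

variable (x : ℕ → K → G)

/-- The letters in a group of type `F₄`. -/
def lw (k : ℕ) (t : K) : List (ℕ × K) := (ld k).map fun c => (c.1, t ^ c.2.1 * σ t ^ c.2.2)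

/-- The letters in a group of type `F₄`. -/
def lx (k : ℕ) (t : K) : G := word x (lw k t)

theorem lw_eq_1' : type_of% @lw.eq_1 := @lw.eq_1
theorem lx_eq_1' : type_of% @lx.eq_1 := @lx.eq_1

theorem word_lx (s t : K) (w : List (ℕ × Mn)) : word (lx x) (evs s t w) = word x (evs s t (ex w)) := by
  induction w with
  | nil => rfl
  | cons p w ih =>
    rw [evs_cons, word_cons, ih, ex, ex, List.flatMap_cons, evs_append, word_append, lx]
    simp only [lw, evs, List.map_map, Function.comp_def, ev_lin, ev_sg]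

variable {x}

theorem rel_lx (h : StRel chevF4 x) : Rel (lx x) := by
  have e1 : ∀ s t : K, ev s t (1, 0, 0, 0) = s := fun s t => by simp [ev]
  have e2 : ∀ s t : K, ev s t (0, 0, 1, 0) = t := fun s t => by simp [ev]
  refine ⟨fun i hi => h.word_eq_one (List.forall_mem_map.2 fun c hc => (ld_ok i hi c hc).2.1)
    (List.forall_mem_map.2 fun c hc => ?_), fun j hj i hi s t => ?_, fun i hi s t => ?_⟩
  · rcases (ld_ok i hi c hc).2.2 with e | e | e <;> simp [e]
  · have := word_eq s t h (ck_rl j hj i hi)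
    rw [← word_lx, ← word_lx] at this
    simpa only [evs_cons, word_cons, e1, e2, show word (lx x) (evs s t []) = 1 from rfl, mul_one] using this
  · have := word_eq s t h (ck_ad i hi)
    rw [evs_append, word_append, ← word_lx, ← word_lx] at this
    simp only [evs_cons, word_cons, e1, e2, show word (lx x) (evs s t []) = 1 from rfl, mul_one] at this
    rw [this, lx, lw]
    congr 1
    have h1 := ld_ok i hi
    generalize ld i = L at h1
    induction L with
    | nil => rfl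
    | cons c L ih =>
      rw [List.flatMap_cons, evs_append, word_append, ih fun d hd => h1 d (List.mem_cons_of_mem _ hd),
        List.map_cons, word_cons]
      congr 1
      obtain ⟨-, h2, h3⟩ := h1 c List.mem_cons_self
      rcases h3 with e | e | e <;> simp [e, ad, evs, ev, h.add _ (lt_n h2)]
      congr 1
      grind

theorem lx_eq_one (h : StRel chevF4 x) (hx : PosInj chevF4 x) {c : K} (e : lx x 11 c = 1) : c = 0 := by
  simpa using hx.eq_zero h (w := lw 11 c) (by decide : [44, 47].Nodup) (List.forall_mem_map.1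
    (by decide +kernel : ∀ r ∈ [44, 47], chevF4.IsPosRoot r)) e (44, c ^ 1 * σ c ^ 0) List.mem_cons_self

theorem lx_inj [Finite K] (h : StRel chevF4 x) (hx : PosInj chevF4 x) : Function.Injective (rel_lx h).hom := by
  have := (UU.isPGroup K).isNilpotent
  refine (MonoidHom.ker_eq_bot_iff _).1 (by_contra fun h0 => Solv.PG.inf_center_ne_bot _ h0 ?_)
  refine eq_bot_iff.2 fun u ⟨h1, h2⟩ => ?_
  have h3 := eq_of_mem_Z (mem_Z_of_comm fun v _ => (mem_center_iff.1 h2 v).symm)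
  rw [h3] at h1 ⊢
  rw [lx_eq_one h hx (((rel_lx h).hom_lt (k := 11) (by decide) _).symm.trans h1)]
  exact one_mem _

end Cfsg.Lib.Oct.Md
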