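import Cfsg.Agent.Oct.ModB
import Cfsg.Agent.Chev.InvTwF4

/-!
# Reflections and torus of the octagon inside `F₄`
-/

set_option autoImplicit false
set_option linter.unusedSectionVars false
set_option maxRecDepth 100000

namespace Cfsg.Lib.Oct.Md

open Cfsg.Lie Cfsg.Lib.Chev Cfsg.Lib.Chev.Core UU Subgroup

variable (K : Type*) [Field K] [TwF K]

/-- The root elements. -/
noncomputable abbrev XG : ℕ → K → GL chevF4.Idx K := xGL chevF4 K

theorem md : Model rootF4 (XG K) := certF4.model K rootF4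

theorem sr : StRel chevF4 (XG K) := (md K).toStRel

/-- Products of reflections. -/
noncomputable def nw (ω : List (Fin 4)) : GL chevF4.Idx K := wprod (certF4.Y K rootF4).n ω

/-- The action on roots. -/
def rf (ω : List (Fin 4)) (r : ℕ) : ℕ := ω.foldr (fun (i : Fin 4) s => chevF4.reflectRoot i s) r

/-- The word of a product of reflections. -/
def nl (ω : List (Fin 4)) : List ℕ :=
  ω.flatMap fun i : Fin 4 => [chevF4.simple i, chevF4.neg (chevF4.simple i), chevF4.simple i]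

/-- The unipotent group. -/
noncomputable def ιG : UU K →* GL chevF4.Idx K := (rel_lx (sr K)).hom

/-- The torus in coordinates. -/
def tc : Kˣ × Kˣ →* (Fin 4 → Kˣ) where
  toFun t := ![t.1, t.2, σu t.2, σu t.1]
  map_one' := funext (forall_fin4 rfl rfl (map_one _) (map_one _))
  map_mul' _ _ := funext (forall_fin4 rfl rfl (map_mul _ _ _) (map_mul _ _ _))

/-- The torus. -/
noncomputable def ηG : Kˣ × Kˣ →* GL chevF4.Idx K := (torGL rootF4 K).comp (tc K)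

/-- The characters of the letters. -/
def mt (k : ℕ) : Mn := [(1, 0, 0, 0), (0, 0, 1, 0), (1, 0, 1, 0), (0, 0, 1, 1), (1, 0, 1, 1), (0, 1, 1, 1),
  (1, 0, 2, 1), (1, 1, 1, 1), (1, 1, 2, 1), (1, 1, 2, 2), (1, 1, 3, 2), (2, 1, 3, 2)].getD k 0

variable {K}

/-- A reflection on the torus. -/
def sT (i : Fin 4) (c : Fin 4 → Kˣ) : Fin 4 → Kˣ := fun j =>
  c j * (c i)⁻¹ ^ (![![2, -1, 0, 0], ![-1, 2, -2, 0], ![0, -1, 2, -1], ![0, 0, -1, 2]] : Fin 4 → Fin 4 → ℤ) i j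

theorem XG_eq_1' : type_of% @XG.eq_1 := @XG.eq_1
theorem nw_eq_1' : type_of% @nw.eq_1 := @nw.eq_1
theorem rf_eq_1' : type_of% @rf.eq_1 := @rf.eq_1
theorem nl_eq_1' : type_of% @nl.eq_1 := @nl.eq_1
theorem ιG_eq_1' : type_of% @ιG.eq_1 := @ιG.eq_1
theorem tc_eq_1' : type_of% @tc.eq_1 := @tc.eq_1
theorem ηG_eq_1' : type_of% @ηG.eq_1 := @ηG.eq_1
theorem mt_eq_1' : type_of% @mt.eq_1 := @mt.eq_1
theorem sT_eq_1' : type_of% @sT.eq_1 := @sT.eq_1

theorem nw_cons (i : Fin 4) (ω : List (Fin 4)) :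
    nw K (i :: ω) = nel chevF4 (XG K) (chevF4.simple i) 1 * nw K ω := rfl

theorem nw_nil : nw K [] = 1 := rfl

theorem nw_eq (ω : List (Fin 4)) : nw K ω = w1 K chevF4 (nl ω) := by
  induction ω with
  | nil => rfl
  | cons i ω ih =>
    rw [nw_cons, ih, nl, nl, List.flatMap_cons, w1_append, w1_cons, w1_cons, w1_cons, nel, inv_one,
      CharTwo.neg_eq, w1_nil, mul_one, mul_assoc (XG K _ _)]

theorem rf_lt (ω : List (Fin 4)) {r : ℕ} (hr : r < 48) : rf ω r < 48 := by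
  induction ω with
  | nil => exact hr
  | cons i ω ih => exact (by decide +kernel : ∀ i : Fin 4, ∀ r < 48, chevF4.reflectRoot i r < 48) i _ ih

theorem nw_x (ω : List (Fin 4)) {r : ℕ} (hr : r < 48) (t : K) :
    nw K ω * XG K r t * (nw K ω)⁻¹ = XG K (rf ω r) t := by
  obtain ⟨e, h1, -, h2⟩ := (md K).nconj
  induction ω with
  | nil => simp [nw_nil, rf]
  | cons i ω ih =>
    have := h2 i _ i.2 (rf_lt ω hr) 1 t one_ne_zero
    rw [← ih, one_zpow, mul_one] at this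
    rw [nw_cons, mul_inv_rev, ← mul_assoc, mul_assoc _ (nw K ω), mul_assoc _ (_ * _), this]
    rcases (h1 i _ i.2 (rf_lt ω hr)).1 with e | e <;> simp [e, CharTwo.neg_eq] <;> rfl

theorem nw_word (ω : List (Fin 4)) {w : List (ℕ × K)} (hw : ∀ p ∈ w, p.1 < 48) :
    nw K ω * word (XG K) w * (nw K ω)⁻¹ = word (XG K) (w.map fun p => (rf ω p.1, p.2)) := by
  induction w with
  | nil => simp
  | cons p w ih =>
    rw [List.map_cons, word_cons, word_cons, ← ih fun q hq => hw q (List.mem_cons_of_mem _ hq),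
      ← nw_x ω (hw p List.mem_cons_self), conj_mul]

theorem ιG_lt {k : ℕ} (hk : k < 12) (t : K) : ιG K (lt k t) = lx (XG K) k t := (rel_lx (sr K)).hom_lt hk t

theorem nw_lt {ω : List (Fin 4)} {j k : ℕ}
    (h : j < 12 ∧ k < 12 ∧ ((ld j).map fun c => (rf ω c.1, c.2)) = ld k) (t : K) :
    nw K ω * ιG K (lt j t) * (nw K ω)⁻¹ = ιG K (lt k t) := by
  rw [ιG_lt h.1, ιG_lt h.2.1, lx, lx, nw_word ω (w := lw j t)
    (List.forall_mem_map.2 fun c hc => (ld_ok j h.1 c hc).2.1), lw, lw, ← h.2.2, List.map_map, List.map_map]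
  rfl

theorem mt_ok : ∀ k < 12, ∀ c ∈ ld k, let m := lin c.2.1 (mt k) c.2.2 (sg (mt k))
    rootF4.rc c.1 (0 : Fin 4) = m.1 ∧ rootF4.rc c.1 (3 : Fin 4) = m.2.1 ∧
      rootF4.rc c.1 (1 : Fin 4) = m.2.2.1 ∧ rootF4.rc c.1 (2 : Fin 4) = m.2.2.2 := by decide +kernel

theorem ηG_lx (t : Kˣ × Kˣ) {k : ℕ} (hk : k < 12) (s : K) :
    ηG K t * lx (XG K) k s * (ηG K t)⁻¹ = lx (XG K) k (ev (t.1 : K) t.2 (mt k) * s) := by
  refine ((certF4.actsBy_torGL rootF4 (tc K t)).conj_word (w := lw k s)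
    (List.forall_mem_map.2 fun c hc => (ld_ok k hk c hc).2.1)).trans (congrArg _ ?_)
  rw [lw, lw, List.map_map]
  refine List.map_congr_left fun c hc => Prod.ext rfl ?_
  obtain ⟨h1, h2, h3, h4⟩ := mt_ok k hk c hc
  change ((∏ i : Fin 4, (![t.1, t.2, σu t.2, σu t.1] : Fin 4 → Kˣ) i ^ rootF4.rc c.1 i : Kˣ) : K) * _ = _
  rw [map_mul, mul_pow, mul_pow, mul_mul_mul_comm, ← ev_sg, ← ev_lin, ev]
  simp [Fin.prod_univ_four, h1, h2, h3, h4]
  left
  ring

theorem ηG_ι (t : Kˣ × Kˣ) (u : UU K) : ηG K t * ιG K u * (ηG K t)⁻¹ = ιG K (tor (t.1 : K) t.2 u) := by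
  change MulAut.conj (ηG K t) (op (lx (XG K)) u) = op (lx (XG K)) _
  simp only [op, map_mul]
  simp (disch := decide) only [MulAut.conj_apply, ηG_lx, ev, mt, List.getD_cons_succ, List.getD_cons_zero,
    pow_zero, pow_one, mul_one, one_mul, tor_a1, tor_b8, tor_b2, tor_a8, tor_b6, tor_b4, tor_a7, tor_a2, tor_a3,
    tor_a5, tor_a6, tor_a4]

theorem nel_tor (i : Fin 4) (c : Fin 4 → Kˣ) : nel chevF4 (XG K) (chevF4.simple i) 1 * torGL rootF4 K c *
    (nel chevF4 (XG K) (chevF4.simple i) 1)⁻¹ = torGL rootF4 K (sT i c) := by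
  have h := rootF4.simple_lt i i.2
  have e : chr (ι := Fin chevF4.rank) c (rootF4.rc (chevF4.simple i)) = c i :=
    (congrArg _ (rootF4.rc_simple i)).trans (chr_single (ι := Fin chevF4.rank) c i)
  rw [(sr K).nel_conj_of_actsBy rootF4 (certF4.actsBy_torGL rootF4 c) h, certF4.hel_eq_torGL rootF4 h, e]
  refine (map_mul (torGL rootF4 K) _ _).symm.trans (congrArg _ (funext fun j : Fin 4 => ?_))
  rw [sT, ← (by decide +kernel : ∀ i j : Fin 4, chevF4.pairing (chevF4.simple i)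
    (chevF4.simple j) = (![![2, -1, 0, 0], ![-1, 2, -2, 0], ![0, -1, 2, -1], ![0, 0, -1, 2]] :
      Fin 4 → Fin 4 → ℤ) i j) i j]
  rfl

theorem nw_tor (ω : List (Fin 4)) (c : Fin 4 → Kˣ) :
    nw K ω * torGL rootF4 K c * (nw K ω)⁻¹ = torGL rootF4 K (ω.foldr sT c) := by
  induction ω with
  | nil => exact mul_inv_eq_of_eq_mul ((one_mul _).trans (mul_one _).symm)
  | cons i ω ih =>
    rw [nw_cons, mul_inv_rev, ← mul_assoc, mul_assoc _ (nw K ω), mul_assoc _ (_ * _), ih]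
    exact nel_tor i _

theorem n1_η (t : Kˣ × Kˣ) : nw K [0, 3] * ηG K t * (nw K [0, 3])⁻¹ = ηG K (t.1⁻¹, t.1 * t.2) := by
  have := σ_ne_zero t.1
  have e : sT 0 (sT 3 (tc K t)) = tc K (t.1⁻¹, t.1 * t.2) := by
    refine funext (forall_fin4 ?_ ?_ ?_ ?_) <;> refine Units.ext ?_ <;> simp [sT, tc] <;> field_simp
  exact (nw_tor _ _).trans (congrArg _ e)

theorem n8_η (t : Kˣ × Kˣ) :
    nw K [1, 2, 1, 2] * ηG K t * (nw K [1, 2, 1, 2])⁻¹ = ηG K (t.1 * t.2 ^ 2 * σu t.2, t.2⁻¹) := by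
  have := σ_ne_zero t.2
  have e : sT 1 (sT 2 (sT 1 (sT 2 (tc K t)))) = tc K (t.1 * t.2 ^ 2 * σu t.2, t.2⁻¹) := by
    refine funext (forall_fin4 ?_ ?_ ?_ ?_) <;> refine Units.ext ?_ <;> simp [sT, tc] <;> field_simp
  exact (nw_tor _ _).trans (congrArg _ e)

end Cfsg.Lib.Oct.Md
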