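import Cfsg.Agent.Oct.Defs

/-!
# The field with two elements: subgroups of index two
-/

set_option autoImplicit false
set_option linter.unusedSectionVars false
set_option linter.unusedTactic false
set_option linter.unreachableTactic false
set_option linter.unnecessarySeqFocus false
set_option maxRecDepth 100000

namespace Cfsg.Lib.Oct

open Subgroup Function Cfsg.Lib.Trans Cfsg.Lib.Gold UU
open scoped commutatorElement

variable {K : Type*} [Field K] [TwF K] {ρ : RK K} {G G' : Type*} [Group G] [Group G']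

/-- `T` has index at most two in `A`. -/
def Ix2 (A T : Subgroup G) : Prop := ∀ a ∈ A, ∀ b ∈ A, a ∉ T → b ∉ T → a * b ∈ T

namespace Ix2

variable {A T : Subgroup G}

theorem sq (h : Ix2 A T) {a : G} (ha : a ∈ A) : a * a ∈ T := by
  by_cases h1 : a ∈ T
  · exact T.mul_mem h1 h1
  · exact h a ha a ha h1 h1

theorem conj (h : Ix2 A T) {a c : G} (ha : a ∈ A) (hc : c ∈ A) (h1 : a ∈ T) : c * a * c⁻¹ ∈ T := by
  by_cases h2 : c ∈ T
  · exact T.mul_mem (T.mul_mem h2 h1) (T.inv_mem h2)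
  · exact h _ (A.mul_mem hc ha) _ (A.inv_mem hc) (fun e => h2 ((T.mul_mem_cancel_right h1).1 e))
      (fun e => h2 (T.inv_mem_iff.1 e))

theorem comm (h : Ix2 A T) {a b : G} (ha : a ∈ A) (hb : b ∈ A) : ⁅a, b⁆ ∈ T := by
  by_cases h2 : b ∈ T
  · exact T.mul_mem (h.conj hb ha h2) (T.inv_mem h2)
  · refine h _ (A.mul_mem (A.mul_mem ha hb) (A.inv_mem ha)) _ (A.inv_mem hb) (fun e => h2 ?_)
      (fun e => h2 (T.inv_mem_iff.1 e))
    simpa [mul_assoc] using h.conj (A.mul_mem (A.mul_mem ha hb) (A.inv_mem ha)) (A.inv_mem ha) e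

theorem comap {G' : Type*} [Group G'] (h : Ix2 A T) (f : G' →* G) {B : Subgroup G'} (hB : ∀ b ∈ B, f b ∈ A) :
    Ix2 B (T.comap f) := fun a ha b hb h1 h2 => by
  rw [mem_comap, map_mul]
  exact h _ (hB a ha) _ (hB b hb) h1 h2

end Ix2

theorem two_cases (q : Nat.card K = 2) (t : K) : t = 0 ∨ t = 1 := by
  obtain ⟨y, -, hy⟩ := (Nat.card_eq_two_iff' (0 : K)).1 q
  by_cases h : t = 0
  · exact .inl h
  · exact .inr ((hy t h).trans (hy 1 one_ne_zero).symm)

theorem two_letter (q : Nat.card K = 2) {M : Subgroup (UU K)} (l : K → UU K) (h0 : l 0 = 1) (h1 : l 1 ∈ M) (t : K) :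
    l t ∈ M := by
  rcases two_cases q t with rfl | rfl
  · rw [h0]; exact M.one_mem
  · exact h1

theorem cm46 : ⁅y4 (1 : K), y6 (1 : K)⁆ = x5 1 := by
  rw [commutatorElement_def, mul_inv_eq_iff_eq_mul, mul_inv_eq_iff_eq_mul]; uu

theorem cm68 : ⁅y6 (1 : K), y8 (1 : K)⁆ = x7 1 := by
  rw [commutatorElement_def, mul_inv_eq_iff_eq_mul, mul_inv_eq_iff_eq_mul]; uu

theorem cm42 : ⁅y4 (1 : K), y2 (1 : K)⁆ = x3 1 := by
  rw [commutatorElement_def, mul_inv_eq_iff_eq_mul, mul_inv_eq_iff_eq_mul]; uu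

theorem cm28 : ∃ v : UU K, ⁅y2 (1 : K), y8 (1 : K)⁆ = v ∧ v.a1 = 0 ∧ v.b8 = 0 ∧ v.b2 = 0 ∧ v.a8 = 0 ∧ v.b6 = 1 ∧
    v.b4 = 1 := by
  refine ⟨_, rfl, ?_, ?_, ?_, ?_, ?_, ?_⟩ <;> simp [commutatorElement_def] <;> grind

theorem two_mem (q : Nat.card K = 2) {M : Subgroup (UU K)} (h : Ix2 (UU.R K) M) {u : UU K} (e1 : u.a1 = 0)
    (e8 : u.b8 = 0) (e2 : u.b2 = 0) (e : u.b6 = u.b4) : u ∈ M := by
  have h8 : x8 (1 : K) ∈ M := by simpa [y8_sq] using h.sq (a := y8 1) (by simp)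
  have h2 : x2 (1 : K) ∈ M := by simpa [y2_sq] using h.sq (a := y2 1) (by simp)
  have h6 : x6 (1 : K) ∈ M := by simpa [y6_sq] using h.sq (a := y6 1) (by simp)
  have h4 : x4 (1 : K) ∈ M := by simpa [y4_sq] using h.sq (a := y4 1) (by simp)
  have l8 := two_letter q x8 rfl h8
  have l2 := two_letter q x2 rfl h2
  have l6 := two_letter q x6 rfl h6
  have l4 := two_letter q x4 rfl h4
  have h5 : x5 (1 : K) ∈ M := by
    have := h.comm (a := y4 1) (b := y6 1) (by simp) (by simp)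
    rwa [cm46] at this
  have h7 : x7 (1 : K) ∈ M := by
    have := h.comm (a := y6 1) (b := y8 1) (by simp) (by simp)
    rwa [cm68] at this
  have h3 : x3 (1 : K) ∈ M := by
    have := h.comm (a := y4 1) (b := y2 1) (by simp) (by simp)
    rwa [cm42] at this
  have l5 := two_letter q x5 rfl h5
  have l7 := two_letter q x7 rfl h7
  have l3 := two_letter q x3 rfl h3
  have key : ∀ v : UU K, v.a1 = 0 → v.b8 = 0 → v.b2 = 0 → v.b6 = 0 → v.b4 = 0 → v ∈ M := fun v a b c d f => by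
    rw [nf v, a, b, c, d, f]
    simp only [x1_zero, y8_zero, y2_zero, y6_zero, y4_zero, mul_one, one_mul]
    exact M.mul_mem (M.mul_mem (M.mul_mem (M.mul_mem (M.mul_mem (M.mul_mem (l8 _) (l7 _)) (l2 _)) (l3 _)) (l5 _))
      (l6 _)) (l4 _)
  rcases two_cases q u.b4 with f | f
  · exact key u e1 e8 e2 (e.trans f) f
  · have := h.comm (a := y2 1) (b := y8 1) (by simp) (by simp)
    obtain ⟨v, hv, v1, v8, v2, w8, v6, v4⟩ := cm28 (K := K)
    rw [hv] at this
    rw [← M.mul_mem_cancel_left this]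
    rw [f] at e
    refine key _ ?_ ?_ ?_ ?_ ?_ <;> simp [e1, e8, e2, e, f, v1, v8, v2, w8, v6, v4] <;> grind

theorem two_invol (q : Nat.card K = 2) {u : UU K} (h : u * u = 1) : u.b8 = 0 ∧ u.b6 + u.b2 = u.b4 := by
  simp only [UU.ext_iff] at h
  obtain ⟨-, -, -, h8, g6, -, -, h2, -, h5, h6, h4⟩ := h
  have e8 : u.b8 = 0 := by
    rcases two_cases q u.b8 with f | f
    · exact f
    · uus [f] at h8; grind
  refine ⟨e8, ?_⟩
  have s : ∀ t : K, σ t = t := fun t => by rcases two_cases q t with rfl | rfl <;> simp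
  have s2 : ∀ t : K, t ^ 2 = t := fun t => by rcases two_cases q t with rfl | rfl <;> simp
  rcases two_cases q u.a1 with f | f
  · have e2 : u.b2 = 0 := by
      uus [f, e8, s] at h2
      rcases two_cases q u.b2 with g | g
      · exact g
      · grind
    uus [f, e8, e2, s] at h5 h6 h4
    rcases two_cases q u.b6 with a | a <;> rcases two_cases q u.b4 with b | b <;> grind
  · uus [f, e8, s] at g6 h2
    have := s2 u.b2
    grind

theorem two_V {u : UU K} (e1 : u.a1 = 0) (c8 : u * y8 1 = y8 1 * u) (c2 : u * x2 1 = x2 1 * u)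
    (c3 : u * x3 1 = x3 1 * u) (c5 : u * x5 1 = x5 1 * u) (h : u * u = 1) : u ∈ V K := by
  have e8 : u.b8 = 0 := by
    have := congrArg a6 c5
    uus [e1] at this; grind
  have e2 : u.b2 = 0 := by
    have := congrArg a4 c5
    uus [e1, e8] at this; grind
  have f8 : u.a8 = 0 := by
    have := congrArg a6 c3
    uus [e1, e8, e2] at this; grind
  have e6 : u.b6 = 0 := by
    have := congrArg a4 c3
    uus [e1, e8, e2, f8] at this; grind
  have e7 : u.a7 = 0 := by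
    have := congrArg a4 c2
    uus [e1, e8, e2, f8, e6] at this; grind
  have f2 : u.a2 = 0 := by
    have := congrArg a3 c8
    uus [e1, e8, e2, f8, e6, e7] at this; grind
  have f3 : u.a3 = 0 := by
    have := congrArg a5 c8
    uus [e1, e8, e2, f8, e6, e7, f2] at this; grind
  have f5 : u.a5 = 0 := by
    have := congrArg a6 c8
    uus [e1, e8, e2, f8, e6, e7, f2, f3] at this; grind
  have e4 : u.b4 = 0 := by
    have := congrArg a4 h
    uus [e1, e8, e2, f8, e6, e7, f2, f3, f5] at this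
    have h0 : σ u.b4 * u.b4 = 0 := by grind
    simpa using h0
  exact ⟨e1, e8, e2, f8, e6, e4, e7, f2, f3, f5⟩

theorem two_sqV {u : UU K} (e1 : u.a1 = 0) (h : u * u ∈ V K) : u.b8 = 0 ∧ u.b2 = 0 := by
  obtain ⟨-, -, -, h8, -, -, -, h2, -⟩ := h
  have e8 : u.b8 = 0 := by
    uus [e1] at h8
    have h0 : σ u.b8 * u.b8 = 0 := by grind
    simpa using h0
  refine ⟨e8, ?_⟩
  uus [e1, e8] at h2
  have h0 : σ u.b2 * u.b2 = 0 := by grind
  simpa using h0

namespace Lc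

variable {L : Lc ρ G}

theorem two_mem' (q : Nat.card K = 2) {T : Subgroup G} (h : Ix2 L.C T) {u : UU K} (e1 : u.a1 = 0)
    (e8 : u.b8 = 0) (e2 : u.b2 = 0) (e : u.b6 = u.b4) : L.ι u ∈ T :=
  two_mem q (h.comap L.ι fun b _ => L.ι_mem b) e1 e8 e2 e

theorem two_x1 (q : Nat.card K = 2) {T : Subgroup G} (h : Ix2 L.C T) (t : K) : L.ι (x1 t) ∈ T := by
  have := h.conj (L.ι_mem _) (inv_mem L.n_mem) (two_mem' q h (u := x7 t) rfl rfl rfl rfl)
  simpa [← L.nx1, mul_assoc] using this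

theorem two_invol' (q : Nat.card K = 2) {T : Subgroup G} (h : Ix2 L.C T) {u : UU K} (hu : u * u = 1) :
    L.ι u ∈ T := by
  obtain ⟨e8, e⟩ := two_invol q hu
  have h26 : L.ι (y6 u.b2 * (y2 u.b2)⁻¹) ∈ T := by
    have := h.comm L.n_mem (L.ι_mem (y2 u.b2))
    rwa [commutatorElement_def, L.ny2, ← map_inv, ← map_mul] at this
  rw [← T.mul_mem_cancel_left (two_x1 q h u.a1), ← T.mul_mem_cancel_left h26, ← map_mul, ← map_mul]
  refine two_mem' q h ?_ ?_ ?_ ?_ <;> simp [e8, ← e] <;> grind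

theorem two_Z (q : Nat.card K = 2) {z : G} (hz : z ∈ L.Z) : z = 1 ∨ z = L.ι (x4 1) := by
  obtain ⟨u, hu, rfl⟩ := hz
  rw [eq_of_mem_Z hu]
  rcases two_cases q u.a4 with e | e <;> simp [e]

theorem two_V6 (q : Nat.card K = 2) {z : G} (hz : z ∈ L.V6) : z = 1 ∨ z = L.ι (x6 1) := by
  obtain ⟨u, hu, rfl⟩ := hz
  rw [eq_of_mem_V6 hu]
  rcases two_cases q u.a6 with e | e <;> simp [e]

theorem two_C1 (q : Nat.card K = 2) {g : G} (h : g * L.ι (x4 1) = L.ι (x4 1) * g) : g ∈ Ns L.Z :=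
  centralizer_le_normalizer _ fun z hz => by
    rcases two_Z q hz with rfl | rfl
    · simp
    · exact h.symm

theorem two_swap [Finite G] (q : Nat.card K = 2) {x : G} (h : L.Swap x) :
    x ∈ Ns L.V ∧ x * L.ι (x4 1) * x⁻¹ = L.ι (x6 1) := by
  have z1 : L.ι (x4 1) ∈ L.Z := L.ι_mem_map.2 (by simp)
  have z6 : L.ι (x6 1) ∈ L.V6 := L.ι_mem_map.2 (by simp)
  have a1 : x * L.ι (x4 1) * x⁻¹ = L.ι (x6 1) := by
    refine (two_V6 q (h.1 ▸ conj_mem_cj.2 z1)).resolve_left ?_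
    simp [(map_eq_one_iff _ L.inj)]
  have a2 : x * L.ι (x6 1) * x⁻¹ = L.ι (x4 1) := by
    refine (two_Z q (h.2 ▸ conj_mem_cj.2 z6)).resolve_left ?_
    simp [(map_eq_one_iff _ L.inj)]
  refine ⟨mem_normalizer_of_cj_le (cj_le_iff.2 ?_), a1⟩
  rintro _ ⟨u, hu, rfl⟩
  rw [eq_of_mem_V hu, map_mul, ← conj_mul]
  refine mul_mem ?_ ?_
  · rcases two_cases q u.a6 with e | e <;> simp [-mem_map, e, a2]
  · rcases two_cases q u.a4 with e | e <;> simp [-mem_map, e, a1]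

theorem x1_mem_NV [Finite G] (t : K) : L.ι (x1 t) ∈ Ns L.V := by
  refine mem_normalizer_of_cj_le (cj_le_iff.2 ?_)
  rintro _ ⟨u, hu, rfl⟩
  rw [← map_inv, ← map_mul, ← map_mul, ι_mem_map, eq_of_mem_V hu,
    show x1 t * (x6 u.a6 * x4 u.a4) * (x1 t)⁻¹ = x6 u.a6 * x4 (u.a4 + t * u.a6) by uu]
  simp

theorem two_fuse [Finite G] (q : Nat.card K = 2) {x : G} (h : L.Swap x) {w : G} (hw : w ∈ L.V) (h1 : w ≠ 1) :
    ∃ k ∈ Ns L.V, k * L.ι (x4 1) * k⁻¹ = w := by
  obtain ⟨hx, e⟩ := two_swap q h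
  obtain ⟨u, hu, rfl⟩ := hw
  rw [eq_of_mem_V hu] at h1 ⊢
  rcases two_cases q u.a6 with a | a <;> rcases two_cases q u.a4 with b | b <;> rw [a, b] at h1 ⊢
  · simp at h1
  · exact ⟨1, one_mem _, by simp⟩
  · exact ⟨x, hx, by simp [e]⟩
  · refine ⟨L.ι (x1 1) * x, mul_mem (x1_mem_NV 1) hx, ?_⟩
    rw [show L.ι (x1 1) * x * L.ι (x4 1) * (L.ι (x1 1) * x)⁻¹ =
      L.ι (x1 1) * (x * L.ι (x4 1) * x⁻¹) * (L.ι (x1 1))⁻¹ by group, e, ← map_inv, ← map_mul, ← map_mul]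
    exact congrArg _ (by uu)

end Lc

variable [Finite K] [Finite G] [Finite G']

theorem Oc.y4_not_mem (O : Oc ρ G) (q : Nat.card K = 2) (hG : O.GG = ⊤) {T : Subgroup G} (hT : T.index = 2) :
    O.ι (y4 1) ∉ T := by
  intro h4
  have hn := normal_of_index_eq_two hT
  have hI : Ix2 O.C T := fun a _ b _ ha hb => (mul_mem_iff_of_index_two hT).2 (by simp [ha, hb])
  have cj : ∀ {g a b : G}, g * a * g⁻¹ = b → b ∈ T → a ∈ T := fun {g a b} e hb => by
    rw [← e] at hb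
    simpa [mul_assoc] using hn.conj_mem _ hb g⁻¹
  have h6 := cj (O.my6 1) h4
  have h2 := cj (O.ny2 1) h6
  have h8 := cj (O.my8 1) h2
  have l4 := two_letter q (M := T.comap O.ι) y4 rfl h4
  have l6 := two_letter q (M := T.comap O.ι) y6 rfl h6
  have l2 := two_letter q (M := T.comap O.ι) y2 rfl h2
  have l8 := two_letter q (M := T.comap O.ι) y8 rfl h8
  have l0 : ∀ u : UU K, u * u = 1 → u ∈ T.comap O.ι := fun u hu => Lc.two_invol' q hI hu
  have hS : ∀ u, O.ι u ∈ T := fun u => by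
    rw [← mem_comap, nf u]
    repeat first | exact l4 _ | exact l6 _ | exact l2 _ | exact l8 _ | refine mul_mem ?_ ?_ | exact l0 _ (by simp)
  have hh : ∀ β, O.h β ∈ T := fun β => by
    rw [show β = 1 from Units.ext ((two_cases q (β : K)).resolve_left β.ne_zero), map_one]
    exact T.one_mem
  have hN : O.n ∈ T := by
    obtain ⟨-, -, e⟩ := O.rk (x8 1) (by simp) (by simp)
    have := hn.conj_mem _ (hS (x8 1)) O.n
    rwa [e, T.mul_mem_cancel_right (hS _), T.mul_mem_cancel_left (T.mul_mem (hS _) (hh _))] at this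
  have hC : O.C ≤ T := O.C_le hS hh hN
  have : T = ⊤ := top_le_iff.1 (hG ▸ sup_le hC (cj_le_iff.2 fun t ht => hn.conj_mem _ (hC ht) _))
  simp [this] at hT

end Cfsg.Lib.Oct
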