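import Cfsg.Agent.Oct.Defs

/-!
# Groups with the local structure of ²F₄(q): the action of the second reflection on the letters
-/

set_option autoImplicit false
set_option linter.unusedSectionVars false
set_option maxRecDepth 100000

namespace Cfsg.Lib.Oct.C3

open Subgroup Function Cfsg.Lib.Trans Cfsg.Lib.Gold UU

variable {K : Type*} [Field K] [TwF K] {ρ : RK K} {G : Type*} [Group G]

theorem z0 {w c : K} (h : w * c = c) (hw : w ≠ 1) : c = 0 := by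
  by_contra hc
  exact hw (mul_right_cancel₀ hc (h.trans (one_mul c).symm))

theorem σ1 {w : K} (h : σ w = 1) : w = 1 := (σ : K →+* K).injective (h.trans (map_one _).symm)

theorem N11 {w : K} (h : w ^ 3 * σ w ^ 2 = 1) : w = 1 :=
  eq_one_of_N1 (eq_one_of_N1 (by simp only [map_mul, σσ]; linear_combination h))

theorem N12 {w : K} (h : w ^ 2 * σ w ^ 2 = 1) : w = 1 := eq_one_of_N1 (by grind)

theorem fix1 {b : K} (hb : b ≠ 1) {u : UU K} (h : tor 1 b u = u) : u ∈ U1 K := by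
  simp only [UU.ext_iff, tor_a1, tor_b8, tor_b2, tor_a8, tor_b6, tor_b4, tor_a7, tor_a2, tor_a3,
    tor_a5, tor_a6, tor_a4, map_one, one_mul, one_pow] at h
  obtain ⟨-, h2, h3, h4, h5, h6, h7, h8, h9, h10, h11, h12⟩ := h
  have n1 : b * σ b ≠ 1 := fun e => hb (eq_one_of_N1 e)
  have n2 : b ^ 2 * σ b ≠ 1 := fun e => hb (eq_one_of_N2 e)
  have n3 : b ^ 3 * σ b ^ 2 ≠ 1 := fun e => hb (N11 e)
  exact ⟨z0 h2 hb, z0 h3 hb, z0 h4 n1, z0 h5 n1, z0 h6 n1, z0 h7 n2, z0 h8 n1, z0 h9 n2,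
    z0 h10 fun e => hb (N12 e), z0 h11 n3, z0 h12 n3⟩

theorem fix8 {a : K} (ha : a ≠ 1) {u : UU K} (h : tor a 1 u = u) : u ∈ U8 K := by
  simp only [UU.ext_iff, tor_a1, tor_b8, tor_b2, tor_a8, tor_b6, tor_b4, tor_a7, tor_a2, tor_a3,
    tor_a5, tor_a6, tor_a4, map_one, mul_one, one_pow] at h
  obtain ⟨h1, -, h3, -, h5, h6, h7, h8, h9, h10, h11, h12⟩ := h
  have n1 : a * σ a ≠ 1 := fun e => ha (eq_one_of_N1 e)
  exact ⟨z0 h1 ha, z0 h3 ha, z0 h5 ha, z0 h6 fun e => ha (σ1 e), z0 h7 ha, z0 h8 n1, z0 h9 n1,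
    z0 h10 n1, z0 h11 n1, z0 h12 fun e => ha (eq_one_of_N2 e)⟩

theorem fix2 {a b : K} (hab : a * b = 1) (hb : b ≠ 1) {u : UU K} (h : tor a b u = u) :
    u ∈ U2 K := by
  simp only [UU.ext_iff, tor_a1, tor_b8, tor_b2, tor_a8, tor_b6, tor_b4, tor_a7, tor_a2, tor_a3,
    tor_a5, tor_a6, tor_a4] at h
  obtain ⟨h1, h2, -, h4, h5, h6, h7, -, h9, h10, h11, h12⟩ := h
  have hs : σ a * σ b = 1 := by rw [← map_mul, hab, map_one]
  exact ⟨z0 h1 fun e => hb (by grind), z0 h2 hb, z0 h4 fun e => hb (eq_one_of_N1 e),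
    z0 h5 fun e => hb (σ1 (by grind)), z0 h6 fun e => hb (by grind),
    z0 h7 fun e => hb (eq_one_of_N1 (by grind)), z0 h9 fun e => hb (by grind),
    z0 h10 fun e => hb (eq_one_of_N1 (by grind)), z0 h11 fun e => hb (eq_one_of_N2 (by grind)),
    z0 h12 fun e => hb (eq_one_of_N1 (by grind))⟩

theorem fix6 {a b : K} (hab : a * b * σ b = 1) (hb : b ≠ 1) {u : UU K} (h : tor a b u = u) :
    u ∈ U6 K := by
  simp only [UU.ext_iff, tor_a1, tor_b8, tor_b2, tor_a8, tor_b6, tor_b4, tor_a7, tor_a2, tor_a3,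
    tor_a5, tor_a6, tor_a4] at h
  obtain ⟨h1, h2, h3, h4, -, h6, h7, h8, h9, h10, -, h12⟩ := h
  have hs : σ a * σ b * b ^ 2 = 1 := by rw [← σσ, ← map_mul, ← map_mul, hab, map_one]
  exact ⟨z0 h1 fun e => hb (eq_one_of_N1 (by grind)), z0 h2 hb, z0 h3 fun e => hb (σ1 (by grind)),
    z0 h4 fun e => hb (eq_one_of_N1 e), z0 h6 fun e => hb (by grind), z0 h7 fun e => hb (by grind),
    z0 h8 fun e => hb (eq_one_of_N2 (by grind)), z0 h9 fun e => hb (eq_one_of_N1 (by grind)),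
    z0 h10 fun e => hb (by grind), z0 h12 fun e => hb (eq_one_of_N1 (by grind))⟩

theorem fix4 {a b : K} (hab : σ a * b * σ b = 1) (hb : a ≠ 1) {u : UU K} (h : tor a b u = u) :
    u ∈ U4 K := by
  simp only [UU.ext_iff, tor_a1, tor_b8, tor_b2, tor_a8, tor_b6, tor_b4, tor_a7, tor_a2, tor_a3,
    tor_a5, tor_a6, tor_a4] at h
  obtain ⟨h1, h2, h3, h4, h5, -, h7, h8, h9, h10, h11, -⟩ := h
  have hs : a ^ 2 * σ b * b ^ 2 = 1 := by
    rw [← σσ, ← σσ, ← map_mul, ← map_mul, hab, map_one]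
  have nb : b ≠ 1 := fun e => hb (σ1 (by rw [e, map_one, mul_one, mul_one] at hab; exact hab))
  have n2 : a * b ≠ 1 := fun e => nb (by
    have : σ a * σ b = 1 := by rw [← map_mul, e, map_one]
    grind)
  have n6 : a * b * σ b ≠ 1 := fun e => nb (σ1 (by grind))
  exact ⟨z0 h1 hb, z0 h2 nb, z0 h3 n2, z0 h4 fun e => nb (eq_one_of_N1 e), z0 h5 n6,
    z0 h7 fun e => hb (by grind), z0 h8 fun e => hb (by grind), z0 h9 fun e => n2 (by grind),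
    z0 h10 fun e => n6 (by grind), z0 h11 fun e => hb (by grind)⟩

/-- `m` conjugates `u` to `v`. -/
def Ac (L : Lt ρ G) (m : G) (u v : UU K) : Prop := m * L.ι u * m⁻¹ = L.ι v

namespace Ac

variable {L : Lt ρ G} {m : G} {u v u' v' : UU K}

theorem mul (h : Ac L m u v) (h' : Ac L m u' v') : Ac L m (u * u') (v * v') := by
  unfold Ac at *
  rw [map_mul, map_mul, ← h, ← h']; group

theorem inv (h : Ac L m u v) : Ac L m u⁻¹ v⁻¹ := by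
  unfold Ac at *
  rw [map_inv, map_inv, ← h]; group

theorem uniq (h : Ac L m u v) (h' : Ac L m u v') : v = v' := L.inj (h.symm.trans h')

theorem symm (h : Ac L m u v) (mm : m * m = 1) : Ac L m v u := by
  unfold Ac at *
  rw [← h]
  calc _ = (m * m) * L.ι u * (m * m)⁻¹ := by group
    _ = _ := by rw [mm]; group

theorem torus (h : Ac L m u v) {t t' : Kˣ × Kˣ} (e : m * L.η t * m⁻¹ = L.η t') :
    Ac L m (tor (t.1 : K) (t.2 : K) u) (tor (t'.1 : K) (t'.2 : K) v) := by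
  unfold Ac at *
  rw [← L.ηι, ← L.ηι, ← h, ← e]; group

theorem braid (mm : m * m = 1) {s : K}
    (E : m * L.ι (x1 1) * m⁻¹ = L.ι (x1 s) * m * (L.ι (x1 s))⁻¹)
    (h : Ac L m u v) (hc : x1 s * u = u * x1 s) :
    Ac L m (x1 1 * v * (x1 1)⁻¹) (x1 s * v * (x1 s)⁻¹) := by
  have h' := h.symm mm
  have hc' : (L.ι (x1 s))⁻¹ * L.ι u * L.ι (x1 s) = L.ι u := by
    rw [mul_assoc, ← map_mul, ← hc, map_mul]; group
  unfold Ac at *
  simp only [map_mul, map_inv]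
  calc _ = (m * L.ι (x1 1) * m⁻¹) * (m * L.ι v * m⁻¹) * (m * L.ι (x1 1) * m⁻¹)⁻¹ := by group
    _ = L.ι (x1 s) * (m * ((L.ι (x1 s))⁻¹ * L.ι u * L.ι (x1 s)) * m⁻¹) * (L.ι (x1 s))⁻¹ := by
      rw [E, h']; group
    _ = _ := by rw [hc', h]

theorem congr (h : Ac L m u v) (e : u = u') (e' : v = v') : Ac L m u' v' := e ▸ e' ▸ h

end Ac

theorem chi {a b c d : K} (ha : a ≠ 0) (hb : b ≠ 0)
    (h1 : a * σ a * b ^ 3 * σ b ^ 2 = c ^ 2 * σ c * d ^ 3 * σ d ^ 2)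
    (h2 : a ^ 2 * σ a * b ^ 3 * σ b ^ 2 = c * σ c * d ^ 3 * σ d ^ 2) : c = a⁻¹ ∧ d = a * b := by
  have sa := (map_ne_zero (σ : K →+* K)).2 ha
  have sb := (map_ne_zero (σ : K →+* K)).2 hb
  have e1 : a * c = 1 := by
    have : (a * σ a * b ^ 3 * σ b ^ 2) * (a * c) = (a * σ a * b ^ 3 * σ b ^ 2) * 1 := by
      linear_combination c * h2 - h1
    exact mul_left_cancel₀ (by simp [ha, hb]) this
  have e2 : σ a * σ c = 1 := by rw [← map_mul, e1, map_one]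
  refine ⟨eq_inv_of_mul_eq_one_right e1, ?_⟩
  have : d / (a * b) = 1 := N11 (by
    rw [map_div₀, map_mul]
    field_simp
    linear_combination (-(a * σ a)) * h2 - d ^ 3 * σ d ^ 2 * (σ a * σ c) * e1 -
      d ^ 3 * σ d ^ 2 * e2)
  exact (div_eq_one_iff_eq (mul_ne_zero ha hb)).1 this

variable [Finite K]

theorem exists_unit (q : 2 < Nat.card K) : ∃ a : Kˣ, (a : K) ≠ 1 := by
  have : Nontrivial Kˣ := Finite.one_lt_card_iff_nontrivial.1 (by rw [Nat.card_units]; omega)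
  obtain ⟨a, ha⟩ := exists_ne (1 : Kˣ)
  exact ⟨a, fun e => ha (Units.ext e)⟩

theorem act_V {L : Lt ρ G} {m : G} (mm : m * m = 1) (hsw : L.Swap m) {s : K}
    (E : m * L.ι (x1 1) * m⁻¹ = L.ι (x1 s) * m * (L.ι (x1 s))⁻¹) :
    s = 1 ∧ ∀ u, Ac L m (x4 u) (x6 u) := by
  have h46 : ∀ u, ∃ p, Ac L m (x4 u) (x6 p) := fun u => by
    have : m * L.ι (x4 u) * m⁻¹ ∈ L.V6 := hsw.1 ▸ conj_mem_cj.2 (L.ι_mem_map.2 (by simp))
    obtain ⟨v, hv, e⟩ := this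
    exact ⟨v.a6, by rw [Ac, ← e, ← eq_of_mem_V6 hv]⟩
  have h4 : ∀ u, Ac L m (x4 u) (x6 u) ∧ u = s * u := fun u => by
    obtain ⟨p, hp⟩ := h46 u
    obtain ⟨p', hp'⟩ := h46 p
    have e := (((hp.symm mm).mul hp').congr (u' := x1 1 * x6 p * (x1 1)⁻¹) (by uu) rfl).uniq
      (hp.braid mm E (x4_comm _ _).symm)
    simp only [UU.ext_iff] at e
    uus at e
    obtain rfl : p' = p := by grind
    obtain rfl : u = p' := x4_inj.1 ((hp.symm mm).uniq (hp'.symm mm))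
    exact ⟨hp, by grind⟩
  exact ⟨by simpa using (h4 1).2.symm, fun u => (h4 u).1⟩

theorem act_η {L : Lt ρ G} {m : G} (mm : m * m = 1) (hH : m ∈ Ns L.η.range)
    (mx4 : ∀ u, Ac L m (x4 u) (x6 u)) (t : Kˣ × Kˣ) :
    m * L.η t * m⁻¹ = L.η (t.1⁻¹, t.1 * t.2) := by
  have mx6 : ∀ u, Ac L m (x6 u) (x4 u) := fun u => (mx4 u).symm mm
  obtain ⟨t', e⟩ := mem_normalizer_conj hH (⟨t, rfl⟩ : L.η t ∈ L.η.range)
  have e1 := (mx6 1).torus e.symm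
  have e2 := (mx4 1).torus e.symm
  rw [tor_x6, tor_x4, mul_one, mul_one] at e1
  rw [tor_x6, tor_x4, mul_one, mul_one] at e2
  obtain ⟨e3, e4⟩ := chi t.1.ne_zero t.2.ne_zero (x4_inj.1 ((mx6 _).uniq e1))
    (x6_inj.1 ((mx4 _).uniq e2))
  rw [← e]
  congr 1
  exact Prod.ext (Units.ext (by simpa using e3)) (Units.ext e4)

theorem act_y8 {L : Lt ρ G} {m : G} (mm : m * m = 1)
    (E : m * L.ι (x1 1) * m⁻¹ = L.ι (x1 1) * m * (L.ι (x1 1))⁻¹)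
    (mx4 : ∀ u, Ac L m (x4 u) (x6 u)) (h82 : ∀ t, ∃ v ∈ U2 K, Ac L m (y8 t) v)
    (h28 : ∀ t, ∃ v ∈ U8 K, Ac L m (y2 t) v) (h64 : ∀ t, ∃ v ∈ U4 K, Ac L m (y6 t) v)
    (h46 : ∀ t, ∃ v ∈ U6 K, Ac L m (y4 t) v) (t : K) : Ac L m (y8 t) (y2 t) := by
  let Y : UU K → Prop := fun u => ∃ v, Ac L m u v ∧ v.a1 = 0 ∧ v.b2 = 0 ∧ v.a2 = 0
  have Ym : ∀ {u u'}, Y u → Y u' → Y (u * u') := fun ⟨v, h, h1, h2, h3⟩ ⟨v', h', h1', h2', h3'⟩ =>
    ⟨_, h.mul h', by simp [h1, h2, h3, h1', h2', h3']⟩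
  have Yi : ∀ {u}, Y u → Y u⁻¹ := fun ⟨v, h, h1, h2, h3⟩ => ⟨_, h.inv, by simp [h1, h2, h3]⟩
  have Y2 : ∀ c, Y (y2 c) := fun c => by
    obtain ⟨v, hv, h⟩ := h28 c
    exact ⟨v, h, hv.1, hv.2.1, hv.2.2.2.2.2.1⟩
  have Y6 : ∀ c, Y (y6 c) := fun c => by
    obtain ⟨v, hv, h⟩ := h64 c
    exact ⟨v, h, hv.1, hv.2.2.1, hv.2.2.2.2.2.2.1⟩
  have Y4 : ∀ c, Y (y4 c) := fun c => by
    obtain ⟨v, hv, h⟩ := h46 c
    exact ⟨v, h, hv.1, hv.2.2.1, hv.2.2.2.2.2.2.1⟩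
  have Y7 : ∀ c, Y (x7 c) := fun c => by
    obtain ⟨v, hv, h⟩ := h64 c
    obtain ⟨v', hv', h'⟩ := h82 1
    refine ⟨_, ((h'.mul h).inv.mul (h.mul h')).congr (by uu) rfl, ?_⟩
    rw [eq_of_mem_U4 hv, eq_of_mem_U2 hv']
    refine ⟨?_, ?_, ?_⟩ <;> uus <;> grind
  have Y3 : ∀ c, Y (x3 c) := fun c => by
    have := Ym (Yi (Ym (Y2 1) (Y4 c))) (Ym (Y4 c) (Y2 1))
    rwa [show (y2 1 * y4 c)⁻¹ * (y4 c * y2 1) = x3 c by uu] at this
  have Y5 : ∀ c, Y (x5 c) := fun c => by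
    have := Ym (Yi (Ym (Y6 1) (Y4 c))) (Ym (Y4 c) (Y6 1))
    rwa [show (y6 1 * y4 c)⁻¹ * (y4 c * y6 1) = x5 c by uu] at this
  have YV : ∀ c d, Y (x6 c * x4 d) := fun c d => ⟨_, ((mx4 c).symm mm).mul (mx4 d), by simp⟩
  obtain ⟨v, hv, h⟩ := h82 t
  rw [eq_of_mem_U2 hv] at h
  have hw := (h.symm mm).braid mm E (by uu)
  obtain ⟨w, hwd⟩ : ∃ w, w = x1 1 * y8 t * (x1 1)⁻¹ := ⟨_, rfl⟩
  have w1 : w.a1 = 0 ∧ w.b8 = t ∧ w.b2 = t ∧ w.a8 = 0 ∧ w.a2 = 0 := by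
    rw [hwd]
    refine ⟨?_, ?_, ?_, ?_, ?_⟩ <;> uus <;> grind
  rw [← hwd] at hw
  have e : y8 t * (y2 t * y6 w.b6 * y4 w.b4 * x7 w.a7 * x3 w.a3 * x5 w.a5 *
      (x6 w.a6 * x4 w.a4)) = w := by
    conv_rhs => rw [nf w, w1.1, w1.2.1, w1.2.2.1, w1.2.2.2.1, w1.2.2.2.2]
    simp only [x1_zero, x8_zero, x2_zero, one_mul, mul_one, mul_assoc]
  obtain ⟨r, hr, r1, r2, r3⟩ :=
    Ym (Ym (Ym (Ym (Ym (Ym (Y2 t) (Y6 w.b6)) (Y4 w.b4)) (Y7 w.a7)) (Y3 w.a3)) (Y5 w.a5))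
      (YV w.a6 w.a4)
  have e' := hw.uniq ((h.mul hr).congr e rfl)
  have e1 := congrArg UU.b2 e'
  have e2 := congrArg UU.a2 e'
  rw [w1.2.2.1] at e1
  rw [w1.2.2.2.2] at e2
  uus [r1, r2, r3] at e1 e2
  refine h.congr rfl ?_
  rw [← e1, ← e2, x2_zero, mul_one]

theorem act_y6 {L : Lt ρ G} {m : G} (mm : m * m = 1) (mx4 : ∀ u, Ac L m (x4 u) (x6 u))
    (my8 : ∀ t, Ac L m (y8 t) (y2 t)) (h64 : ∀ t, ∃ v ∈ U4 K, Ac L m (y6 t) v)
    (h46 : ∀ t, ∃ v ∈ U6 K, Ac L m (y4 t) v) (t : K) : Ac L m (y6 t) (y4 t) := by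
  have my2 : ∀ t, Ac L m (y2 t) (y8 t) := fun t => (my8 t).symm mm
  obtain ⟨v, hv, h⟩ := h64 t
  obtain ⟨v', hv', h'⟩ := h46 (σ t)
  rw [eq_of_mem_U4 hv] at h
  rw [eq_of_mem_U6 hv'] at h'
  have e := ((my2 t).mul (my8 1)).uniq
    ((((((my8 1).mul (my2 t)).mul h).mul h').mul (mx4 (t ^ 2 * σ t))).congr (by uu) rfl)
  have e1 := congrArg UU.b4 e
  have e2 := congrArg UU.a4 e
  uus at e1 e2
  refine h.congr rfl ?_
  rw [show v.a4 = 0 by grind, show v.b4 = t by grind, x4_zero, mul_one]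

theorem final (L : Lt ρ G) (q : 2 < Nat.card K) {m : G} (mm : m * m = 1) (hsw : L.Swap m)
    (hR : m ∈ Ns L.R) (hH : m ∈ Ns L.η.range) {s : K}
    (E : m * L.ι (x1 1) * m⁻¹ = L.ι (x1 s) * m * (L.ι (x1 s))⁻¹) :
    ∃ O : Oa ρ G, O.toLt = L := by
  obtain ⟨rfl, mx4⟩ := act_V mm hsw E
  have mη := act_η mm hH mx4
  obtain ⟨a, ha⟩ := exists_unit q
  have a0 := a.ne_zero
  have hfix : ∀ (u : UU K) (t : Kˣ × Kˣ), u.a1 = 0 → tor (t.1 : K) (t.2 : K) u = u →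
      ∃ v, Ac L m u v ∧ tor ((t.1⁻¹ : Kˣ) : K) ((t.1 * t.2 : Kˣ) : K) v = v := fun u t hu ht => by
    obtain ⟨v, -, e⟩ := mem_normalizer_conj hR (L.ι_mem_map.2 (mem_R.2 hu))
    have h : Ac L m u v := e.symm
    exact ⟨v, h, ((h.torus (mη t)).congr ht rfl).uniq h⟩
  have h82 : ∀ t, ∃ v ∈ U2 K, Ac L m (y8 t) v := fun t => by
    obtain ⟨v, h, e⟩ := hfix (y8 t) (a, 1) rfl (by simp [tor_y8])
    exact ⟨v, fix2 (by simp) (by simpa using ha) e, h⟩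
  have h28 : ∀ t, ∃ v ∈ U8 K, Ac L m (y2 t) v := fun t => by
    obtain ⟨v, h, e⟩ := hfix (y2 t) (a⁻¹, a) rfl (by simp [tor_y2])
    exact ⟨v, fix8 ha (by simpa using e), h⟩
  have sa := (map_ne_zero (σ : K →+* K)).2 a0
  have h64 : ∀ t, ∃ v ∈ U4 K, Ac L m (y6 t) v := fun t => by
    obtain ⟨v, h, e⟩ := hfix (y6 t) ((a * σu a)⁻¹, a) rfl (by
      rw [tor_y6]; congr 1; simp)
    refine ⟨v, fix4 ?_ (fun e => ha (eq_one_of_N1 (by simpa using e))) e, h⟩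
    simp
    field_simp
  have h46 : ∀ t, ∃ v ∈ U6 K, Ac L m (y4 t) v := fun t => by
    obtain ⟨v, h, e⟩ := hfix (y4 t) (a * σu a, (σu a)⁻¹) rfl (by
      rw [tor_y4]; congr 1; simp; field_simp)
    exact ⟨v, fix6 (by simp) (by simpa using ha) e, h⟩
  have my8 := act_y8 mm E mx4 h82 h28 h64 h46
  have my6 := act_y6 mm mx4 my8 h64 h46
  have my4 : ∀ t, Ac L m (y4 t) (y6 t) := fun t => (my6 t).symm mm
  refine ⟨⟨L, m, mm, my8, fun t => ?_, my6, fun t => (mx4 t).symm mm, fun t => ?_, fun t => ?_,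
    mη, ?_⟩, rfl⟩
  · obtain ⟨c, rfl⟩ := exists_N1 t
    exact ((my8 c).mul (my8 c)).congr (by uu) (by uu)
  · exact (((my8 1).mul (my6 t)).inv.mul ((my6 t).mul (my8 1))).congr (by uu) (by uu)
  · exact (((my6 t).mul (my4 1)).inv.mul ((my4 1).mul (my6 t))).congr (by uu) (by uu)
  · have aa : L.ι (x1 1) * L.ι (x1 1) = 1 := by rw [← map_mul, x1_sq, map_one]
    rw [inv_eq_of_mul_eq_one_right aa, inv_eq_of_mul_eq_one_right mm] at E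
    calc _ = (m * L.ι (x1 1) * m) * (L.ι (x1 1) * m * L.ι (x1 1)) := by
          simp only [pow_succ, pow_zero, one_mul, mul_assoc]
      _ = L.ι (x1 1) * (m * (L.ι (x1 1) * L.ι (x1 1)) * m) * L.ι (x1 1) := by
          rw [E]; simp only [mul_assoc]
      _ = 1 := by rw [aa, mul_one, mm, mul_one, aa]

end Cfsg.Lib.Oct.C3
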