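import Cfsg.Agent.Oct.U0
import Mathlib.Algebra.Group.MinimalAxioms
import Mathlib.FieldTheory.Finite.Basic
import Mathlib.GroupTheory.PGroup
import Mathlib.GroupTheory.Commutator.Basic

/-!
# The unipotent group of the Moufang octagon: letters, torus, subgroups
-/

set_option autoImplicit false
set_option linter.unusedSectionVars false
set_option linter.unnecessarySeqFocus false
set_option linter.unusedTactic false
set_option linter.unreachableTactic false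
set_option maxRecDepth 100000

namespace Cfsg.Lib.Oct

variable {K : Type*} [Field K] [TwF K]

namespace UU

set_option linter.unusedSimpArgs false in
theorem assoc_a4 (u v w : UU K) : (u * v * w).a4 = (u * (v * w)).a4 := by
  simp only [mul_a1, mul_b8, mul_b2, mul_a8, mul_b6, mul_b4, mul_a7, mul_a2, mul_a3, mul_a5, mul_a6, mul_a4,
    map_add, map_mul, map_pow, σσ]
  grind (ringSteps := 100000000)

instance : Group (UU K) := Group.ofLeftAxioms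
  (fun u v w => UU.ext (assoc_a1 u v w) (assoc_b8 u v w) (assoc_b2 u v w) (assoc_a8 u v w) (assoc_b6 u v w)
    (assoc_b4 u v w) (assoc_a7 u v w) (assoc_a2 u v w) (assoc_a3 u v w) (assoc_a5 u v w) (assoc_a6 u v w)
    (assoc_a4 u v w))
  (fun u => by ext <;> simp) fun u => by ext <;> simp <;> grind

/-- A letter. -/
@[simps] def x1 (t : K) : UU K := ⟨t, 0, 0, 0, 0, 0, 0, 0, 0, 0, 0, 0⟩
/-- A letter. -/
@[simps] def y8 (t : K) : UU K := ⟨0, t, 0, 0, 0, 0, 0, 0, 0, 0, 0, 0⟩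
/-- A letter. -/
@[simps] def y2 (t : K) : UU K := ⟨0, 0, t, 0, 0, 0, 0, 0, 0, 0, 0, 0⟩
/-- A letter. -/
@[simps] def x8 (t : K) : UU K := ⟨0, 0, 0, t, 0, 0, 0, 0, 0, 0, 0, 0⟩
/-- A letter. -/
@[simps] def y6 (t : K) : UU K := ⟨0, 0, 0, 0, t, 0, 0, 0, 0, 0, 0, 0⟩
/-- A letter. -/
@[simps] def y4 (t : K) : UU K := ⟨0, 0, 0, 0, 0, t, 0, 0, 0, 0, 0, 0⟩
/-- A letter. -/
@[simps] def x7 (t : K) : UU K := ⟨0, 0, 0, 0, 0, 0, t, 0, 0, 0, 0, 0⟩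
/-- A letter. -/
@[simps] def x2 (t : K) : UU K := ⟨0, 0, 0, 0, 0, 0, 0, t, 0, 0, 0, 0⟩
/-- A letter. -/
@[simps] def x3 (t : K) : UU K := ⟨0, 0, 0, 0, 0, 0, 0, 0, t, 0, 0, 0⟩
/-- A letter. -/
@[simps] def x5 (t : K) : UU K := ⟨0, 0, 0, 0, 0, 0, 0, 0, 0, t, 0, 0⟩
/-- A letter. -/
@[simps] def x6 (t : K) : UU K := ⟨0, 0, 0, 0, 0, 0, 0, 0, 0, 0, t, 0⟩
/-- A letter. -/
@[simps] def x4 (t : K) : UU K := ⟨0, 0, 0, 0, 0, 0, 0, 0, 0, 0, 0, t⟩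

section
set_option linter.unusedSimpArgs false
variable (u : UU K) (t : K)

theorem mul_x1 : u * x1 t =
    ⟨t + u.a1,
     u.b8,
     u.b2 + t * u.b8,
     u.a8,
     u.b6 + t * u.a8 + t * u.b8 * σ u.b8,
     u.b4 + σ t * u.a8,
     u.a7 + t * σ u.a8 + t * u.b8 ^ 2 * σ u.b8,
     u.a2 + σ t * u.b6 + t * u.b4 + σ t * u.b2 * σ u.b8 + t * σ t * u.a8,
     u.a3 + σ t * u.a7 + t * σ u.b6 + t * σ t * σ u.a8 + t * σ t * u.b8 ^ 2 * σ u.b8,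
     u.a5 + t * σ u.a7 + σ t * u.a8 * u.b6 + σ t * u.a8 * u.b2 * σ u.b8 + t * σ t * u.a8 ^ 2 +
       t * σ u.b2 * u.b8 ^ 2 * σ u.b8,
     u.a6 + σ t * σ u.a8 * u.b6 + t * σ u.a8 * u.b4 + σ t * σ u.a8 * u.b2 * σ u.b8 +
       t * σ t * u.a8 * σ u.a8 + σ t * u.b6 * u.b8 ^ 2 * σ u.b8 + t * u.b4 * u.b8 ^ 2 * σ u.b8 +
       σ t * u.b2 * u.b8 ^ 2 * σ u.b8 ^ 2 + t * σ t * u.a8 * u.b8 ^ 2 * σ u.b8,
     u.a4 + t * u.a6 + σ t * u.a7 * u.b6 + t * u.a7 * u.b4 + σ t * u.a7 * u.b2 * σ u.b8 +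
       t * σ t * u.a7 * u.a8 + t * σ t * σ u.a8 * u.b6 + t ^ 2 * σ u.a8 * u.b4 +
       t * σ t * σ u.a8 * u.b2 * σ u.b8 + t ^ 2 * σ t * u.a8 * σ u.a8 +
       t * σ t * u.b6 * u.b8 ^ 2 * σ u.b8 + t ^ 2 * u.a8 * σ u.b2 * u.b8 ^ 2 +
       t * σ t * u.b2 * u.b8 ^ 2 * σ u.b8 ^ 2 + t ^ 2 * σ t * u.a8 * u.b8 ^ 2 * σ u.b8⟩ := by
  ext <;> simp only [mul_a1, mul_b8, mul_b2, mul_a8, mul_b6, mul_b4, mul_a7, mul_a2, mul_a3, mul_a5, mul_a6, mul_a4,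
    x1_a1, x1_b8, x1_b2, x1_a8, x1_b6, x1_b4, x1_a7, x1_a2, x1_a3, x1_a5, x1_a6, x1_a4,
    mul_zero, zero_mul, add_zero, zero_add, map_zero, map_add, map_mul, map_pow, σσ, map_one, mul_one, one_mul,
    ne_eq, OfNat.ofNat_ne_zero, not_false_eq_true, zero_pow, one_pow] <;> grind

theorem mul_y8 : u * y8 t =
    ⟨u.a1,
     t + u.b8,
     u.b2,
     u.a8 + t * σ u.b8,
     u.b6 + σ t * u.b2,
     u.b4 + t * σ u.b2,
     u.a7 + t * u.b6 + t * u.b2 * σ u.b8,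
     u.a2,
     u.a3 + t * u.a2,
     u.a5 + σ t * u.a3 + t * σ u.b2 * u.b6 + t * σ t * u.a2 + t * u.b2 * σ u.b2 * σ u.b8,
     u.a6 + t * u.a5 + t * u.b4 * u.b6 + t * u.b2 * u.b4 * σ u.b8 + t ^ 2 * σ u.b2 * u.b6 +
       t ^ 2 * σ t * u.a2 + t ^ 2 * u.b2 * σ u.b2 * σ u.b8,
     u.a4 + t * σ u.a3 + σ t * u.b2 ^ 2 * u.b4 + t * u.b2 ^ 2 * σ u.b2 * σ u.b8 +
       t * σ t * u.b2 ^ 2 * σ u.b2⟩ := by
  ext <;> simp only [mul_a1, mul_b8, mul_b2, mul_a8, mul_b6, mul_b4, mul_a7, mul_a2, mul_a3, mul_a5, mul_a6, mul_a4,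
    y8_a1, y8_b8, y8_b2, y8_a8, y8_b6, y8_b4, y8_a7, y8_a2, y8_a3, y8_a5, y8_a6, y8_a4,
    mul_zero, zero_mul, add_zero, zero_add, map_zero, map_add, map_mul, map_pow, σσ, map_one, mul_one, one_mul,
    ne_eq, OfNat.ofNat_ne_zero, not_false_eq_true, zero_pow, one_pow] <;> grind

theorem mul_y2 : u * y2 t =
    ⟨u.a1,
     u.b8,
     t + u.b2,
     u.a8,
     u.b6,
     u.b4,
     u.a7 + t * u.a8,
     u.a2 + t * σ u.b2,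
     u.a3 + t * u.b4,
     u.a5 + σ t * u.a7 + t * u.a8 * σ u.b2 + t * σ t * u.a8,
     u.a6 + t * σ u.a7 + t * σ u.a8 * σ u.b2 + t * u.a8 * u.b4,
     u.a4 + t * u.a5 + t * u.a7 * σ u.b2 + σ t * u.a8 * u.b2 ^ 2 + t ^ 2 * u.a8 * σ u.b2 +
       t ^ 2 * σ t * u.a8⟩ := by
  ext <;> simp only [mul_a1, mul_b8, mul_b2, mul_a8, mul_b6, mul_b4, mul_a7, mul_a2, mul_a3, mul_a5, mul_a6, mul_a4,
    y2_a1, y2_b8, y2_b2, y2_a8, y2_b6, y2_b4, y2_a7, y2_a2, y2_a3, y2_a5, y2_a6, y2_a4,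
    mul_zero, zero_mul, add_zero, zero_add, map_zero, map_add, map_mul, map_pow, σσ, map_one, mul_one, one_mul,
    ne_eq, OfNat.ofNat_ne_zero, not_false_eq_true, zero_pow, one_pow] <;> grind

theorem mul_x8 : u * x8 t =
    ⟨u.a1,
     u.b8,
     u.b2,
     t + u.a8,
     u.b6,
     u.b4,
     u.a7,
     u.a2,
     u.a3,
     u.a5 + t * u.a2,
     u.a6 + σ t * u.a2 + t * u.a3,
     u.a4 + t * σ u.a2⟩ := by
  ext <;> simp only [mul_a1, mul_b8, mul_b2, mul_a8, mul_b6, mul_b4, mul_a7, mul_a2, mul_a3, mul_a5, mul_a6, mul_a4,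
    x8_a1, x8_b8, x8_b2, x8_a8, x8_b6, x8_b4, x8_a7, x8_a2, x8_a3, x8_a5, x8_a6, x8_a4,
    mul_zero, zero_mul, add_zero, zero_add, map_zero, map_add, map_mul, map_pow, σσ, map_one, mul_one, one_mul,
    ne_eq, OfNat.ofNat_ne_zero, not_false_eq_true, zero_pow, one_pow] <;> grind

theorem mul_y6 : u * y6 t =
    ⟨u.a1,
     u.b8,
     u.b2,
     u.a8,
     t + u.b6,
     u.b4,
     u.a7,
     u.a2,
     u.a3,
     u.a5 + t * u.b4,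
     u.a6 + t * σ u.b6,
     u.a4 + t * u.a3⟩ := by
  ext <;> simp only [mul_a1, mul_b8, mul_b2, mul_a8, mul_b6, mul_b4, mul_a7, mul_a2, mul_a3, mul_a5, mul_a6, mul_a4,
    y6_a1, y6_b8, y6_b2, y6_a8, y6_b6, y6_b4, y6_a7, y6_a2, y6_a3, y6_a5, y6_a6, y6_a4,
    mul_zero, zero_mul, add_zero, zero_add, map_zero, map_add, map_mul, map_pow, σσ, map_one, mul_one, one_mul,
    ne_eq, OfNat.ofNat_ne_zero, not_false_eq_true, zero_pow, one_pow] <;> grind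

theorem mul_y4 : u * y4 t =
    ⟨u.a1,
     u.b8,
     u.b2,
     u.a8,
     u.b6,
     t + u.b4,
     u.a7,
     u.a2,
     u.a3,
     u.a5,
     u.a6 + t * u.a7,
     u.a4 + t * σ u.b4⟩ := by
  ext <;> simp only [mul_a1, mul_b8, mul_b2, mul_a8, mul_b6, mul_b4, mul_a7, mul_a2, mul_a3, mul_a5, mul_a6, mul_a4,
    y4_a1, y4_b8, y4_b2, y4_a8, y4_b6, y4_b4, y4_a7, y4_a2, y4_a3, y4_a5, y4_a6, y4_a4,
    mul_zero, zero_mul, add_zero, zero_add, map_zero, map_add, map_mul, map_pow, σσ, map_one, mul_one, one_mul,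
    ne_eq, OfNat.ofNat_ne_zero, not_false_eq_true, zero_pow, one_pow] <;> grind

theorem mul_x7 : u * x7 t =
    ⟨u.a1,
     u.b8,
     u.b2,
     u.a8,
     u.b6,
     u.b4,
     t + u.a7,
     u.a2,
     u.a3,
     u.a5,
     u.a6,
     u.a4 + t * u.a2⟩ := by
  ext <;> simp only [mul_a1, mul_b8, mul_b2, mul_a8, mul_b6, mul_b4, mul_a7, mul_a2, mul_a3, mul_a5, mul_a6, mul_a4,
    x7_a1, x7_b8, x7_b2, x7_a8, x7_b6, x7_b4, x7_a7, x7_a2, x7_a3, x7_a5, x7_a6, x7_a4,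
    mul_zero, zero_mul, add_zero, zero_add, map_zero, map_add, map_mul, map_pow, σσ, map_one, mul_one, one_mul,
    ne_eq, OfNat.ofNat_ne_zero, not_false_eq_true, zero_pow, one_pow] <;> grind

theorem mul_x2 : u * x2 t =
    ⟨u.a1,
     u.b8,
     u.b2,
     u.a8,
     u.b6,
     u.b4,
     u.a7,
     t + u.a2,
     u.a3,
     u.a5,
     u.a6,
     u.a4⟩ := by
  ext <;> simp only [mul_a1, mul_b8, mul_b2, mul_a8, mul_b6, mul_b4, mul_a7, mul_a2, mul_a3, mul_a5, mul_a6, mul_a4,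
    x2_a1, x2_b8, x2_b2, x2_a8, x2_b6, x2_b4, x2_a7, x2_a2, x2_a3, x2_a5, x2_a6, x2_a4,
    mul_zero, zero_mul, add_zero, zero_add, map_zero, map_add, map_mul, map_pow, σσ, map_one, mul_one, one_mul,
    ne_eq, OfNat.ofNat_ne_zero, not_false_eq_true, zero_pow, one_pow] <;> grind

theorem mul_x3 : u * x3 t =
    ⟨u.a1,
     u.b8,
     u.b2,
     u.a8,
     u.b6,
     u.b4,
     u.a7,
     u.a2,
     t + u.a3,
     u.a5,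
     u.a6,
     u.a4⟩ := by
  ext <;> simp only [mul_a1, mul_b8, mul_b2, mul_a8, mul_b6, mul_b4, mul_a7, mul_a2, mul_a3, mul_a5, mul_a6, mul_a4,
    x3_a1, x3_b8, x3_b2, x3_a8, x3_b6, x3_b4, x3_a7, x3_a2, x3_a3, x3_a5, x3_a6, x3_a4,
    mul_zero, zero_mul, add_zero, zero_add, map_zero, map_add, map_mul, map_pow, σσ, map_one, mul_one, one_mul,
    ne_eq, OfNat.ofNat_ne_zero, not_false_eq_true, zero_pow, one_pow] <;> grind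

theorem mul_x5 : u * x5 t =
    ⟨u.a1,
     u.b8,
     u.b2,
     u.a8,
     u.b6,
     u.b4,
     u.a7,
     u.a2,
     u.a3,
     t + u.a5,
     u.a6,
     u.a4⟩ := by
  ext <;> simp only [mul_a1, mul_b8, mul_b2, mul_a8, mul_b6, mul_b4, mul_a7, mul_a2, mul_a3, mul_a5, mul_a6, mul_a4,
    x5_a1, x5_b8, x5_b2, x5_a8, x5_b6, x5_b4, x5_a7, x5_a2, x5_a3, x5_a5, x5_a6, x5_a4,
    mul_zero, zero_mul, add_zero, zero_add, map_zero, map_add, map_mul, map_pow, σσ, map_one, mul_one, one_mul,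
    ne_eq, OfNat.ofNat_ne_zero, not_false_eq_true, zero_pow, one_pow] <;> grind

theorem mul_x6 : u * x6 t =
    ⟨u.a1,
     u.b8,
     u.b2,
     u.a8,
     u.b6,
     u.b4,
     u.a7,
     u.a2,
     u.a3,
     u.a5,
     t + u.a6,
     u.a4⟩ := by
  ext <;> simp only [mul_a1, mul_b8, mul_b2, mul_a8, mul_b6, mul_b4, mul_a7, mul_a2, mul_a3, mul_a5, mul_a6, mul_a4,
    x6_a1, x6_b8, x6_b2, x6_a8, x6_b6, x6_b4, x6_a7, x6_a2, x6_a3, x6_a5, x6_a6, x6_a4,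
    mul_zero, zero_mul, add_zero, zero_add, map_zero, map_add, map_mul, map_pow, σσ, map_one, mul_one, one_mul,
    ne_eq, OfNat.ofNat_ne_zero, not_false_eq_true, zero_pow, one_pow] <;> grind

theorem mul_x4 : u * x4 t =
    ⟨u.a1,
     u.b8,
     u.b2,
     u.a8,
     u.b6,
     u.b4,
     u.a7,
     u.a2,
     u.a3,
     u.a5,
     u.a6,
     t + u.a4⟩ := by
  ext <;> simp only [mul_a1, mul_b8, mul_b2, mul_a8, mul_b6, mul_b4, mul_a7, mul_a2, mul_a3, mul_a5, mul_a6, mul_a4,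
    x4_a1, x4_b8, x4_b2, x4_a8, x4_b6, x4_b4, x4_a7, x4_a2, x4_a3, x4_a5, x4_a6, x4_a4,
    mul_zero, zero_mul, add_zero, zero_add, map_zero, map_add, map_mul, map_pow, σσ, map_one, mul_one, one_mul,
    ne_eq, OfNat.ofNat_ne_zero, not_false_eq_true, zero_pow, one_pow] <;> grind

theorem x1_mul : x1 t * u =
    ⟨t + u.a1,
     u.b8,
     u.b2,
     u.a8,
     u.b6,
     u.b4,
     u.a7,
     u.a2,
     u.a3,
     u.a5,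
     u.a6,
     u.a4⟩ := by
  ext <;> simp only [mul_a1, mul_b8, mul_b2, mul_a8, mul_b6, mul_b4, mul_a7, mul_a2, mul_a3, mul_a5, mul_a6, mul_a4,
    x1_a1, x1_b8, x1_b2, x1_a8, x1_b6, x1_b4, x1_a7, x1_a2, x1_a3, x1_a5, x1_a6, x1_a4,
    mul_zero, zero_mul, add_zero, zero_add, map_zero, map_add, map_mul, map_pow, σσ, map_one, mul_one, one_mul,
    ne_eq, OfNat.ofNat_ne_zero, not_false_eq_true, zero_pow, one_pow] <;> grind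

theorem y8_mul : y8 t * u =
    ⟨u.a1,
     t + u.b8,
     u.b2 + t * u.a1,
     u.a8 + σ t * u.b8,
     u.b6 + t * u.a1 * σ u.b8 + t * σ t * u.a1,
     u.b4 + σ t * σ u.a1 * u.b8,
     u.a7 + σ t * u.b2 * u.b8 + t ^ 2 * σ t * u.a1,
     u.a2 + σ t * σ u.a1 * u.b2,
     u.a3 + σ t * σ u.a1 * u.b2 * u.b8 + t ^ 2 * σ t * u.a1 * σ u.a1,
     u.a5 + σ t * σ u.a1 * u.a8 * u.b2 + σ t * σ u.a1 * u.b6 * u.b8 +
       σ t * u.b2 * σ u.b2 * u.b8 + σ t ^ 2 * σ u.a1 * u.b2 * u.b8 + t ^ 2 * σ t * u.a1 * σ u.b2 +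
       t ^ 2 * σ t * u.a1 * σ u.a1 * σ u.b8,
     u.a6 + σ t * σ u.a1 * σ u.a8 * u.b2 + σ t * u.b2 * u.b4 * u.b8 +
       σ t * σ u.a1 * u.a8 * u.b2 * u.b8 + σ t * σ u.a1 * u.b6 * u.b8 ^ 2 +
       t ^ 2 * σ t * σ u.a1 * u.b6 + t ^ 2 * σ t * u.a1 * u.b4 +
       σ t ^ 2 * σ u.a1 * u.b2 * u.b8 ^ 2 + t ^ 2 * σ t * σ u.a1 * u.b2 * σ u.b8 +
       t ^ 2 * σ t * u.a1 * σ u.a1 * u.a8 + t ^ 2 * σ t ^ 2 * σ u.a1 * u.b2,
     u.a4 + σ t * σ u.a1 * u.a7 * u.b2 + σ t * σ u.a1 * u.b2 * u.b6 * u.b8 +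
       σ t * u.b2 ^ 2 * σ u.b2 * u.b8 + σ t ^ 2 * σ u.a1 * u.b2 ^ 2 * u.b8 +
       t ^ 2 * u.a1 ^ 2 * u.a8 * σ u.b2 + t ^ 2 * u.a1 ^ 2 * u.b4 * σ u.b8 +
       t ^ 2 * σ t * u.a1 * σ u.a1 * u.b6 + t ^ 2 * σ t * u.a1 * σ u.a1 * u.b2 * σ u.b8 +
       t ^ 2 * σ t * u.a1 ^ 2 * σ u.b2 * u.b8 + t ^ 2 * σ t ^ 2 * u.a1 * σ u.a1 * u.b2 +
       t ^ 2 * σ t * u.a1 ^ 2 * σ u.a1 * u.b8 * σ u.b8⟩ := by
  ext <;> simp only [mul_a1, mul_b8, mul_b2, mul_a8, mul_b6, mul_b4, mul_a7, mul_a2, mul_a3, mul_a5, mul_a6, mul_a4,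
    y8_a1, y8_b8, y8_b2, y8_a8, y8_b6, y8_b4, y8_a7, y8_a2, y8_a3, y8_a5, y8_a6, y8_a4,
    mul_zero, zero_mul, add_zero, zero_add, map_zero, map_add, map_mul, map_pow, σσ, map_one, mul_one, one_mul,
    ne_eq, OfNat.ofNat_ne_zero, not_false_eq_true, zero_pow, one_pow] <;> grind

theorem y2_mul : y2 t * u =
    ⟨u.a1,
     u.b8,
     t + u.b2,
     u.a8,
     u.b6 + t * σ u.b8,
     u.b4 + σ t * u.b8,
     u.a7,
     u.a2 + σ t * u.b2,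
     u.a3 + σ t * u.b2 * u.b8,
     u.a5 + σ t * u.a8 * u.b2 + σ t * u.b6 * u.b8,
     u.a6 + σ t * σ u.a8 * u.b2 + σ t * u.a8 * u.b2 * u.b8 + σ t * u.b6 * u.b8 ^ 2,
     u.a4 + σ t * u.a7 * u.b2 + σ t * u.b2 * u.b6 * u.b8 + t ^ 2 * u.a8 * σ u.b2 +
       t ^ 2 * u.b4 * σ u.b8 + t ^ 2 * σ t * u.b8 * σ u.b8⟩ := by
  ext <;> simp only [mul_a1, mul_b8, mul_b2, mul_a8, mul_b6, mul_b4, mul_a7, mul_a2, mul_a3, mul_a5, mul_a6, mul_a4,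
    y2_a1, y2_b8, y2_b2, y2_a8, y2_b6, y2_b4, y2_a7, y2_a2, y2_a3, y2_a5, y2_a6, y2_a4,
    mul_zero, zero_mul, add_zero, zero_add, map_zero, map_add, map_mul, map_pow, σσ, map_one, mul_one, one_mul,
    ne_eq, OfNat.ofNat_ne_zero, not_false_eq_true, zero_pow, one_pow] <;> grind

theorem x8_mul : x8 t * u =
    ⟨u.a1,
     u.b8,
     u.b2,
     t + u.a8,
     u.b6 + t * u.a1,
     u.b4 + t * σ u.a1,
     u.a7 + σ t * u.a1 + t * u.b2 + t * u.a1 * u.b8,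
     u.a2 + t * u.a1 * σ u.a1,
     u.a3 + σ t * u.a1 * σ u.a1 + t * σ u.a1 * u.b2 + t * u.a1 * σ u.a1 * u.b8,
     u.a5 + σ t * u.a1 * σ u.b2 + t * σ u.a1 * u.b6 + t * u.b2 * σ u.b2 +
       σ t * u.a1 * σ u.a1 * σ u.b8 + t * u.a1 * σ u.b2 * u.b8 + t * u.a1 * σ u.a1 * u.a8 +
       t ^ 2 * u.a1 * σ u.a1 + t * u.a1 * σ u.a1 * u.b8 * σ u.b8,
     u.a6 + σ t * σ u.a1 * u.b6 + σ t * u.a1 * u.b4 + t * u.b2 * u.b4 +
       σ t * σ u.a1 * u.b2 * σ u.b8 + σ t * u.a1 * σ u.a1 * u.a8 + t * σ u.a1 * u.a8 * u.b2 +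
       t * u.a1 * u.b4 * u.b8 + t * u.a1 * σ u.a1 * σ u.a8 + t * σ t * u.a1 * σ u.a1 +
       t * u.a1 * σ u.a1 * u.a8 * u.b8 + t * u.a1 * σ u.a1 * u.b8 ^ 2 * σ u.b8,
     u.a4 + σ t * u.a1 * σ u.a1 * u.b6 + σ t * u.a1 ^ 2 * u.b4 + t * σ u.a1 * u.b2 * u.b6 +
       t * u.a1 * σ u.a1 * u.a7 + t * u.b2 ^ 2 * σ u.b2 + σ t * u.a1 * σ u.a1 * u.b2 * σ u.b8 +
       σ t * u.a1 ^ 2 * σ u.a1 * u.a8 + t * u.a1 * σ u.a1 * u.b6 * u.b8 +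
       t * σ t * u.a1 ^ 2 * σ u.a1 + t ^ 2 * u.a1 * σ u.a1 * u.b2 +
       t * u.a1 * σ u.a1 * u.b2 * u.b8 * σ u.b8 + t ^ 2 * u.a1 ^ 2 * σ u.a1 * u.b8⟩ := by
  ext <;> simp only [mul_a1, mul_b8, mul_b2, mul_a8, mul_b6, mul_b4, mul_a7, mul_a2, mul_a3, mul_a5, mul_a6, mul_a4,
    x8_a1, x8_b8, x8_b2, x8_a8, x8_b6, x8_b4, x8_a7, x8_a2, x8_a3, x8_a5, x8_a6, x8_a4,
    mul_zero, zero_mul, add_zero, zero_add, map_zero, map_add, map_mul, map_pow, σσ, map_one, mul_one, one_mul,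
    ne_eq, OfNat.ofNat_ne_zero, not_false_eq_true, zero_pow, one_pow] <;> grind

theorem y6_mul : y6 t * u =
    ⟨u.a1,
     u.b8,
     u.b2,
     u.a8,
     t + u.b6,
     u.b4,
     u.a7 + t * u.b8,
     u.a2 + t * σ u.a1,
     u.a3 + σ t * u.a1 + t * σ u.a1 * u.b8,
     u.a5 + σ t * u.a1 * σ u.b8 + t * σ u.a1 * u.a8 + t * σ u.b2 * u.b8 +
       t * σ u.a1 * u.b8 * σ u.b8,
     u.a6 + σ t * u.b6 + σ t * u.a1 * u.a8 + σ t * u.b2 * σ u.b8 + t * σ u.a1 * σ u.a8 +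
       t * u.b4 * u.b8 + t * σ u.a1 * u.a8 * u.b8 + t * σ u.a1 * u.b8 ^ 2 * σ u.b8,
     u.a4 + σ t * u.a1 * u.b6 + t * σ u.a1 * u.a7 + σ t * u.a1 * u.b2 * σ u.b8 +
       σ t * u.a1 ^ 2 * u.a8 + t * σ u.a1 * u.b6 * u.b8 + t ^ 2 * σ u.a1 * u.b8 +
       t * σ u.a1 * u.b2 * u.b8 * σ u.b8⟩ := by
  ext <;> simp only [mul_a1, mul_b8, mul_b2, mul_a8, mul_b6, mul_b4, mul_a7, mul_a2, mul_a3, mul_a5, mul_a6, mul_a4,
    y6_a1, y6_b8, y6_b2, y6_a8, y6_b6, y6_b4, y6_a7, y6_a2, y6_a3, y6_a5, y6_a6, y6_a4,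
    mul_zero, zero_mul, add_zero, zero_add, map_zero, map_add, map_mul, map_pow, σσ, map_one, mul_one, one_mul,
    ne_eq, OfNat.ofNat_ne_zero, not_false_eq_true, zero_pow, one_pow] <;> grind

theorem y4_mul : y4 t * u =
    ⟨u.a1,
     u.b8,
     u.b2,
     u.a8,
     u.b6,
     t + u.b4,
     u.a7,
     u.a2 + t * u.a1,
     u.a3 + t * u.b2 + t * u.a1 * u.b8,
     u.a5 + t * u.b6 + t * u.a1 * u.a8 + t * u.a1 * u.b8 * σ u.b8,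
     u.a6 + t * u.a1 * σ u.a8 + t * u.a8 * u.b2 + t * u.a1 * u.a8 * u.b8 +
       t * u.a1 * u.b8 ^ 2 * σ u.b8,
     u.a4 + σ t * u.b4 + σ t * σ u.a1 * u.a8 + t * u.a1 * u.a7 + t * u.b2 * u.b6 +
       t * u.a1 * u.b6 * u.b8 + t * u.a1 * u.b2 * u.b8 * σ u.b8⟩ := by
  ext <;> simp only [mul_a1, mul_b8, mul_b2, mul_a8, mul_b6, mul_b4, mul_a7, mul_a2, mul_a3, mul_a5, mul_a6, mul_a4,
    y4_a1, y4_b8, y4_b2, y4_a8, y4_b6, y4_b4, y4_a7, y4_a2, y4_a3, y4_a5, y4_a6, y4_a4,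
    mul_zero, zero_mul, add_zero, zero_add, map_zero, map_add, map_mul, map_pow, σσ, map_one, mul_one, one_mul,
    ne_eq, OfNat.ofNat_ne_zero, not_false_eq_true, zero_pow, one_pow] <;> grind

theorem x7_mul : x7 t * u =
    ⟨u.a1,
     u.b8,
     u.b2,
     u.a8,
     u.b6,
     u.b4,
     t + u.a7,
     u.a2,
     u.a3 + t * σ u.a1,
     u.a5 + σ t * u.a1 + t * σ u.b2 + t * σ u.a1 * σ u.b8,
     u.a6 + σ t * u.b2 + t * u.b4 + σ t * u.a1 * u.b8 + t * σ u.a1 * u.a8,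
     u.a4 + σ t * u.a1 * u.b2 + t * σ u.a1 * u.b6 + σ t * u.a1 ^ 2 * u.b8 +
       t * σ u.a1 * u.b2 * σ u.b8⟩ := by
  ext <;> simp only [mul_a1, mul_b8, mul_b2, mul_a8, mul_b6, mul_b4, mul_a7, mul_a2, mul_a3, mul_a5, mul_a6, mul_a4,
    x7_a1, x7_b8, x7_b2, x7_a8, x7_b6, x7_b4, x7_a7, x7_a2, x7_a3, x7_a5, x7_a6, x7_a4,
    mul_zero, zero_mul, add_zero, zero_add, map_zero, map_add, map_mul, map_pow, σσ, map_one, mul_one, one_mul,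
    ne_eq, OfNat.ofNat_ne_zero, not_false_eq_true, zero_pow, one_pow] <;> grind

theorem x2_mul : x2 t * u =
    ⟨u.a1,
     u.b8,
     u.b2,
     u.a8,
     u.b6,
     u.b4,
     u.a7,
     t + u.a2,
     u.a3 + t * u.b8,
     u.a5 + t * u.a8 + t * u.b8 * σ u.b8,
     u.a6 + t * σ u.a8 + t * u.a8 * u.b8 + t * u.b8 ^ 2 * σ u.b8,
     u.a4 + σ t * u.a8 + t * u.a7 + t * u.b6 * u.b8 + t * u.b2 * u.b8 * σ u.b8⟩ := by
  ext <;> simp only [mul_a1, mul_b8, mul_b2, mul_a8, mul_b6, mul_b4, mul_a7, mul_a2, mul_a3, mul_a5, mul_a6, mul_a4,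
    x2_a1, x2_b8, x2_b2, x2_a8, x2_b6, x2_b4, x2_a7, x2_a2, x2_a3, x2_a5, x2_a6, x2_a4,
    mul_zero, zero_mul, add_zero, zero_add, map_zero, map_add, map_mul, map_pow, σσ, map_one, mul_one, one_mul,
    ne_eq, OfNat.ofNat_ne_zero, not_false_eq_true, zero_pow, one_pow] <;> grind

theorem x3_mul : x3 t * u =
    ⟨u.a1,
     u.b8,
     u.b2,
     u.a8,
     u.b6,
     u.b4,
     u.a7,
     u.a2,
     t + u.a3,
     u.a5 + t * σ u.b8,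
     u.a6 + t * u.a8,
     u.a4 + σ t * u.b8 + t * u.b6 + t * u.b2 * σ u.b8⟩ := by
  ext <;> simp only [mul_a1, mul_b8, mul_b2, mul_a8, mul_b6, mul_b4, mul_a7, mul_a2, mul_a3, mul_a5, mul_a6, mul_a4,
    x3_a1, x3_b8, x3_b2, x3_a8, x3_b6, x3_b4, x3_a7, x3_a2, x3_a3, x3_a5, x3_a6, x3_a4,
    mul_zero, zero_mul, add_zero, zero_add, map_zero, map_add, map_mul, map_pow, σσ, map_one, mul_one, one_mul,
    ne_eq, OfNat.ofNat_ne_zero, not_false_eq_true, zero_pow, one_pow] <;> grind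

theorem x5_mul : x5 t * u =
    ⟨u.a1,
     u.b8,
     u.b2,
     u.a8,
     u.b6,
     u.b4,
     u.a7,
     u.a2,
     u.a3,
     t + u.a5,
     u.a6 + t * u.b8,
     u.a4 + t * u.b2⟩ := by
  ext <;> simp only [mul_a1, mul_b8, mul_b2, mul_a8, mul_b6, mul_b4, mul_a7, mul_a2, mul_a3, mul_a5, mul_a6, mul_a4,
    x5_a1, x5_b8, x5_b2, x5_a8, x5_b6, x5_b4, x5_a7, x5_a2, x5_a3, x5_a5, x5_a6, x5_a4,
    mul_zero, zero_mul, add_zero, zero_add, map_zero, map_add, map_mul, map_pow, σσ, map_one, mul_one, one_mul,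
    ne_eq, OfNat.ofNat_ne_zero, not_false_eq_true, zero_pow, one_pow] <;> grind

theorem x6_mul : x6 t * u =
    ⟨u.a1,
     u.b8,
     u.b2,
     u.a8,
     u.b6,
     u.b4,
     u.a7,
     u.a2,
     u.a3,
     u.a5,
     t + u.a6,
     u.a4 + t * u.a1⟩ := by
  ext <;> simp only [mul_a1, mul_b8, mul_b2, mul_a8, mul_b6, mul_b4, mul_a7, mul_a2, mul_a3, mul_a5, mul_a6, mul_a4,
    x6_a1, x6_b8, x6_b2, x6_a8, x6_b6, x6_b4, x6_a7, x6_a2, x6_a3, x6_a5, x6_a6, x6_a4,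
    mul_zero, zero_mul, add_zero, zero_add, map_zero, map_add, map_mul, map_pow, σσ, map_one, mul_one, one_mul,
    ne_eq, OfNat.ofNat_ne_zero, not_false_eq_true, zero_pow, one_pow] <;> grind

theorem x4_mul : x4 t * u =
    ⟨u.a1,
     u.b8,
     u.b2,
     u.a8,
     u.b6,
     u.b4,
     u.a7,
     u.a2,
     u.a3,
     u.a5,
     u.a6,
     t + u.a4⟩ := by
  ext <;> simp only [mul_a1, mul_b8, mul_b2, mul_a8, mul_b6, mul_b4, mul_a7, mul_a2, mul_a3, mul_a5, mul_a6, mul_a4,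
    x4_a1, x4_b8, x4_b2, x4_a8, x4_b6, x4_b4, x4_a7, x4_a2, x4_a3, x4_a5, x4_a6, x4_a4,
    mul_zero, zero_mul, add_zero, zero_add, map_zero, map_add, map_mul, map_pow, σσ, map_one, mul_one, one_mul,
    ne_eq, OfNat.ofNat_ne_zero, not_false_eq_true, zero_pow, one_pow] <;> grind

theorem x1_inv : (x1 t)⁻¹ = x1 t := by ext <;> simp
theorem y8_inv : (y8 t)⁻¹ = y8 t * x8 (σ t * t) := by ext <;> simp [mul_comm]
theorem y2_inv : (y2 t)⁻¹ = y2 t * x2 (σ t * t) := by ext <;> simp [mul_comm]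
theorem x8_inv : (x8 t)⁻¹ = x8 t := by ext <;> simp
theorem y6_inv : (y6 t)⁻¹ = y6 t * x6 (σ t * t) := by ext <;> simp [mul_comm]
theorem y4_inv : (y4 t)⁻¹ = y4 t * x4 (σ t * t) := by ext <;> simp [mul_comm]
theorem x7_inv : (x7 t)⁻¹ = x7 t := by ext <;> simp
theorem x2_inv : (x2 t)⁻¹ = x2 t := by ext <;> simp
theorem x3_inv : (x3 t)⁻¹ = x3 t := by ext <;> simp
theorem x5_inv : (x5 t)⁻¹ = x5 t := by ext <;> simp
theorem x6_inv : (x6 t)⁻¹ = x6 t := by ext <;> simp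
theorem x4_inv : (x4 t)⁻¹ = x4 t := by ext <;> simp

end

end UU

/-- Compute coordinates in `UU K`. -/
syntax "uus" (" [" Lean.Parser.Tactic.simpLemma,* "]")? (Lean.Parser.Tactic.location)? : tactic

macro_rules
  | `(tactic| uus $[$loc]?) => `(tactic| uus [mul_zero] $[$loc]?)
  | `(tactic| uus [$ts,*] $[$loc]?) => `(tactic| simp only [$ts,*, mul_inv_rev, inv_inv, commutatorElement_def,
    UU.mul_x1, UU.mul_y8, UU.mul_y2, UU.mul_x8, UU.mul_y6, UU.mul_y4, UU.mul_x7, UU.mul_x2, UU.mul_x3, UU.mul_x5, UU.mul_x6, UU.mul_x4,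
    UU.x1_mul, UU.y8_mul, UU.y2_mul, UU.x8_mul, UU.y6_mul, UU.y4_mul, UU.x7_mul, UU.x2_mul, UU.x3_mul, UU.x5_mul, UU.x6_mul, UU.x4_mul,
    UU.x1_inv, UU.y8_inv, UU.y2_inv, UU.x8_inv, UU.y6_inv, UU.y4_inv, UU.x7_inv, UU.x2_inv, UU.x3_inv, UU.x5_inv, UU.x6_inv, UU.x4_inv,
    UU.x1_a1, UU.x1_b8, UU.x1_b2, UU.x1_a8, UU.x1_b6, UU.x1_b4, UU.x1_a7, UU.x1_a2, UU.x1_a3, UU.x1_a5, UU.x1_a6, UU.x1_a4,
    UU.y8_a1, UU.y8_b8, UU.y8_b2, UU.y8_a8, UU.y8_b6, UU.y8_b4, UU.y8_a7, UU.y8_a2, UU.y8_a3, UU.y8_a5, UU.y8_a6, UU.y8_a4,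
    UU.y2_a1, UU.y2_b8, UU.y2_b2, UU.y2_a8, UU.y2_b6, UU.y2_b4, UU.y2_a7, UU.y2_a2, UU.y2_a3, UU.y2_a5, UU.y2_a6, UU.y2_a4,
    UU.x8_a1, UU.x8_b8, UU.x8_b2, UU.x8_a8, UU.x8_b6, UU.x8_b4, UU.x8_a7, UU.x8_a2, UU.x8_a3, UU.x8_a5, UU.x8_a6, UU.x8_a4,
    UU.y6_a1, UU.y6_b8, UU.y6_b2, UU.y6_a8, UU.y6_b6, UU.y6_b4, UU.y6_a7, UU.y6_a2, UU.y6_a3, UU.y6_a5, UU.y6_a6, UU.y6_a4,
    UU.y4_a1, UU.y4_b8, UU.y4_b2, UU.y4_a8, UU.y4_b6, UU.y4_b4, UU.y4_a7, UU.y4_a2, UU.y4_a3, UU.y4_a5, UU.y4_a6, UU.y4_a4,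
    UU.x7_a1, UU.x7_b8, UU.x7_b2, UU.x7_a8, UU.x7_b6, UU.x7_b4, UU.x7_a7, UU.x7_a2, UU.x7_a3, UU.x7_a5, UU.x7_a6, UU.x7_a4,
    UU.x2_a1, UU.x2_b8, UU.x2_b2, UU.x2_a8, UU.x2_b6, UU.x2_b4, UU.x2_a7, UU.x2_a2, UU.x2_a3, UU.x2_a5, UU.x2_a6, UU.x2_a4,
    UU.x3_a1, UU.x3_b8, UU.x3_b2, UU.x3_a8, UU.x3_b6, UU.x3_b4, UU.x3_a7, UU.x3_a2, UU.x3_a3, UU.x3_a5, UU.x3_a6, UU.x3_a4,
    UU.x5_a1, UU.x5_b8, UU.x5_b2, UU.x5_a8, UU.x5_b6, UU.x5_b4, UU.x5_a7, UU.x5_a2, UU.x5_a3, UU.x5_a5, UU.x5_a6, UU.x5_a4,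
    UU.x6_a1, UU.x6_b8, UU.x6_b2, UU.x6_a8, UU.x6_b6, UU.x6_b4, UU.x6_a7, UU.x6_a2, UU.x6_a3, UU.x6_a5, UU.x6_a6, UU.x6_a4,
    UU.x4_a1, UU.x4_b8, UU.x4_b2, UU.x4_a8, UU.x4_b6, UU.x4_b4, UU.x4_a7, UU.x4_a2, UU.x4_a3, UU.x4_a5, UU.x4_a6, UU.x4_a4,
    UU.mul_a1, UU.mul_b8, UU.mul_b2, UU.mul_a8, UU.mul_b6, UU.mul_b4, UU.mul_a7, UU.mul_a2, UU.mul_a3, UU.mul_a5, UU.mul_a6, UU.mul_a4,
    UU.inv_a1, UU.inv_b8, UU.inv_b2, UU.inv_a8, UU.inv_b6, UU.inv_b4, UU.inv_a7, UU.inv_a2, UU.inv_a3, UU.inv_a5, UU.inv_a6, UU.inv_a4,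
    UU.one_a1, UU.one_b8, UU.one_b2, UU.one_a8, UU.one_b6, UU.one_b4, UU.one_a7, UU.one_a2, UU.one_a3, UU.one_a5, UU.one_a6, UU.one_a4,
    mul_zero, zero_mul, add_zero, zero_add, map_zero, map_add, map_mul, map_pow, σσ, map_one, mul_one, one_mul,
    ne_eq, OfNat.ofNat_ne_zero, not_false_eq_true, zero_pow, one_pow] $[$loc]?)

/-- Check an identity in `UU K` coordinatewise. -/
syntax "uu" (" [" Lean.Parser.Tactic.simpLemma,* "]")? : tactic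

macro_rules
  | `(tactic| uu) => `(tactic| (ext <;> (try uus) <;> grind (ringSteps := 10000000)))
  | `(tactic| uu [$ts,*]) => `(tactic| (ext <;> (try uus [$ts,*]) <;> grind (ringSteps := 10000000)))

namespace UU

theorem nf (u : UU K) : u = x1 u.a1 * y8 u.b8 * y2 u.b2 * x8 u.a8 * y6 u.b6 * y4 u.b4 *
    x7 u.a7 * x2 u.a2 * x3 u.a3 * x5 u.a5 * x6 u.a6 * x4 u.a4 := by
  ext <;> uus

@[simp] theorem x1_zero : x1 (0 : K) = 1 := rfl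
@[simp] theorem x1_inj {s t : K} : x1 s = x1 t ↔ s = t := ⟨congrArg a1, congrArg _⟩
@[simp] theorem x1_eq_one {t : K} : x1 t = 1 ↔ t = 0 := x1_inj (t := 0)
theorem x1_add (s t : K) : x1 s * x1 t = x1 (s + t) := by ext <;> simp
@[simp] theorem x1_sq (t : K) : x1 t * x1 t = 1 := by uu
@[simp] theorem y8_zero : y8 (0 : K) = 1 := rfl
@[simp] theorem y8_inj {s t : K} : y8 s = y8 t ↔ s = t := ⟨congrArg b8, congrArg _⟩
@[simp] theorem y8_eq_one {t : K} : y8 t = 1 ↔ t = 0 := y8_inj (t := 0)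
theorem y8_add (s t : K) : y8 s * y8 t = y8 (s + t) * x8 (σ s * t) := by ext <;> simp
theorem y8_sq (t : K) : y8 t * y8 t = x8 (σ t * t) := by uu
@[simp] theorem y2_zero : y2 (0 : K) = 1 := rfl
@[simp] theorem y2_inj {s t : K} : y2 s = y2 t ↔ s = t := ⟨congrArg b2, congrArg _⟩
@[simp] theorem y2_eq_one {t : K} : y2 t = 1 ↔ t = 0 := y2_inj (t := 0)
theorem y2_add (s t : K) : y2 s * y2 t = y2 (s + t) * x2 (σ s * t) := by ext <;> simp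
theorem y2_sq (t : K) : y2 t * y2 t = x2 (σ t * t) := by uu
@[simp] theorem x8_zero : x8 (0 : K) = 1 := rfl
@[simp] theorem x8_inj {s t : K} : x8 s = x8 t ↔ s = t := ⟨congrArg a8, congrArg _⟩
@[simp] theorem x8_eq_one {t : K} : x8 t = 1 ↔ t = 0 := x8_inj (t := 0)
theorem x8_add (s t : K) : x8 s * x8 t = x8 (s + t) := by ext <;> simp
@[simp] theorem x8_sq (t : K) : x8 t * x8 t = 1 := by uu
@[simp] theorem y6_zero : y6 (0 : K) = 1 := rfl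
@[simp] theorem y6_inj {s t : K} : y6 s = y6 t ↔ s = t := ⟨congrArg b6, congrArg _⟩
@[simp] theorem y6_eq_one {t : K} : y6 t = 1 ↔ t = 0 := y6_inj (t := 0)
theorem y6_add (s t : K) : y6 s * y6 t = y6 (s + t) * x6 (σ s * t) := by ext <;> simp
theorem y6_sq (t : K) : y6 t * y6 t = x6 (σ t * t) := by uu
@[simp] theorem y4_zero : y4 (0 : K) = 1 := rfl
@[simp] theorem y4_inj {s t : K} : y4 s = y4 t ↔ s = t := ⟨congrArg b4, congrArg _⟩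
@[simp] theorem y4_eq_one {t : K} : y4 t = 1 ↔ t = 0 := y4_inj (t := 0)
theorem y4_add (s t : K) : y4 s * y4 t = y4 (s + t) * x4 (σ s * t) := by ext <;> simp
theorem y4_sq (t : K) : y4 t * y4 t = x4 (σ t * t) := by uu
@[simp] theorem x7_zero : x7 (0 : K) = 1 := rfl
@[simp] theorem x7_inj {s t : K} : x7 s = x7 t ↔ s = t := ⟨congrArg a7, congrArg _⟩
@[simp] theorem x7_eq_one {t : K} : x7 t = 1 ↔ t = 0 := x7_inj (t := 0)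
theorem x7_add (s t : K) : x7 s * x7 t = x7 (s + t) := by ext <;> simp
@[simp] theorem x7_sq (t : K) : x7 t * x7 t = 1 := by uu
@[simp] theorem x2_zero : x2 (0 : K) = 1 := rfl
@[simp] theorem x2_inj {s t : K} : x2 s = x2 t ↔ s = t := ⟨congrArg a2, congrArg _⟩
@[simp] theorem x2_eq_one {t : K} : x2 t = 1 ↔ t = 0 := x2_inj (t := 0)
theorem x2_add (s t : K) : x2 s * x2 t = x2 (s + t) := by ext <;> simp
@[simp] theorem x2_sq (t : K) : x2 t * x2 t = 1 := by uu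
@[simp] theorem x3_zero : x3 (0 : K) = 1 := rfl
@[simp] theorem x3_inj {s t : K} : x3 s = x3 t ↔ s = t := ⟨congrArg a3, congrArg _⟩
@[simp] theorem x3_eq_one {t : K} : x3 t = 1 ↔ t = 0 := x3_inj (t := 0)
theorem x3_add (s t : K) : x3 s * x3 t = x3 (s + t) := by ext <;> simp
@[simp] theorem x3_sq (t : K) : x3 t * x3 t = 1 := by uu
@[simp] theorem x5_zero : x5 (0 : K) = 1 := rfl
@[simp] theorem x5_inj {s t : K} : x5 s = x5 t ↔ s = t := ⟨congrArg a5, congrArg _⟩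
@[simp] theorem x5_eq_one {t : K} : x5 t = 1 ↔ t = 0 := x5_inj (t := 0)
theorem x5_add (s t : K) : x5 s * x5 t = x5 (s + t) := by ext <;> simp
@[simp] theorem x5_sq (t : K) : x5 t * x5 t = 1 := by uu
@[simp] theorem x6_zero : x6 (0 : K) = 1 := rfl
@[simp] theorem x6_inj {s t : K} : x6 s = x6 t ↔ s = t := ⟨congrArg a6, congrArg _⟩
@[simp] theorem x6_eq_one {t : K} : x6 t = 1 ↔ t = 0 := x6_inj (t := 0)
theorem x6_add (s t : K) : x6 s * x6 t = x6 (s + t) := by ext <;> simp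
@[simp] theorem x6_sq (t : K) : x6 t * x6 t = 1 := by uu
@[simp] theorem x4_zero : x4 (0 : K) = 1 := rfl
@[simp] theorem x4_inj {s t : K} : x4 s = x4 t ↔ s = t := ⟨congrArg a4, congrArg _⟩
@[simp] theorem x4_eq_one {t : K} : x4 t = 1 ↔ t = 0 := x4_inj (t := 0)
theorem x4_add (s t : K) : x4 s * x4 t = x4 (s + t) := by ext <;> simp
@[simp] theorem x4_sq (t : K) : x4 t * x4 t = 1 := by uu

/-- The diagonal endomorphisms. -/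
def tor (a b : K) : UU K →* UU K where
  toFun u :=
    { a1 := a * u.a1,
      b8 := b * u.b8,
      b2 := a * b * u.b2,
      a8 := b * σ b * u.a8,
      b6 := a * b * σ b * u.b6,
      b4 := σ a * b * σ b * u.b4,
      a7 := a * b ^ 2 * σ b * u.a7,
      a2 := a * σ a * b * σ b * u.a2,
      a3 := a * σ a * b ^ 2 * σ b * u.a3,
      a5 := a * σ a * b ^ 2 * σ b ^ 2 * u.a5,
      a6 := a * σ a * b ^ 3 * σ b ^ 2 * u.a6,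
      a4 := a ^ 2 * σ a * b ^ 3 * σ b ^ 2 * u.a4 }
  map_one' := by ext <;> simp
  map_mul' u v := by ext <;> simp <;> grind

section
variable (a b : K) (u : UU K)
@[simp] theorem tor_a1 : (tor a b u).a1 = a * u.a1 := rfl
@[simp] theorem tor_b8 : (tor a b u).b8 = b * u.b8 := rfl
@[simp] theorem tor_b2 : (tor a b u).b2 = a * b * u.b2 := rfl
@[simp] theorem tor_a8 : (tor a b u).a8 = b * σ b * u.a8 := rfl
@[simp] theorem tor_b6 : (tor a b u).b6 = a * b * σ b * u.b6 := rfl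
@[simp] theorem tor_b4 : (tor a b u).b4 = σ a * b * σ b * u.b4 := rfl
@[simp] theorem tor_a7 : (tor a b u).a7 = a * b ^ 2 * σ b * u.a7 := rfl
@[simp] theorem tor_a2 : (tor a b u).a2 = a * σ a * b * σ b * u.a2 := rfl
@[simp] theorem tor_a3 : (tor a b u).a3 = a * σ a * b ^ 2 * σ b * u.a3 := rfl
@[simp] theorem tor_a5 : (tor a b u).a5 = a * σ a * b ^ 2 * σ b ^ 2 * u.a5 := rfl
@[simp] theorem tor_a6 : (tor a b u).a6 = a * σ a * b ^ 3 * σ b ^ 2 * u.a6 := rfl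
@[simp] theorem tor_a4 : (tor a b u).a4 = a ^ 2 * σ a * b ^ 3 * σ b ^ 2 * u.a4 := rfl
end

theorem tor_x1 (a b t : K) : tor a b (x1 t) = x1 (a * t) := by ext <;> simp
theorem tor_y8 (a b t : K) : tor a b (y8 t) = y8 (b * t) := by ext <;> simp
theorem tor_y2 (a b t : K) : tor a b (y2 t) = y2 (a * b * t) := by ext <;> simp
theorem tor_x8 (a b t : K) : tor a b (x8 t) = x8 (b * σ b * t) := by ext <;> simp
theorem tor_y6 (a b t : K) : tor a b (y6 t) = y6 (a * b * σ b * t) := by ext <;> simp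
theorem tor_y4 (a b t : K) : tor a b (y4 t) = y4 (σ a * b * σ b * t) := by ext <;> simp
theorem tor_x7 (a b t : K) : tor a b (x7 t) = x7 (a * b ^ 2 * σ b * t) := by ext <;> simp
theorem tor_x2 (a b t : K) : tor a b (x2 t) = x2 (a * σ a * b * σ b * t) := by ext <;> simp
theorem tor_x3 (a b t : K) : tor a b (x3 t) = x3 (a * σ a * b ^ 2 * σ b * t) := by ext <;> simp
theorem tor_x5 (a b t : K) : tor a b (x5 t) = x5 (a * σ a * b ^ 2 * σ b ^ 2 * t) := by ext <;> simp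
theorem tor_x6 (a b t : K) : tor a b (x6 t) = x6 (a * σ a * b ^ 3 * σ b ^ 2 * t) := by ext <;> simp
theorem tor_x4 (a b t : K) : tor a b (x4 t) = x4 (a ^ 2 * σ a * b ^ 3 * σ b ^ 2 * t) := by ext <;> simp

theorem tor_tor (a b c d : K) (u : UU K) : tor a b (tor c d u) = tor (a * c) (b * d) u := by ext <;> simp <;> ring

@[simp] theorem tor_one (u : UU K) : tor 1 1 u = u := by ext <;> simp

end UU

/-- The endomorphism on units. -/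
def σu : Kˣ →* Kˣ := Units.map (σ : K →+* K)

@[simp] theorem coe_σu (t : Kˣ) : (σu t : K) = σ (t : K) := rfl

/-- The torus centralising `U₄`. -/
def jL : Kˣ →* Kˣ × Kˣ := ((MonoidHom.id Kˣ * σu : Kˣ →* Kˣ).comp invMonoidHom).prod σu

@[simp] theorem jL_fst (β : Kˣ) : ((jL β).1 : K) = (↑β)⁻¹ * (σ (β : K))⁻¹ := by simp [jL]

@[simp] theorem jL_snd (β : Kˣ) : ((jL β).2 : K) = σ (β : K) := rfl

namespace UU

/-- The action of the torus centralising `U₄`. -/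
def tl (β : Kˣ) : UU K →* UU K := tor (jL β).1 (jL β).2

section
variable (β : Kˣ) (u : UU K)
@[simp] theorem tl_a1 : (tl β u).a1 = ((β : K) * σ (β : K))⁻¹ * u.a1 := by
  have := β.ne_zero; have := (map_ne_zero σ).2 this; simp [tl] <;> grind
@[simp] theorem tl_b8 : (tl β u).b8 = σ (β : K) * u.b8 := by
  have := β.ne_zero; have := (map_ne_zero σ).2 this; simp [tl] <;> grind
@[simp] theorem tl_b2 : (tl β u).b2 = ((β : K))⁻¹ * u.b2 := by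
  have := β.ne_zero; have := (map_ne_zero σ).2 this; simp [tl] <;> grind
@[simp] theorem tl_a8 : (tl β u).a8 = (β : K) ^ 2 * σ (β : K) * u.a8 := by
  have := β.ne_zero; have := (map_ne_zero σ).2 this; simp [tl] <;> grind
@[simp] theorem tl_b6 : (tl β u).b6 = (β : K) * u.b6 := by
  have := β.ne_zero; have := (map_ne_zero σ).2 this; simp [tl] <;> grind
@[simp] theorem tl_b4 : (tl β u).b4 = u.b4 := by
  have := β.ne_zero; have := (map_ne_zero σ).2 this; simp [tl] <;> grind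
@[simp] theorem tl_a7 : (tl β u).a7 = (β : K) * σ (β : K) * u.a7 := by
  have := β.ne_zero; have := (map_ne_zero σ).2 this; simp [tl] <;> grind
@[simp] theorem tl_a2 : (tl β u).a2 = ((β : K) * σ (β : K))⁻¹ * u.a2 := by
  have := β.ne_zero; have := (map_ne_zero σ).2 this; simp [tl] <;> grind
@[simp] theorem tl_a3 : (tl β u).a3 = ((β : K))⁻¹ * u.a3 := by
  have := β.ne_zero; have := (map_ne_zero σ).2 this; simp [tl] <;> grind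
@[simp] theorem tl_a5 : (tl β u).a5 = (β : K) * u.a5 := by
  have := β.ne_zero; have := (map_ne_zero σ).2 this; simp [tl] <;> grind
@[simp] theorem tl_a6 : (tl β u).a6 = (β : K) * σ (β : K) * u.a6 := by
  have := β.ne_zero; have := (map_ne_zero σ).2 this; simp [tl] <;> grind
@[simp] theorem tl_a4 : (tl β u).a4 = u.a4 := by
  have := β.ne_zero; have := (map_ne_zero σ).2 this; simp [tl] <;> grind
end

theorem tl_x1 (β : Kˣ) (t : K) : tl β (x1 t) = x1 (((β : K) * σ (β : K))⁻¹ * t) := by ext <;> simp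
theorem tl_y8 (β : Kˣ) (t : K) : tl β (y8 t) = y8 (σ (β : K) * t) := by ext <;> simp
theorem tl_y2 (β : Kˣ) (t : K) : tl β (y2 t) = y2 (((β : K))⁻¹ * t) := by ext <;> simp
theorem tl_x8 (β : Kˣ) (t : K) : tl β (x8 t) = x8 ((β : K) ^ 2 * σ (β : K) * t) := by ext <;> simp
theorem tl_y6 (β : Kˣ) (t : K) : tl β (y6 t) = y6 ((β : K) * t) := by ext <;> simp
theorem tl_y4 (β : Kˣ) (t : K) : tl β (y4 t) = y4 (t) := by ext <;> simp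
theorem tl_x7 (β : Kˣ) (t : K) : tl β (x7 t) = x7 ((β : K) * σ (β : K) * t) := by ext <;> simp
theorem tl_x2 (β : Kˣ) (t : K) : tl β (x2 t) = x2 (((β : K) * σ (β : K))⁻¹ * t) := by ext <;> simp
theorem tl_x3 (β : Kˣ) (t : K) : tl β (x3 t) = x3 (((β : K))⁻¹ * t) := by ext <;> simp
theorem tl_x5 (β : Kˣ) (t : K) : tl β (x5 t) = x5 ((β : K) * t) := by ext <;> simp
theorem tl_x6 (β : Kˣ) (t : K) : tl β (x6 t) = x6 ((β : K) * σ (β : K) * t) := by ext <;> simp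
theorem tl_x4 (β : Kˣ) (t : K) : tl β (x4 t) = x4 (t) := by ext <;> simp

variable (K)

/-- The subgroup on the letters x4. -/
def Z : Subgroup (UU K) where
  carrier := {u | u.a1 = 0 ∧ u.b8 = 0 ∧ u.b2 = 0 ∧ u.a8 = 0 ∧ u.b6 = 0 ∧ u.b4 = 0 ∧ u.a7 = 0 ∧ u.a2 = 0 ∧ u.a3 = 0 ∧ u.a5 = 0 ∧ u.a6 = 0}
  mul_mem' := by intros; simp_all
  one_mem' := by simp
  inv_mem' := by intros; simp_all

/-- The subgroup on the letters x6 x4. -/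
def V : Subgroup (UU K) where
  carrier := {u | u.a1 = 0 ∧ u.b8 = 0 ∧ u.b2 = 0 ∧ u.a8 = 0 ∧ u.b6 = 0 ∧ u.b4 = 0 ∧ u.a7 = 0 ∧ u.a2 = 0 ∧ u.a3 = 0 ∧ u.a5 = 0}
  mul_mem' := by intros; simp_all
  one_mem' := by simp
  inv_mem' := by intros; simp_all

/-- The subgroup on the letters x6. -/
def V6 : Subgroup (UU K) where
  carrier := {u | u.a1 = 0 ∧ u.b8 = 0 ∧ u.b2 = 0 ∧ u.a8 = 0 ∧ u.b6 = 0 ∧ u.b4 = 0 ∧ u.a7 = 0 ∧ u.a2 = 0 ∧ u.a3 = 0 ∧ u.a5 = 0 ∧ u.a4 = 0}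
  mul_mem' := by intros; simp_all
  one_mem' := by simp
  inv_mem' := by intros; simp_all

/-- The subgroup on the letters x5 x4. -/
def E5 : Subgroup (UU K) where
  carrier := {u | u.a1 = 0 ∧ u.b8 = 0 ∧ u.b2 = 0 ∧ u.a8 = 0 ∧ u.b6 = 0 ∧ u.b4 = 0 ∧ u.a7 = 0 ∧ u.a2 = 0 ∧ u.a3 = 0 ∧ u.a6 = 0}
  mul_mem' := by intros; simp_all
  one_mem' := by simp
  inv_mem' := by intros; simp_all

/-- The subgroup on the letters x5 x6 x4. -/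
def D : Subgroup (UU K) where
  carrier := {u | u.a1 = 0 ∧ u.b8 = 0 ∧ u.b2 = 0 ∧ u.a8 = 0 ∧ u.b6 = 0 ∧ u.b4 = 0 ∧ u.a7 = 0 ∧ u.a2 = 0 ∧ u.a3 = 0}
  mul_mem' := by intros; simp_all
  one_mem' := by simp
  inv_mem' := by intros; simp_all

/-- The subgroup on the letters x2 x3 x5 x6 x4. -/
def W : Subgroup (UU K) where
  carrier := {u | u.a1 = 0 ∧ u.b8 = 0 ∧ u.b2 = 0 ∧ u.a8 = 0 ∧ u.b6 = 0 ∧ u.b4 = 0 ∧ u.a7 = 0}
  mul_mem' := by intros; simp_all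
  one_mem' := by simp
  inv_mem' := by intros; simp_all

/-- The subgroup on the letters x8 x7 x5 x6 x4. -/
def W7 : Subgroup (UU K) where
  carrier := {u | u.a1 = 0 ∧ u.b8 = 0 ∧ u.b2 = 0 ∧ u.b6 = 0 ∧ u.b4 = 0 ∧ u.a2 = 0 ∧ u.a3 = 0}
  mul_mem' := by intros; simp_all
  one_mem' := by simp
  inv_mem' := by intros; simp_all

/-- The subgroup on the letters x1. -/
def U1 : Subgroup (UU K) where
  carrier := {u | u.b8 = 0 ∧ u.b2 = 0 ∧ u.a8 = 0 ∧ u.b6 = 0 ∧ u.b4 = 0 ∧ u.a7 = 0 ∧ u.a2 = 0 ∧ u.a3 = 0 ∧ u.a5 = 0 ∧ u.a6 = 0 ∧ u.a4 = 0}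
  mul_mem' := by intros; simp_all
  one_mem' := by simp
  inv_mem' := by intros; simp_all

/-- The subgroup on the letters y2 x2. -/
def U2 : Subgroup (UU K) where
  carrier := {u | u.a1 = 0 ∧ u.b8 = 0 ∧ u.a8 = 0 ∧ u.b6 = 0 ∧ u.b4 = 0 ∧ u.a7 = 0 ∧ u.a3 = 0 ∧ u.a5 = 0 ∧ u.a6 = 0 ∧ u.a4 = 0}
  mul_mem' := by intros; simp_all
  one_mem' := by simp
  inv_mem' := by intros; simp_all

/-- The subgroup on the letters x3. -/
def U3 : Subgroup (UU K) where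
  carrier := {u | u.a1 = 0 ∧ u.b8 = 0 ∧ u.b2 = 0 ∧ u.a8 = 0 ∧ u.b6 = 0 ∧ u.b4 = 0 ∧ u.a7 = 0 ∧ u.a2 = 0 ∧ u.a5 = 0 ∧ u.a6 = 0 ∧ u.a4 = 0}
  mul_mem' := by intros; simp_all
  one_mem' := by simp
  inv_mem' := by intros; simp_all

/-- The subgroup on the letters y4 x4. -/
def U4 : Subgroup (UU K) where
  carrier := {u | u.a1 = 0 ∧ u.b8 = 0 ∧ u.b2 = 0 ∧ u.a8 = 0 ∧ u.b6 = 0 ∧ u.a7 = 0 ∧ u.a2 = 0 ∧ u.a3 = 0 ∧ u.a5 = 0 ∧ u.a6 = 0}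
  mul_mem' := by intros; simp_all
  one_mem' := by simp
  inv_mem' := by intros; simp_all

/-- The subgroup on the letters x5. -/
def U5 : Subgroup (UU K) where
  carrier := {u | u.a1 = 0 ∧ u.b8 = 0 ∧ u.b2 = 0 ∧ u.a8 = 0 ∧ u.b6 = 0 ∧ u.b4 = 0 ∧ u.a7 = 0 ∧ u.a2 = 0 ∧ u.a3 = 0 ∧ u.a6 = 0 ∧ u.a4 = 0}
  mul_mem' := by intros; simp_all
  one_mem' := by simp
  inv_mem' := by intros; simp_all

/-- The subgroup on the letters y6 x6. -/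
def U6 : Subgroup (UU K) where
  carrier := {u | u.a1 = 0 ∧ u.b8 = 0 ∧ u.b2 = 0 ∧ u.a8 = 0 ∧ u.b4 = 0 ∧ u.a7 = 0 ∧ u.a2 = 0 ∧ u.a3 = 0 ∧ u.a5 = 0 ∧ u.a4 = 0}
  mul_mem' := by intros; simp_all
  one_mem' := by simp
  inv_mem' := by intros; simp_all

/-- The subgroup on the letters x7. -/
def U7 : Subgroup (UU K) where
  carrier := {u | u.a1 = 0 ∧ u.b8 = 0 ∧ u.b2 = 0 ∧ u.a8 = 0 ∧ u.b6 = 0 ∧ u.b4 = 0 ∧ u.a2 = 0 ∧ u.a3 = 0 ∧ u.a5 = 0 ∧ u.a6 = 0 ∧ u.a4 = 0}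
  mul_mem' := by intros; simp_all
  one_mem' := by simp
  inv_mem' := by intros; simp_all

/-- The subgroup on the letters y8 x8. -/
def U8 : Subgroup (UU K) where
  carrier := {u | u.a1 = 0 ∧ u.b2 = 0 ∧ u.b6 = 0 ∧ u.b4 = 0 ∧ u.a7 = 0 ∧ u.a2 = 0 ∧ u.a3 = 0 ∧ u.a5 = 0 ∧ u.a6 = 0 ∧ u.a4 = 0}
  mul_mem' := by intros; simp_all
  one_mem' := by simp
  inv_mem' := by intros; simp_all

/-- The subgroup on the letters x1 y2 y6 y4 x7 x2 x3 x5 x6 x4. -/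
def Q : Subgroup (UU K) where
  carrier := {u | u.b8 = 0 ∧ u.a8 = 0}
  mul_mem' := by intros; simp_all
  one_mem' := by simp
  inv_mem' := by intros; simp_all

/-- The subgroup on the letters y8 y2 x8 y6 y4 x7 x2 x3 x5 x6 x4. -/
def R : Subgroup (UU K) where
  carrier := {u | u.a1 = 0}
  mul_mem' := by intros; simp_all
  one_mem' := by simp
  inv_mem' := by intros; simp_all

/-- The subgroup on the letters y2 x8 y6 y4 x7 x2 x3 x5 x6 x4. -/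
def F : Subgroup (UU K) where
  carrier := {u | u.a1 = 0 ∧ u.b8 = 0}
  mul_mem' := by intros; simp_all
  one_mem' := by simp
  inv_mem' := by intros; simp_all

/-- The subgroup on the letters x1 x8 y6 y4 x7 x2 x3 x5 x6 x4. -/
def T5 : Subgroup (UU K) where
  carrier := {u | u.b8 = 0 ∧ u.b2 = 0}
  mul_mem' := by intros; simp_all
  one_mem' := by simp
  inv_mem' := by intros; simp_all

/-- The subgroup on the letters x3 x4 x5 y6 x6 x7 y8 x8. -/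
def T7 : Subgroup (UU K) where
  carrier := {u | u.a1 = 0 ∧ u.b2 = 0 ∧ u.b4 = 0 ∧ u.a2 = 0}
  mul_mem' := by intros; simp_all
  one_mem' := by simp
  inv_mem' := by intros; simp_all

/-- The subgroup on the letters y4 x4 x5 y6 x6 x7 y8 x8. -/
def T8 : Subgroup (UU K) where
  carrier := {u | u.a1 = 0 ∧ u.b2 = 0 ∧ u.a2 = 0 ∧ u.a3 = 0}
  mul_mem' := by intros; simp_all
  one_mem' := by simp
  inv_mem' := by intros; simp_all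

variable {K}

@[simp] theorem mem_Z {u : UU K} : u ∈ Z K ↔
    u.a1 = 0 ∧ u.b8 = 0 ∧ u.b2 = 0 ∧ u.a8 = 0 ∧ u.b6 = 0 ∧ u.b4 = 0 ∧ u.a7 = 0 ∧ u.a2 = 0 ∧ u.a3 = 0 ∧ u.a5 = 0 ∧ u.a6 = 0 := Iff.rfl
@[simp] theorem mem_V {u : UU K} : u ∈ V K ↔
    u.a1 = 0 ∧ u.b8 = 0 ∧ u.b2 = 0 ∧ u.a8 = 0 ∧ u.b6 = 0 ∧ u.b4 = 0 ∧ u.a7 = 0 ∧ u.a2 = 0 ∧ u.a3 = 0 ∧ u.a5 = 0 := Iff.rfl
@[simp] theorem mem_V6 {u : UU K} : u ∈ V6 K ↔
    u.a1 = 0 ∧ u.b8 = 0 ∧ u.b2 = 0 ∧ u.a8 = 0 ∧ u.b6 = 0 ∧ u.b4 = 0 ∧ u.a7 = 0 ∧ u.a2 = 0 ∧ u.a3 = 0 ∧ u.a5 = 0 ∧ u.a4 = 0 := Iff.rfl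
@[simp] theorem mem_E5 {u : UU K} : u ∈ E5 K ↔
    u.a1 = 0 ∧ u.b8 = 0 ∧ u.b2 = 0 ∧ u.a8 = 0 ∧ u.b6 = 0 ∧ u.b4 = 0 ∧ u.a7 = 0 ∧ u.a2 = 0 ∧ u.a3 = 0 ∧ u.a6 = 0 := Iff.rfl
@[simp] theorem mem_D {u : UU K} : u ∈ D K ↔
    u.a1 = 0 ∧ u.b8 = 0 ∧ u.b2 = 0 ∧ u.a8 = 0 ∧ u.b6 = 0 ∧ u.b4 = 0 ∧ u.a7 = 0 ∧ u.a2 = 0 ∧ u.a3 = 0 := Iff.rfl
@[simp] theorem mem_W {u : UU K} : u ∈ W K ↔
    u.a1 = 0 ∧ u.b8 = 0 ∧ u.b2 = 0 ∧ u.a8 = 0 ∧ u.b6 = 0 ∧ u.b4 = 0 ∧ u.a7 = 0 := Iff.rfl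
@[simp] theorem mem_W7 {u : UU K} : u ∈ W7 K ↔
    u.a1 = 0 ∧ u.b8 = 0 ∧ u.b2 = 0 ∧ u.b6 = 0 ∧ u.b4 = 0 ∧ u.a2 = 0 ∧ u.a3 = 0 := Iff.rfl
@[simp] theorem mem_U1 {u : UU K} : u ∈ U1 K ↔
    u.b8 = 0 ∧ u.b2 = 0 ∧ u.a8 = 0 ∧ u.b6 = 0 ∧ u.b4 = 0 ∧ u.a7 = 0 ∧ u.a2 = 0 ∧ u.a3 = 0 ∧ u.a5 = 0 ∧ u.a6 = 0 ∧ u.a4 = 0 := Iff.rfl
@[simp] theorem mem_U2 {u : UU K} : u ∈ U2 K ↔
    u.a1 = 0 ∧ u.b8 = 0 ∧ u.a8 = 0 ∧ u.b6 = 0 ∧ u.b4 = 0 ∧ u.a7 = 0 ∧ u.a3 = 0 ∧ u.a5 = 0 ∧ u.a6 = 0 ∧ u.a4 = 0 := Iff.rfl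
@[simp] theorem mem_U3 {u : UU K} : u ∈ U3 K ↔
    u.a1 = 0 ∧ u.b8 = 0 ∧ u.b2 = 0 ∧ u.a8 = 0 ∧ u.b6 = 0 ∧ u.b4 = 0 ∧ u.a7 = 0 ∧ u.a2 = 0 ∧ u.a5 = 0 ∧ u.a6 = 0 ∧ u.a4 = 0 := Iff.rfl
@[simp] theorem mem_U4 {u : UU K} : u ∈ U4 K ↔
    u.a1 = 0 ∧ u.b8 = 0 ∧ u.b2 = 0 ∧ u.a8 = 0 ∧ u.b6 = 0 ∧ u.a7 = 0 ∧ u.a2 = 0 ∧ u.a3 = 0 ∧ u.a5 = 0 ∧ u.a6 = 0 := Iff.rfl
@[simp] theorem mem_U5 {u : UU K} : u ∈ U5 K ↔
    u.a1 = 0 ∧ u.b8 = 0 ∧ u.b2 = 0 ∧ u.a8 = 0 ∧ u.b6 = 0 ∧ u.b4 = 0 ∧ u.a7 = 0 ∧ u.a2 = 0 ∧ u.a3 = 0 ∧ u.a6 = 0 ∧ u.a4 = 0 := Iff.rfl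
@[simp] theorem mem_U6 {u : UU K} : u ∈ U6 K ↔
    u.a1 = 0 ∧ u.b8 = 0 ∧ u.b2 = 0 ∧ u.a8 = 0 ∧ u.b4 = 0 ∧ u.a7 = 0 ∧ u.a2 = 0 ∧ u.a3 = 0 ∧ u.a5 = 0 ∧ u.a4 = 0 := Iff.rfl
@[simp] theorem mem_U7 {u : UU K} : u ∈ U7 K ↔
    u.a1 = 0 ∧ u.b8 = 0 ∧ u.b2 = 0 ∧ u.a8 = 0 ∧ u.b6 = 0 ∧ u.b4 = 0 ∧ u.a2 = 0 ∧ u.a3 = 0 ∧ u.a5 = 0 ∧ u.a6 = 0 ∧ u.a4 = 0 := Iff.rfl
@[simp] theorem mem_U8 {u : UU K} : u ∈ U8 K ↔
    u.a1 = 0 ∧ u.b2 = 0 ∧ u.b6 = 0 ∧ u.b4 = 0 ∧ u.a7 = 0 ∧ u.a2 = 0 ∧ u.a3 = 0 ∧ u.a5 = 0 ∧ u.a6 = 0 ∧ u.a4 = 0 := Iff.rfl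
@[simp] theorem mem_Q {u : UU K} : u ∈ Q K ↔
    u.b8 = 0 ∧ u.a8 = 0 := Iff.rfl
@[simp] theorem mem_R {u : UU K} : u ∈ R K ↔
    u.a1 = 0 := Iff.rfl
@[simp] theorem mem_F {u : UU K} : u ∈ F K ↔
    u.a1 = 0 ∧ u.b8 = 0 := Iff.rfl
@[simp] theorem mem_T5 {u : UU K} : u ∈ T5 K ↔
    u.b8 = 0 ∧ u.b2 = 0 := Iff.rfl
@[simp] theorem mem_T7 {u : UU K} : u ∈ T7 K ↔
    u.a1 = 0 ∧ u.b2 = 0 ∧ u.b4 = 0 ∧ u.a2 = 0 := Iff.rfl
@[simp] theorem mem_T8 {u : UU K} : u ∈ T8 K ↔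
    u.a1 = 0 ∧ u.b2 = 0 ∧ u.a2 = 0 ∧ u.a3 = 0 := Iff.rfl

theorem eq_of_mem_Z {u : UU K} (h : u ∈ Z K) : u = x4 u.a4 := by ext <;> simp_all
theorem eq_of_mem_V {u : UU K} (h : u ∈ V K) : u = x6 u.a6 * x4 u.a4 := by ext <;> simp_all
theorem eq_of_mem_V6 {u : UU K} (h : u ∈ V6 K) : u = x6 u.a6 := by ext <;> simp_all
theorem eq_of_mem_E5 {u : UU K} (h : u ∈ E5 K) : u = x5 u.a5 * x4 u.a4 := by ext <;> simp_all
theorem eq_of_mem_U1 {u : UU K} (h : u ∈ U1 K) : u = x1 u.a1 := by ext <;> simp_all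
theorem eq_of_mem_U2 {u : UU K} (h : u ∈ U2 K) : u = y2 u.b2 * x2 u.a2 := by ext <;> simp_all
theorem eq_of_mem_U3 {u : UU K} (h : u ∈ U3 K) : u = x3 u.a3 := by ext <;> simp_all
theorem eq_of_mem_U4 {u : UU K} (h : u ∈ U4 K) : u = y4 u.b4 * x4 u.a4 := by ext <;> simp_all
theorem eq_of_mem_U5 {u : UU K} (h : u ∈ U5 K) : u = x5 u.a5 := by ext <;> simp_all
theorem eq_of_mem_U6 {u : UU K} (h : u ∈ U6 K) : u = y6 u.b6 * x6 u.a6 := by ext <;> simp_all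
theorem eq_of_mem_U7 {u : UU K} (h : u ∈ U7 K) : u = x7 u.a7 := by ext <;> simp_all
theorem eq_of_mem_U8 {u : UU K} (h : u ∈ U8 K) : u = y8 u.b8 * x8 u.a8 := by ext <;> simp_all

theorem x4_comm (c : K) (u : UU K) : x4 c * u = u * x4 c := by ext <;> simp [add_comm]

variable (K)

theorem card_eq : Nat.card (UU K) = Nat.card K ^ 12 := by
  have e : UU K ≃ K × K × K × K × K × K × K × K × K × K × K × K :=
    ⟨fun u => (u.1, u.2, u.3, u.4, u.5, u.6, u.7, u.8, u.9, u.10, u.11, u.12),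
      fun ⟨a, b, c, d, e, f, g, h, i, j, k, l⟩ => ⟨a, b, c, d, e, f, g, h, i, j, k, l⟩, fun _ => rfl, fun _ => rfl⟩
  simp only [Nat.card_congr e, Nat.card_prod]
  ring

instance [Finite K] : Finite (UU K) :=
  Nat.finite_of_card_ne_zero (by rw [card_eq]; exact pow_ne_zero _ Nat.card_pos.ne')

end UU

theorem eq_one_of_N1 {w : K} (h : w * σ w = 1) : w = 1 := by
  have h1 := congrArg σ h
  simp only [map_mul, σσ, map_one] at h1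
  grind

theorem eq_one_of_N2 {w : K} (h : w ^ 2 * σ w = 1) : w = 1 := by
  have h1 := congrArg σ h
  simp only [map_mul, σσ, map_one, map_pow] at h1
  exact eq_one_of_N1 (by grind)

theorem inj_of_eq_one {f : K →*₀ K} (h : ∀ w, f w = 1 → w = 1) : Function.Injective f := fun s t e => by
  rcases eq_or_ne t 0 with rfl | ht
  · rwa [map_zero, map_eq_zero] at e
  exact (div_eq_one_iff_eq ht).1 (h _ (by rw [map_div₀, e, div_self ((map_ne_zero f).2 ht)]))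

variable (K) [Finite K]

theorem exists_card : ∃ k, 0 < k ∧ Nat.card K = 2 ^ k := by
  have := Fintype.ofFinite K
  obtain ⟨k, -, h⟩ := FiniteField.card K 2
  exact ⟨k, k.pos, by rw [Nat.card_eq_fintype_card, h]⟩

theorem UU.isPGroup : IsPGroup 2 (UU K) := by
  obtain ⟨k, -, h⟩ := exists_card K
  exact .of_card (by rw [UU.card_eq, h, ← pow_mul])

theorem odd_units : Odd (Nat.card Kˣ) := by
  obtain ⟨k, h0, h⟩ := exists_card K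
  rw [Nat.card_units, h]
  exact Nat.Even.sub_odd Nat.one_le_two_pow (Nat.even_pow.2 ⟨even_two, h0.ne'⟩) odd_one

variable {K}

theorem exists_σ (c : K) : ∃ t, σ t = c := Finite.surjective_of_injective (σ : K →+* K).injective c

theorem exists_N1 (c : K) : ∃ t, t * σ t = c :=
  Finite.surjective_of_injective (inj_of_eq_one (f := ⟨⟨fun t : K => t * σ t, by simp⟩, by simp, fun _ _ => by
    simp only [map_mul]; ring⟩) fun _ => eq_one_of_N1) c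

theorem exists_N2 (c : K) : ∃ t, t ^ 2 * σ t = c :=
  Finite.surjective_of_injective (inj_of_eq_one (f := ⟨⟨fun t : K => t ^ 2 * σ t, by simp⟩, by simp, fun _ _ => by
    simp only [map_mul]; ring⟩) fun _ => eq_one_of_N2) c

end Cfsg.Lib.Oct
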