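import Mathlib.Algebra.CharP.Two
import Mathlib.Algebra.CharP.Basic
import Mathlib.Algebra.Field.Defs
import Mathlib.Tactic.LinearCombination

/-!
# The unipotent group of the Moufang octagon: coordinates and multiplication
-/

set_option autoImplicit false

namespace Cfsg.Lib.Oct

/-- A field with a square root of the Frobenius map. -/
class TwF (K : Type*) [Field K] where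
  /-- the endomorphism -/
  σ : K →+* K
  sq : ∀ t, σ (σ t) = t ^ 2

export TwF (σ)

variable {K : Type*} [Field K] [TwF K]

@[simp] theorem σσ (t : K) : σ (σ t) = t ^ 2 := TwF.sq t

theorem two0 : (2 : K) = 0 := by
  have h := σσ (1 + 1 : K)
  simp only [map_add, map_one] at h
  linear_combination -h

instance (priority := high) charTwo : CharP K 2 := CharTwo.of_one_ne_zero_of_two_eq_zero one_ne_zero two0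

/-- The product `x₁ y₈ y₂ x₈ y₆ y₄ x₇ x₂ x₃ x₅ x₆ x₄` by its coordinates. -/
@[ext] structure UU (K : Type*) where
  (a1 b8 b2 a8 b6 b4 a7 a2 a3 a5 a6 a4 : K)

namespace UU

instance : One (UU K) := ⟨⟨0, 0, 0, 0, 0, 0, 0, 0, 0, 0, 0, 0⟩⟩

instance : Mul (UU K) := ⟨fun u v =>
  { a1 := u.a1 + v.a1,
    b8 := u.b8 + v.b8,
    b2 := u.b2 + v.b2 + u.b8 * v.a1,
    a8 := u.a8 + v.a8 + σ u.b8 * v.b8,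
    b6 := u.b6 + v.b6 + u.a8 * v.a1 + u.b2 * σ v.b8 + u.b8 * v.a1 * σ v.b8 + u.b8 * σ u.b8 * v.a1,
    b4 := u.b4 + v.b4 + u.a8 * σ v.a1 + σ u.b2 * v.b8 + σ u.b8 * σ v.a1 * v.b8,
    a7 := u.a7 + v.a7 + σ u.a8 * v.a1 + u.a8 * v.b2 + u.b6 * v.b8 + u.a8 * v.a1 * v.b8 +
      u.b2 * σ u.b8 * v.b8 + σ u.b8 * v.b2 * v.b8 + u.b8 ^ 2 * σ u.b8 * v.a1,
    a2 := u.a2 + v.a2 + σ u.b2 * v.b2 + u.b4 * v.a1 + u.b6 * σ v.a1 + u.a8 * v.a1 * σ v.a1 +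
      u.b2 * σ u.b8 * σ v.a1 + σ u.b8 * σ v.a1 * v.b2,
    a3 := u.a3 + v.a3 + u.a2 * v.b8 + u.a7 * σ v.a1 + u.b4 * v.b2 + σ u.b6 * v.a1 +
      σ u.a8 * v.a1 * σ v.a1 + u.a8 * σ v.a1 * v.b2 + σ u.b2 * v.b2 * v.b8 + u.b4 * v.a1 * v.b8 +
      u.b6 * σ v.a1 * v.b8 + u.a8 * v.a1 * σ v.a1 * v.b8 + u.b2 * σ u.b8 * σ v.a1 * v.b8 +
      σ u.b8 * σ v.a1 * v.b2 * v.b8 + u.b8 ^ 2 * σ u.b8 * v.a1 * σ v.a1,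
    a5 := u.a5 + v.a5 + u.a2 * v.a8 + u.a3 * σ v.b8 + σ u.a7 * v.a1 + u.a7 * σ v.b2 + u.b4 * v.b6 +
      u.a2 * v.b8 * σ v.b8 + u.a7 * σ v.a1 * σ v.b8 + σ u.a8 * v.a1 * σ v.b2 +
      u.a8 * σ u.b2 * v.b2 + u.a8 * u.b6 * σ v.a1 + u.a8 * σ v.a1 * v.b6 + u.a8 * v.b2 * σ v.b2 +
      σ u.b2 * u.b6 * v.b8 + σ u.b2 * v.a8 * v.b2 + σ u.b2 * v.b6 * v.b8 + u.b4 * v.a1 * v.a8 +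
      σ u.b6 * v.a1 * σ v.b8 + u.b6 * σ v.a1 * v.a8 + u.b6 * σ v.b2 * v.b8 +
      σ u.a8 * v.a1 * σ v.a1 * σ v.b8 + u.a8 * σ u.b2 * v.a1 * v.b8 +
      u.a8 * u.b2 * σ u.b8 * σ v.a1 + u.a8 * σ u.b8 * σ v.a1 * v.b2 + u.a8 * v.a1 * σ v.b2 * v.b8 +
      u.a8 * v.a1 * σ v.a1 * v.a8 + u.a8 ^ 2 * v.a1 * σ v.a1 + σ u.b2 * σ u.b8 * v.b2 * v.b8 +
      u.b2 * σ u.b8 * σ v.a1 * v.a8 + u.b2 * σ u.b8 * σ v.b2 * v.b8 +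
      u.b2 * σ u.b2 * σ u.b8 * v.b8 + u.b4 * v.a1 * v.b8 * σ v.b8 + u.b6 * σ u.b8 * σ v.a1 * v.b8 +
      u.b6 * σ v.a1 * v.b8 * σ v.b8 + σ u.b8 * σ v.a1 * v.a8 * v.b2 +
      σ u.b8 * σ v.a1 * v.b6 * v.b8 + σ u.b8 * v.b2 * σ v.b2 * v.b8 +
      u.a8 * σ u.b8 * v.a1 * σ v.a1 * v.b8 + u.a8 * v.a1 * σ v.a1 * v.b8 * σ v.b8 +
      σ u.b2 * u.b8 ^ 2 * σ u.b8 * v.a1 + u.b2 * σ u.b8 * σ v.a1 * v.b8 * σ v.b8 +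
      u.b2 * σ u.b8 ^ 2 * σ v.a1 * v.b8 + σ u.b8 ^ 2 * σ v.a1 * v.b2 * v.b8 +
      u.b8 ^ 2 * σ u.b8 * v.a1 * σ v.b2 + u.b8 ^ 2 * σ u.b8 * v.a1 * σ v.a1 * σ v.b8,
    a6 := u.a6 + v.a6 + u.a2 * σ v.a8 + u.a3 * v.a8 + u.a5 * v.b8 + σ u.a7 * v.b2 + u.a7 * v.b4 +
      σ u.b6 * v.b6 + u.a2 * v.a8 * v.b8 + σ u.a7 * v.a1 * v.b8 + u.a7 * σ v.a1 * v.a8 +
      σ u.a8 * σ u.b2 * v.b2 + σ u.a8 * u.b4 * v.a1 + σ u.a8 * u.b6 * σ v.a1 +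
      σ u.a8 * σ v.a1 * v.b6 + σ u.a8 * v.a1 * v.b4 + u.a8 * u.b4 * v.b2 + u.a8 * v.b2 * v.b4 +
      σ u.b2 * σ v.a8 * v.b2 + u.b4 * u.b6 * v.b8 + u.b4 * v.a1 * σ v.a8 + u.b4 * v.a8 * v.b2 +
      σ u.b6 * v.a1 * v.a8 + σ u.b6 * v.b2 * σ v.b8 + u.b6 * σ v.a1 * σ v.a8 + u.b6 * v.b4 * v.b8 +
      u.a2 * v.b8 ^ 2 * σ v.b8 + σ u.a8 * u.b2 * σ u.b8 * σ v.a1 + σ u.a8 * σ u.b8 * σ v.a1 * v.b2 +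
      σ u.a8 * σ v.a1 * v.b2 * σ v.b8 + σ u.a8 * v.a1 * σ v.a1 * v.a8 +
      u.a8 * σ u.b2 * v.b2 * v.b8 + u.a8 * u.b4 * v.a1 * v.b8 + u.a8 * σ v.a1 * v.a8 * v.b2 +
      u.a8 * v.a1 * v.b4 * v.b8 + u.a8 * v.a1 * σ v.a1 * σ v.a8 + u.a8 * σ u.a8 * v.a1 * σ v.a1 +
      σ u.b2 * u.b6 * v.b8 ^ 2 + σ u.b2 * v.a8 * v.b2 * v.b8 + σ u.b2 * v.b6 * v.b8 ^ 2 +
      u.b2 * u.b4 * σ u.b8 * v.b8 + u.b2 * σ u.b8 * σ v.a1 * σ v.a8 + u.b2 * σ u.b8 * v.b4 * v.b8 +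
      u.b4 * σ u.b8 * v.b2 * v.b8 + u.b4 * v.a1 * v.a8 * v.b8 + u.b6 * σ v.a1 * v.a8 * v.b8 +
      σ u.b8 * σ v.a1 * σ v.a8 * v.b2 + σ u.b8 * v.b2 * v.b4 * v.b8 +
      u.a8 * σ u.b2 * v.a1 * v.b8 ^ 2 + u.a8 * v.a1 * σ v.a1 * v.a8 * v.b8 +
      σ u.b2 * σ u.b8 * v.b2 * v.b8 ^ 2 + u.b2 * σ u.b8 * σ v.a1 * v.a8 * v.b8 +
      u.b2 * σ u.b2 * σ u.b8 * v.b8 ^ 2 + u.b4 * u.b8 ^ 2 * σ u.b8 * v.a1 +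
      u.b4 * v.a1 * v.b8 ^ 2 * σ v.b8 + u.b6 * σ u.b8 * σ v.a1 * v.b8 ^ 2 +
      u.b6 * u.b8 ^ 2 * σ u.b8 * σ v.a1 + u.b6 * σ v.a1 * v.b8 ^ 2 * σ v.b8 +
      σ u.b8 * σ v.a1 * v.a8 * v.b2 * v.b8 + σ u.b8 * σ v.a1 * v.b6 * v.b8 ^ 2 +
      u.b8 ^ 2 * σ u.b8 * σ v.a1 * v.b6 + u.b8 ^ 2 * σ u.b8 * v.a1 * v.b4 +
      u.a8 * σ u.b8 * v.a1 * σ v.a1 * v.b8 ^ 2 + u.a8 * u.b8 ^ 2 * σ u.b8 * v.a1 * σ v.a1 +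
      u.a8 * v.a1 * σ v.a1 * v.b8 ^ 2 * σ v.b8 + σ u.b2 * u.b8 ^ 2 * σ u.b8 * v.a1 * v.b8 +
      u.b2 * σ u.b8 * σ v.a1 * v.b8 ^ 2 * σ v.b8 + u.b2 * σ u.b8 ^ 2 * σ v.a1 * v.b8 ^ 2 +
      u.b2 * u.b8 ^ 2 * σ u.b8 ^ 2 * σ v.a1 + σ u.b8 ^ 2 * σ v.a1 * v.b2 * v.b8 ^ 2 +
      u.b8 ^ 2 * σ u.b8 * σ v.a1 * v.b2 * σ v.b8 + u.b8 ^ 2 * σ u.b8 * v.a1 * σ v.a1 * v.a8 +
      u.b8 ^ 2 * σ u.b8 ^ 2 * σ v.a1 * v.b2,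
    a4 := u.a4 + v.a4 + σ u.a2 * v.a8 + u.a2 * v.a7 + σ u.a3 * v.b8 + u.a3 * v.b6 + u.a5 * v.b2 +
      u.a6 * v.a1 + σ u.b4 * v.b4 + u.a2 * v.b6 * v.b8 + u.a3 * v.b2 * σ v.b8 +
      σ u.a7 * v.a1 * v.b2 + u.a7 * σ u.b2 * v.b2 + u.a7 * u.b4 * v.a1 + u.a7 * u.b6 * σ v.a1 +
      u.a7 * σ v.a1 * v.b6 + σ u.b2 * v.a7 * v.b2 + σ u.b4 * σ v.a1 * v.a8 + u.b4 * v.a1 * v.a7 +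
      u.b4 * v.b2 * v.b6 + σ u.b6 * v.a1 * v.b6 + u.b6 * σ v.a1 * v.a7 +
      u.a2 * v.b2 * v.b8 * σ v.b8 + σ u.a7 * v.a1 ^ 2 * v.b8 + u.a7 * u.a8 * v.a1 * σ v.a1 +
      u.a7 * u.b2 * σ u.b8 * σ v.a1 + u.a7 * σ u.b8 * σ v.a1 * v.b2 +
      u.a7 * σ v.a1 * v.b2 * σ v.b8 + σ u.a8 * σ u.b2 * v.a1 * v.b2 + σ u.a8 * u.b4 * v.a1 ^ 2 +
      σ u.a8 * u.b6 * v.a1 * σ v.a1 + σ u.a8 * v.a1 * σ v.a1 * v.b6 + σ u.a8 * v.a1 ^ 2 * v.b4 +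
      u.a8 * σ u.b2 * v.b2 ^ 2 + u.a8 * u.b2 ^ 2 * σ v.b2 + u.a8 * u.b6 * σ v.a1 * v.b2 +
      u.a8 * σ v.a1 * v.b2 * v.b6 + u.a8 * v.a1 * σ v.a1 * v.a7 + u.a8 * v.b2 ^ 2 * σ v.b2 +
      σ u.b2 * v.b2 * v.b6 * v.b8 + u.b2 * σ u.b8 * σ v.a1 * v.a7 + u.b2 ^ 2 * u.b4 * σ v.b8 +
      u.b2 ^ 2 * v.a8 * σ v.b2 + u.b2 ^ 2 * v.b4 * σ v.b8 + u.b4 * v.a1 * v.b6 * v.b8 +
      σ u.b6 * v.a1 * v.b2 * σ v.b8 + σ u.b6 * v.a1 ^ 2 * v.a8 + u.b6 * σ v.a1 * v.b6 * v.b8 +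
      u.b6 ^ 2 * σ v.a1 * v.b8 + σ u.b8 * σ v.a1 * v.a7 * v.b2 +
      σ u.a8 * u.b2 * σ u.b8 * v.a1 * σ v.a1 + σ u.a8 * σ u.b8 * v.a1 * σ v.a1 * v.b2 +
      σ u.a8 * v.a1 * σ v.a1 * v.b2 * σ v.b8 + σ u.a8 * v.a1 ^ 2 * σ v.a1 * v.a8 +
      u.a8 * u.b2 * σ u.b8 * σ v.a1 * v.b2 + u.a8 * u.b2 ^ 2 * σ v.a1 * σ v.b8 +
      u.a8 * σ u.b8 * σ v.a1 * v.b2 ^ 2 + u.a8 * v.a1 * σ v.a1 * v.b6 * v.b8 +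
      u.a8 * σ u.a8 * v.a1 ^ 2 * σ v.a1 + u.a8 ^ 2 * v.a1 * σ v.a1 * v.b2 +
      σ u.b2 * σ u.b8 * v.b2 ^ 2 * v.b8 + u.b2 * σ u.b8 * σ v.a1 * v.b6 * v.b8 +
      u.b2 ^ 2 * σ u.b8 * σ v.b2 * v.b8 + u.b2 ^ 2 * σ u.b2 * σ u.b8 * v.b8 +
      u.b2 ^ 2 * σ u.b2 * v.b8 * σ v.b8 + u.b4 * v.a1 * v.b2 * v.b8 * σ v.b8 +
      u.b6 * σ v.a1 * v.b2 * v.b8 * σ v.b8 + σ u.b8 * σ v.a1 * v.b2 * v.b6 * v.b8 +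
      σ u.b8 * v.b2 ^ 2 * σ v.b2 * v.b8 + u.a8 * σ u.b2 * u.b8 ^ 2 * v.a1 ^ 2 +
      u.a8 * u.b8 ^ 2 * v.a1 ^ 2 * σ v.b2 + u.a8 * v.a1 * σ v.a1 * v.b2 * v.b8 * σ v.b8 +
      u.a8 ^ 2 * v.a1 ^ 2 * σ v.a1 * v.b8 + σ u.b2 * u.b8 ^ 2 * v.a1 ^ 2 * v.a8 +
      u.b2 * σ u.b8 * σ v.a1 * v.b2 * v.b8 * σ v.b8 + u.b2 ^ 2 * σ u.b8 * σ v.a1 * v.b8 * σ v.b8 +
      u.b2 ^ 2 * σ u.b8 ^ 2 * σ v.a1 * v.b8 + u.b4 * u.b8 ^ 2 * v.a1 ^ 2 * σ v.b8 +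
      u.b6 * u.b8 ^ 2 * σ u.b8 * v.a1 * σ v.a1 + σ u.b8 ^ 2 * σ v.a1 * v.b2 ^ 2 * v.b8 +
      u.b8 ^ 2 * v.a1 ^ 2 * v.a8 * σ v.b2 + u.b8 ^ 2 * v.a1 ^ 2 * v.b4 * σ v.b8 +
      u.b8 ^ 2 * σ u.b8 * v.a1 * σ v.a1 * v.b6 + u.a8 * u.b8 ^ 2 * v.a1 ^ 2 * σ v.a1 * σ v.b8 +
      u.a8 * u.b8 ^ 2 * σ u.b8 * v.a1 ^ 2 * σ v.a1 + σ u.b2 * u.b8 ^ 2 * v.a1 ^ 2 * v.b8 * σ v.b8 +
      σ u.b2 * u.b8 ^ 2 * σ u.b8 * v.a1 ^ 2 * v.b8 + u.b2 * u.b8 ^ 2 * σ u.b8 ^ 2 * v.a1 * σ v.a1 +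
      u.b8 ^ 2 * σ u.b8 * v.a1 * σ v.a1 * v.b2 * σ v.b8 +
      u.b8 ^ 2 * σ u.b8 * v.a1 ^ 2 * σ v.b2 * v.b8 + u.b8 ^ 2 * σ u.b8 ^ 2 * v.a1 * σ v.a1 * v.b2 +
      u.b8 ^ 2 * σ u.b8 * v.a1 ^ 2 * σ v.a1 * v.b8 * σ v.b8 }⟩

instance : Inv (UU K) := ⟨fun u =>
  { a1 := u.a1,
    b8 := u.b8,
    b2 := u.b2 + u.a1 * u.b8,
    a8 := u.a8 + u.b8 * σ u.b8,
    b6 := u.b6 + u.a1 * u.a8 + u.b2 * σ u.b8,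
    b4 := u.b4 + σ u.a1 * u.a8 + σ u.b2 * u.b8 + σ u.a1 * u.b8 * σ u.b8,
    a7 := u.a7 + u.a1 * σ u.a8 + u.a8 * u.b2 + u.b6 * u.b8,
    a2 := u.a2 + σ u.a1 * u.b6 + u.a1 * u.b4 + u.b2 * σ u.b2 + u.a1 * σ u.b2 * u.b8 +
      u.a1 * σ u.a1 * u.a8 + u.a1 * σ u.a1 * u.b8 * σ u.b8,
    a3 := u.a3 + σ u.a1 * u.a7 + u.a1 * σ u.b6 + u.a2 * u.b8 + u.b2 * u.b4 + σ u.a1 * u.a8 * u.b2 +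
      σ u.a1 * u.b6 * u.b8 + u.a1 * σ u.a1 * σ u.a8 + u.b2 * σ u.b2 * u.b8 +
      u.a1 * σ u.b2 * u.b8 ^ 2,
    a5 := u.a5 + u.a1 * σ u.a7 + u.a2 * u.a8 + u.a3 * σ u.b8 + u.a7 * σ u.b2 + u.b4 * u.b6 +
      σ u.a1 * u.a8 * u.b6 + u.a1 * σ u.a8 * σ u.b2 + u.a1 * σ u.b6 * σ u.b8 +
      u.a8 * u.b2 * σ u.b2 + σ u.b2 * u.b6 * u.b8 + u.b2 * u.b4 * σ u.b8 +
      σ u.a1 * u.b6 * u.b8 * σ u.b8 + u.a1 * σ u.a1 * u.a8 ^ 2 + u.a1 * σ u.b2 * u.b8 ^ 2 * σ u.b8 +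
      u.a1 * σ u.a1 * u.b8 ^ 2 * σ u.b8 ^ 2,
    a6 := u.a6 + u.a2 * σ u.a8 + u.a3 * u.a8 + u.a5 * u.b8 + σ u.a7 * u.b2 + u.a7 * u.b4 +
      u.b6 * σ u.b6 + σ u.a1 * σ u.a8 * u.b6 + u.a1 * σ u.a8 * u.b4 + u.a2 * u.a8 * u.b8 +
      u.a3 * u.b8 * σ u.b8 + u.a7 * σ u.b2 * u.b8 + u.a8 * u.b2 * u.b4 +
      u.a1 * σ u.a8 * σ u.b2 * u.b8 + u.a1 * σ u.a1 * u.a8 * σ u.a8 + u.a2 * u.b8 ^ 2 * σ u.b8 +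
      u.a8 * u.b2 * σ u.b2 * u.b8 + σ u.b2 * u.b6 * u.b8 ^ 2 + u.b2 * u.b4 * u.b8 * σ u.b8 +
      u.a1 * σ u.a1 * σ u.a8 * u.b8 * σ u.b8 + u.b2 * σ u.b2 * u.b8 ^ 2 * σ u.b8,
    a4 := u.a4 + u.a1 * u.a6 + σ u.a2 * u.a8 + u.a2 * u.a7 + σ u.a3 * u.b8 + u.a3 * u.b6 +
      u.a5 * u.b2 + u.b4 * σ u.b4 + σ u.a1 * u.a7 * u.b6 + u.a1 * u.a2 * σ u.a8 +
      u.a1 * u.a3 * u.a8 + u.a1 * u.a5 * u.b8 + u.a1 * σ u.a7 * u.b2 + u.a1 * u.b6 * σ u.b6 +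
      σ u.a2 * u.b8 * σ u.b8 + u.a2 * u.a8 * u.b2 + σ u.b2 * σ u.b4 * u.b8 + u.b2 * u.b4 * u.b6 +
      σ u.a1 * u.a8 * u.b2 * u.b6 + σ u.a1 * u.b6 ^ 2 * u.b8 + u.a1 * u.a2 * u.a8 * u.b8 +
      u.a1 * u.a3 * u.b8 * σ u.b8 + u.a1 * u.b4 * u.b6 * u.b8 + u.a1 * σ u.a1 * u.a7 * u.a8 +
      u.a1 * σ u.a1 * σ u.a8 * u.b6 + u.a1 ^ 2 * σ u.a8 * u.b4 + u.a8 * u.b2 ^ 2 * σ u.b2 +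
      u.b2 ^ 2 * u.b4 * σ u.b8 + u.a1 * u.a2 * u.b8 ^ 2 * σ u.b8 +
      u.a1 * u.b2 * u.b4 * u.b8 * σ u.b8 + u.a1 * σ u.a1 * u.a7 * u.b8 * σ u.b8 +
      u.a1 * σ u.a1 * u.a8 * u.b6 * u.b8 + u.a1 * σ u.a1 * u.a8 ^ 2 * u.b2 +
      u.a1 ^ 2 * σ u.a8 * σ u.b2 * u.b8 + u.a1 ^ 2 * σ u.a1 * u.a8 * σ u.a8 +
      u.a1 * u.b2 * σ u.b2 * u.b8 ^ 2 * σ u.b8 + u.a1 * σ u.a1 * u.a8 * u.b2 * u.b8 * σ u.b8 +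
      u.a1 * σ u.a1 * u.b6 * u.b8 ^ 2 * σ u.b8 + u.a1 ^ 2 * u.a8 * σ u.b2 * u.b8 ^ 2 +
      u.a1 ^ 2 * u.b4 * u.b8 ^ 2 * σ u.b8 + u.a1 ^ 2 * σ u.a1 * σ u.a8 * u.b8 * σ u.b8 }⟩

variable (u v w : UU K)

omit [TwF K] in
@[simp] theorem one_a1 : (1 : UU K).a1 = 0 := rfl
omit [TwF K] in
@[simp] theorem one_b8 : (1 : UU K).b8 = 0 := rfl
omit [TwF K] in
@[simp] theorem one_b2 : (1 : UU K).b2 = 0 := rfl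
omit [TwF K] in
@[simp] theorem one_a8 : (1 : UU K).a8 = 0 := rfl
omit [TwF K] in
@[simp] theorem one_b6 : (1 : UU K).b6 = 0 := rfl
omit [TwF K] in
@[simp] theorem one_b4 : (1 : UU K).b4 = 0 := rfl
omit [TwF K] in
@[simp] theorem one_a7 : (1 : UU K).a7 = 0 := rfl
omit [TwF K] in
@[simp] theorem one_a2 : (1 : UU K).a2 = 0 := rfl
omit [TwF K] in
@[simp] theorem one_a3 : (1 : UU K).a3 = 0 := rfl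
omit [TwF K] in
@[simp] theorem one_a5 : (1 : UU K).a5 = 0 := rfl
omit [TwF K] in
@[simp] theorem one_a6 : (1 : UU K).a6 = 0 := rfl
omit [TwF K] in
@[simp] theorem one_a4 : (1 : UU K).a4 = 0 := rfl

@[simp] theorem mul_a1 : (u * v).a1 =
    u.a1 + v.a1 := rfl
@[simp] theorem mul_b8 : (u * v).b8 =
    u.b8 + v.b8 := rfl
@[simp] theorem mul_b2 : (u * v).b2 =
    u.b2 + v.b2 + u.b8 * v.a1 := rfl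
@[simp] theorem mul_a8 : (u * v).a8 =
    u.a8 + v.a8 + σ u.b8 * v.b8 := rfl
@[simp] theorem mul_b6 : (u * v).b6 =
    u.b6 + v.b6 + u.a8 * v.a1 + u.b2 * σ v.b8 + u.b8 * v.a1 * σ v.b8 + u.b8 * σ u.b8 * v.a1 := rfl
@[simp] theorem mul_b4 : (u * v).b4 =
    u.b4 + v.b4 + u.a8 * σ v.a1 + σ u.b2 * v.b8 + σ u.b8 * σ v.a1 * v.b8 := rfl
@[simp] theorem mul_a7 : (u * v).a7 =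
    u.a7 + v.a7 + σ u.a8 * v.a1 + u.a8 * v.b2 + u.b6 * v.b8 + u.a8 * v.a1 * v.b8 +
      u.b2 * σ u.b8 * v.b8 + σ u.b8 * v.b2 * v.b8 + u.b8 ^ 2 * σ u.b8 * v.a1 := rfl
@[simp] theorem mul_a2 : (u * v).a2 =
    u.a2 + v.a2 + σ u.b2 * v.b2 + u.b4 * v.a1 + u.b6 * σ v.a1 + u.a8 * v.a1 * σ v.a1 +
      u.b2 * σ u.b8 * σ v.a1 + σ u.b8 * σ v.a1 * v.b2 := rfl
@[simp] theorem mul_a3 : (u * v).a3 =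
    u.a3 + v.a3 + u.a2 * v.b8 + u.a7 * σ v.a1 + u.b4 * v.b2 + σ u.b6 * v.a1 + σ u.a8 * v.a1 * σ v.a1 +
      u.a8 * σ v.a1 * v.b2 + σ u.b2 * v.b2 * v.b8 + u.b4 * v.a1 * v.b8 + u.b6 * σ v.a1 * v.b8 +
      u.a8 * v.a1 * σ v.a1 * v.b8 + u.b2 * σ u.b8 * σ v.a1 * v.b8 + σ u.b8 * σ v.a1 * v.b2 * v.b8 +
      u.b8 ^ 2 * σ u.b8 * v.a1 * σ v.a1 := rfl
@[simp] theorem mul_a5 : (u * v).a5 =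
    u.a5 + v.a5 + u.a2 * v.a8 + u.a3 * σ v.b8 + σ u.a7 * v.a1 + u.a7 * σ v.b2 + u.b4 * v.b6 +
      u.a2 * v.b8 * σ v.b8 + u.a7 * σ v.a1 * σ v.b8 + σ u.a8 * v.a1 * σ v.b2 +
      u.a8 * σ u.b2 * v.b2 + u.a8 * u.b6 * σ v.a1 + u.a8 * σ v.a1 * v.b6 + u.a8 * v.b2 * σ v.b2 +
      σ u.b2 * u.b6 * v.b8 + σ u.b2 * v.a8 * v.b2 + σ u.b2 * v.b6 * v.b8 + u.b4 * v.a1 * v.a8 +
      σ u.b6 * v.a1 * σ v.b8 + u.b6 * σ v.a1 * v.a8 + u.b6 * σ v.b2 * v.b8 +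
      σ u.a8 * v.a1 * σ v.a1 * σ v.b8 + u.a8 * σ u.b2 * v.a1 * v.b8 +
      u.a8 * u.b2 * σ u.b8 * σ v.a1 + u.a8 * σ u.b8 * σ v.a1 * v.b2 + u.a8 * v.a1 * σ v.b2 * v.b8 +
      u.a8 * v.a1 * σ v.a1 * v.a8 + u.a8 ^ 2 * v.a1 * σ v.a1 + σ u.b2 * σ u.b8 * v.b2 * v.b8 +
      u.b2 * σ u.b8 * σ v.a1 * v.a8 + u.b2 * σ u.b8 * σ v.b2 * v.b8 +
      u.b2 * σ u.b2 * σ u.b8 * v.b8 + u.b4 * v.a1 * v.b8 * σ v.b8 + u.b6 * σ u.b8 * σ v.a1 * v.b8 +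
      u.b6 * σ v.a1 * v.b8 * σ v.b8 + σ u.b8 * σ v.a1 * v.a8 * v.b2 +
      σ u.b8 * σ v.a1 * v.b6 * v.b8 + σ u.b8 * v.b2 * σ v.b2 * v.b8 +
      u.a8 * σ u.b8 * v.a1 * σ v.a1 * v.b8 + u.a8 * v.a1 * σ v.a1 * v.b8 * σ v.b8 +
      σ u.b2 * u.b8 ^ 2 * σ u.b8 * v.a1 + u.b2 * σ u.b8 * σ v.a1 * v.b8 * σ v.b8 +
      u.b2 * σ u.b8 ^ 2 * σ v.a1 * v.b8 + σ u.b8 ^ 2 * σ v.a1 * v.b2 * v.b8 +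
      u.b8 ^ 2 * σ u.b8 * v.a1 * σ v.b2 + u.b8 ^ 2 * σ u.b8 * v.a1 * σ v.a1 * σ v.b8 := rfl
@[simp] theorem mul_a6 : (u * v).a6 =
    u.a6 + v.a6 + u.a2 * σ v.a8 + u.a3 * v.a8 + u.a5 * v.b8 + σ u.a7 * v.b2 + u.a7 * v.b4 +
      σ u.b6 * v.b6 + u.a2 * v.a8 * v.b8 + σ u.a7 * v.a1 * v.b8 + u.a7 * σ v.a1 * v.a8 +
      σ u.a8 * σ u.b2 * v.b2 + σ u.a8 * u.b4 * v.a1 + σ u.a8 * u.b6 * σ v.a1 +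
      σ u.a8 * σ v.a1 * v.b6 + σ u.a8 * v.a1 * v.b4 + u.a8 * u.b4 * v.b2 + u.a8 * v.b2 * v.b4 +
      σ u.b2 * σ v.a8 * v.b2 + u.b4 * u.b6 * v.b8 + u.b4 * v.a1 * σ v.a8 + u.b4 * v.a8 * v.b2 +
      σ u.b6 * v.a1 * v.a8 + σ u.b6 * v.b2 * σ v.b8 + u.b6 * σ v.a1 * σ v.a8 + u.b6 * v.b4 * v.b8 +
      u.a2 * v.b8 ^ 2 * σ v.b8 + σ u.a8 * u.b2 * σ u.b8 * σ v.a1 + σ u.a8 * σ u.b8 * σ v.a1 * v.b2 +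
      σ u.a8 * σ v.a1 * v.b2 * σ v.b8 + σ u.a8 * v.a1 * σ v.a1 * v.a8 +
      u.a8 * σ u.b2 * v.b2 * v.b8 + u.a8 * u.b4 * v.a1 * v.b8 + u.a8 * σ v.a1 * v.a8 * v.b2 +
      u.a8 * v.a1 * v.b4 * v.b8 + u.a8 * v.a1 * σ v.a1 * σ v.a8 + u.a8 * σ u.a8 * v.a1 * σ v.a1 +
      σ u.b2 * u.b6 * v.b8 ^ 2 + σ u.b2 * v.a8 * v.b2 * v.b8 + σ u.b2 * v.b6 * v.b8 ^ 2 +
      u.b2 * u.b4 * σ u.b8 * v.b8 + u.b2 * σ u.b8 * σ v.a1 * σ v.a8 + u.b2 * σ u.b8 * v.b4 * v.b8 +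
      u.b4 * σ u.b8 * v.b2 * v.b8 + u.b4 * v.a1 * v.a8 * v.b8 + u.b6 * σ v.a1 * v.a8 * v.b8 +
      σ u.b8 * σ v.a1 * σ v.a8 * v.b2 + σ u.b8 * v.b2 * v.b4 * v.b8 +
      u.a8 * σ u.b2 * v.a1 * v.b8 ^ 2 + u.a8 * v.a1 * σ v.a1 * v.a8 * v.b8 +
      σ u.b2 * σ u.b8 * v.b2 * v.b8 ^ 2 + u.b2 * σ u.b8 * σ v.a1 * v.a8 * v.b8 +
      u.b2 * σ u.b2 * σ u.b8 * v.b8 ^ 2 + u.b4 * u.b8 ^ 2 * σ u.b8 * v.a1 +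
      u.b4 * v.a1 * v.b8 ^ 2 * σ v.b8 + u.b6 * σ u.b8 * σ v.a1 * v.b8 ^ 2 +
      u.b6 * u.b8 ^ 2 * σ u.b8 * σ v.a1 + u.b6 * σ v.a1 * v.b8 ^ 2 * σ v.b8 +
      σ u.b8 * σ v.a1 * v.a8 * v.b2 * v.b8 + σ u.b8 * σ v.a1 * v.b6 * v.b8 ^ 2 +
      u.b8 ^ 2 * σ u.b8 * σ v.a1 * v.b6 + u.b8 ^ 2 * σ u.b8 * v.a1 * v.b4 +
      u.a8 * σ u.b8 * v.a1 * σ v.a1 * v.b8 ^ 2 + u.a8 * u.b8 ^ 2 * σ u.b8 * v.a1 * σ v.a1 +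
      u.a8 * v.a1 * σ v.a1 * v.b8 ^ 2 * σ v.b8 + σ u.b2 * u.b8 ^ 2 * σ u.b8 * v.a1 * v.b8 +
      u.b2 * σ u.b8 * σ v.a1 * v.b8 ^ 2 * σ v.b8 + u.b2 * σ u.b8 ^ 2 * σ v.a1 * v.b8 ^ 2 +
      u.b2 * u.b8 ^ 2 * σ u.b8 ^ 2 * σ v.a1 + σ u.b8 ^ 2 * σ v.a1 * v.b2 * v.b8 ^ 2 +
      u.b8 ^ 2 * σ u.b8 * σ v.a1 * v.b2 * σ v.b8 + u.b8 ^ 2 * σ u.b8 * v.a1 * σ v.a1 * v.a8 +
      u.b8 ^ 2 * σ u.b8 ^ 2 * σ v.a1 * v.b2 := rfl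
@[simp] theorem mul_a4 : (u * v).a4 =
    u.a4 + v.a4 + σ u.a2 * v.a8 + u.a2 * v.a7 + σ u.a3 * v.b8 + u.a3 * v.b6 + u.a5 * v.b2 +
      u.a6 * v.a1 + σ u.b4 * v.b4 + u.a2 * v.b6 * v.b8 + u.a3 * v.b2 * σ v.b8 +
      σ u.a7 * v.a1 * v.b2 + u.a7 * σ u.b2 * v.b2 + u.a7 * u.b4 * v.a1 + u.a7 * u.b6 * σ v.a1 +
      u.a7 * σ v.a1 * v.b6 + σ u.b2 * v.a7 * v.b2 + σ u.b4 * σ v.a1 * v.a8 + u.b4 * v.a1 * v.a7 +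
      u.b4 * v.b2 * v.b6 + σ u.b6 * v.a1 * v.b6 + u.b6 * σ v.a1 * v.a7 +
      u.a2 * v.b2 * v.b8 * σ v.b8 + σ u.a7 * v.a1 ^ 2 * v.b8 + u.a7 * u.a8 * v.a1 * σ v.a1 +
      u.a7 * u.b2 * σ u.b8 * σ v.a1 + u.a7 * σ u.b8 * σ v.a1 * v.b2 +
      u.a7 * σ v.a1 * v.b2 * σ v.b8 + σ u.a8 * σ u.b2 * v.a1 * v.b2 + σ u.a8 * u.b4 * v.a1 ^ 2 +
      σ u.a8 * u.b6 * v.a1 * σ v.a1 + σ u.a8 * v.a1 * σ v.a1 * v.b6 + σ u.a8 * v.a1 ^ 2 * v.b4 +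
      u.a8 * σ u.b2 * v.b2 ^ 2 + u.a8 * u.b2 ^ 2 * σ v.b2 + u.a8 * u.b6 * σ v.a1 * v.b2 +
      u.a8 * σ v.a1 * v.b2 * v.b6 + u.a8 * v.a1 * σ v.a1 * v.a7 + u.a8 * v.b2 ^ 2 * σ v.b2 +
      σ u.b2 * v.b2 * v.b6 * v.b8 + u.b2 * σ u.b8 * σ v.a1 * v.a7 + u.b2 ^ 2 * u.b4 * σ v.b8 +
      u.b2 ^ 2 * v.a8 * σ v.b2 + u.b2 ^ 2 * v.b4 * σ v.b8 + u.b4 * v.a1 * v.b6 * v.b8 +
      σ u.b6 * v.a1 * v.b2 * σ v.b8 + σ u.b6 * v.a1 ^ 2 * v.a8 + u.b6 * σ v.a1 * v.b6 * v.b8 +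
      u.b6 ^ 2 * σ v.a1 * v.b8 + σ u.b8 * σ v.a1 * v.a7 * v.b2 +
      σ u.a8 * u.b2 * σ u.b8 * v.a1 * σ v.a1 + σ u.a8 * σ u.b8 * v.a1 * σ v.a1 * v.b2 +
      σ u.a8 * v.a1 * σ v.a1 * v.b2 * σ v.b8 + σ u.a8 * v.a1 ^ 2 * σ v.a1 * v.a8 +
      u.a8 * u.b2 * σ u.b8 * σ v.a1 * v.b2 + u.a8 * u.b2 ^ 2 * σ v.a1 * σ v.b8 +
      u.a8 * σ u.b8 * σ v.a1 * v.b2 ^ 2 + u.a8 * v.a1 * σ v.a1 * v.b6 * v.b8 +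
      u.a8 * σ u.a8 * v.a1 ^ 2 * σ v.a1 + u.a8 ^ 2 * v.a1 * σ v.a1 * v.b2 +
      σ u.b2 * σ u.b8 * v.b2 ^ 2 * v.b8 + u.b2 * σ u.b8 * σ v.a1 * v.b6 * v.b8 +
      u.b2 ^ 2 * σ u.b8 * σ v.b2 * v.b8 + u.b2 ^ 2 * σ u.b2 * σ u.b8 * v.b8 +
      u.b2 ^ 2 * σ u.b2 * v.b8 * σ v.b8 + u.b4 * v.a1 * v.b2 * v.b8 * σ v.b8 +
      u.b6 * σ v.a1 * v.b2 * v.b8 * σ v.b8 + σ u.b8 * σ v.a1 * v.b2 * v.b6 * v.b8 +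
      σ u.b8 * v.b2 ^ 2 * σ v.b2 * v.b8 + u.a8 * σ u.b2 * u.b8 ^ 2 * v.a1 ^ 2 +
      u.a8 * u.b8 ^ 2 * v.a1 ^ 2 * σ v.b2 + u.a8 * v.a1 * σ v.a1 * v.b2 * v.b8 * σ v.b8 +
      u.a8 ^ 2 * v.a1 ^ 2 * σ v.a1 * v.b8 + σ u.b2 * u.b8 ^ 2 * v.a1 ^ 2 * v.a8 +
      u.b2 * σ u.b8 * σ v.a1 * v.b2 * v.b8 * σ v.b8 + u.b2 ^ 2 * σ u.b8 * σ v.a1 * v.b8 * σ v.b8 +
      u.b2 ^ 2 * σ u.b8 ^ 2 * σ v.a1 * v.b8 + u.b4 * u.b8 ^ 2 * v.a1 ^ 2 * σ v.b8 +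
      u.b6 * u.b8 ^ 2 * σ u.b8 * v.a1 * σ v.a1 + σ u.b8 ^ 2 * σ v.a1 * v.b2 ^ 2 * v.b8 +
      u.b8 ^ 2 * v.a1 ^ 2 * v.a8 * σ v.b2 + u.b8 ^ 2 * v.a1 ^ 2 * v.b4 * σ v.b8 +
      u.b8 ^ 2 * σ u.b8 * v.a1 * σ v.a1 * v.b6 + u.a8 * u.b8 ^ 2 * v.a1 ^ 2 * σ v.a1 * σ v.b8 +
      u.a8 * u.b8 ^ 2 * σ u.b8 * v.a1 ^ 2 * σ v.a1 + σ u.b2 * u.b8 ^ 2 * v.a1 ^ 2 * v.b8 * σ v.b8 +
      σ u.b2 * u.b8 ^ 2 * σ u.b8 * v.a1 ^ 2 * v.b8 + u.b2 * u.b8 ^ 2 * σ u.b8 ^ 2 * v.a1 * σ v.a1 +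
      u.b8 ^ 2 * σ u.b8 * v.a1 * σ v.a1 * v.b2 * σ v.b8 +
      u.b8 ^ 2 * σ u.b8 * v.a1 ^ 2 * σ v.b2 * v.b8 + u.b8 ^ 2 * σ u.b8 ^ 2 * v.a1 * σ v.a1 * v.b2 +
      u.b8 ^ 2 * σ u.b8 * v.a1 ^ 2 * σ v.a1 * v.b8 * σ v.b8 := rfl

@[simp] theorem inv_a1 : u⁻¹.a1 =
    u.a1 := rfl
@[simp] theorem inv_b8 : u⁻¹.b8 =
    u.b8 := rfl
@[simp] theorem inv_b2 : u⁻¹.b2 =
    u.b2 + u.a1 * u.b8 := rfl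
@[simp] theorem inv_a8 : u⁻¹.a8 =
    u.a8 + u.b8 * σ u.b8 := rfl
@[simp] theorem inv_b6 : u⁻¹.b6 =
    u.b6 + u.a1 * u.a8 + u.b2 * σ u.b8 := rfl
@[simp] theorem inv_b4 : u⁻¹.b4 =
    u.b4 + σ u.a1 * u.a8 + σ u.b2 * u.b8 + σ u.a1 * u.b8 * σ u.b8 := rfl
@[simp] theorem inv_a7 : u⁻¹.a7 =
    u.a7 + u.a1 * σ u.a8 + u.a8 * u.b2 + u.b6 * u.b8 := rfl
@[simp] theorem inv_a2 : u⁻¹.a2 =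
    u.a2 + σ u.a1 * u.b6 + u.a1 * u.b4 + u.b2 * σ u.b2 + u.a1 * σ u.b2 * u.b8 + u.a1 * σ u.a1 * u.a8 +
      u.a1 * σ u.a1 * u.b8 * σ u.b8 := rfl
@[simp] theorem inv_a3 : u⁻¹.a3 =
    u.a3 + σ u.a1 * u.a7 + u.a1 * σ u.b6 + u.a2 * u.b8 + u.b2 * u.b4 + σ u.a1 * u.a8 * u.b2 +
      σ u.a1 * u.b6 * u.b8 + u.a1 * σ u.a1 * σ u.a8 + u.b2 * σ u.b2 * u.b8 +
      u.a1 * σ u.b2 * u.b8 ^ 2 := rfl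
@[simp] theorem inv_a5 : u⁻¹.a5 =
    u.a5 + u.a1 * σ u.a7 + u.a2 * u.a8 + u.a3 * σ u.b8 + u.a7 * σ u.b2 + u.b4 * u.b6 +
      σ u.a1 * u.a8 * u.b6 + u.a1 * σ u.a8 * σ u.b2 + u.a1 * σ u.b6 * σ u.b8 +
      u.a8 * u.b2 * σ u.b2 + σ u.b2 * u.b6 * u.b8 + u.b2 * u.b4 * σ u.b8 +
      σ u.a1 * u.b6 * u.b8 * σ u.b8 + u.a1 * σ u.a1 * u.a8 ^ 2 + u.a1 * σ u.b2 * u.b8 ^ 2 * σ u.b8 +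
      u.a1 * σ u.a1 * u.b8 ^ 2 * σ u.b8 ^ 2 := rfl
@[simp] theorem inv_a6 : u⁻¹.a6 =
    u.a6 + u.a2 * σ u.a8 + u.a3 * u.a8 + u.a5 * u.b8 + σ u.a7 * u.b2 + u.a7 * u.b4 + u.b6 * σ u.b6 +
      σ u.a1 * σ u.a8 * u.b6 + u.a1 * σ u.a8 * u.b4 + u.a2 * u.a8 * u.b8 + u.a3 * u.b8 * σ u.b8 +
      u.a7 * σ u.b2 * u.b8 + u.a8 * u.b2 * u.b4 + u.a1 * σ u.a8 * σ u.b2 * u.b8 +
      u.a1 * σ u.a1 * u.a8 * σ u.a8 + u.a2 * u.b8 ^ 2 * σ u.b8 + u.a8 * u.b2 * σ u.b2 * u.b8 +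
      σ u.b2 * u.b6 * u.b8 ^ 2 + u.b2 * u.b4 * u.b8 * σ u.b8 +
      u.a1 * σ u.a1 * σ u.a8 * u.b8 * σ u.b8 + u.b2 * σ u.b2 * u.b8 ^ 2 * σ u.b8 := rfl
@[simp] theorem inv_a4 : u⁻¹.a4 =
    u.a4 + u.a1 * u.a6 + σ u.a2 * u.a8 + u.a2 * u.a7 + σ u.a3 * u.b8 + u.a3 * u.b6 + u.a5 * u.b2 +
      u.b4 * σ u.b4 + σ u.a1 * u.a7 * u.b6 + u.a1 * u.a2 * σ u.a8 + u.a1 * u.a3 * u.a8 +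
      u.a1 * u.a5 * u.b8 + u.a1 * σ u.a7 * u.b2 + u.a1 * u.b6 * σ u.b6 + σ u.a2 * u.b8 * σ u.b8 +
      u.a2 * u.a8 * u.b2 + σ u.b2 * σ u.b4 * u.b8 + u.b2 * u.b4 * u.b6 +
      σ u.a1 * u.a8 * u.b2 * u.b6 + σ u.a1 * u.b6 ^ 2 * u.b8 + u.a1 * u.a2 * u.a8 * u.b8 +
      u.a1 * u.a3 * u.b8 * σ u.b8 + u.a1 * u.b4 * u.b6 * u.b8 + u.a1 * σ u.a1 * u.a7 * u.a8 +
      u.a1 * σ u.a1 * σ u.a8 * u.b6 + u.a1 ^ 2 * σ u.a8 * u.b4 + u.a8 * u.b2 ^ 2 * σ u.b2 +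
      u.b2 ^ 2 * u.b4 * σ u.b8 + u.a1 * u.a2 * u.b8 ^ 2 * σ u.b8 +
      u.a1 * u.b2 * u.b4 * u.b8 * σ u.b8 + u.a1 * σ u.a1 * u.a7 * u.b8 * σ u.b8 +
      u.a1 * σ u.a1 * u.a8 * u.b6 * u.b8 + u.a1 * σ u.a1 * u.a8 ^ 2 * u.b2 +
      u.a1 ^ 2 * σ u.a8 * σ u.b2 * u.b8 + u.a1 ^ 2 * σ u.a1 * u.a8 * σ u.a8 +
      u.a1 * u.b2 * σ u.b2 * u.b8 ^ 2 * σ u.b8 + u.a1 * σ u.a1 * u.a8 * u.b2 * u.b8 * σ u.b8 +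
      u.a1 * σ u.a1 * u.b6 * u.b8 ^ 2 * σ u.b8 + u.a1 ^ 2 * u.a8 * σ u.b2 * u.b8 ^ 2 +
      u.a1 ^ 2 * u.b4 * u.b8 ^ 2 * σ u.b8 + u.a1 ^ 2 * σ u.a1 * σ u.a8 * u.b8 * σ u.b8 := rfl

set_option linter.unusedSimpArgs false
set_option maxRecDepth 100000

theorem assoc_a1 : (u * v * w).a1 = (u * (v * w)).a1 := by
  simp only [mul_a1, mul_b8, mul_b2, mul_a8, mul_b6, mul_b4, mul_a7, mul_a2, mul_a3, mul_a5, mul_a6, mul_a4,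
    map_add, map_mul, map_pow, σσ]
  grind (ringSteps := 100000000)

theorem assoc_b8 : (u * v * w).b8 = (u * (v * w)).b8 := by
  simp only [mul_a1, mul_b8, mul_b2, mul_a8, mul_b6, mul_b4, mul_a7, mul_a2, mul_a3, mul_a5, mul_a6, mul_a4,
    map_add, map_mul, map_pow, σσ]
  grind (ringSteps := 100000000)

theorem assoc_b2 : (u * v * w).b2 = (u * (v * w)).b2 := by
  simp only [mul_a1, mul_b8, mul_b2, mul_a8, mul_b6, mul_b4, mul_a7, mul_a2, mul_a3, mul_a5, mul_a6, mul_a4,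
    map_add, map_mul, map_pow, σσ]
  grind (ringSteps := 100000000)

theorem assoc_a8 : (u * v * w).a8 = (u * (v * w)).a8 := by
  simp only [mul_a1, mul_b8, mul_b2, mul_a8, mul_b6, mul_b4, mul_a7, mul_a2, mul_a3, mul_a5, mul_a6, mul_a4,
    map_add, map_mul, map_pow, σσ]
  grind (ringSteps := 100000000)

theorem assoc_b6 : (u * v * w).b6 = (u * (v * w)).b6 := by
  simp only [mul_a1, mul_b8, mul_b2, mul_a8, mul_b6, mul_b4, mul_a7, mul_a2, mul_a3, mul_a5, mul_a6, mul_a4,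
    map_add, map_mul, map_pow, σσ]
  grind (ringSteps := 100000000)

theorem assoc_b4 : (u * v * w).b4 = (u * (v * w)).b4 := by
  simp only [mul_a1, mul_b8, mul_b2, mul_a8, mul_b6, mul_b4, mul_a7, mul_a2, mul_a3, mul_a5, mul_a6, mul_a4,
    map_add, map_mul, map_pow, σσ]
  grind (ringSteps := 100000000)

theorem assoc_a7 : (u * v * w).a7 = (u * (v * w)).a7 := by
  simp only [mul_a1, mul_b8, mul_b2, mul_a8, mul_b6, mul_b4, mul_a7, mul_a2, mul_a3, mul_a5, mul_a6, mul_a4,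
    map_add, map_mul, map_pow, σσ]
  grind (ringSteps := 100000000)

theorem assoc_a2 : (u * v * w).a2 = (u * (v * w)).a2 := by
  simp only [mul_a1, mul_b8, mul_b2, mul_a8, mul_b6, mul_b4, mul_a7, mul_a2, mul_a3, mul_a5, mul_a6, mul_a4,
    map_add, map_mul, map_pow, σσ]
  grind (ringSteps := 100000000)

theorem assoc_a3 : (u * v * w).a3 = (u * (v * w)).a3 := by
  simp only [mul_a1, mul_b8, mul_b2, mul_a8, mul_b6, mul_b4, mul_a7, mul_a2, mul_a3, mul_a5, mul_a6, mul_a4,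
    map_add, map_mul, map_pow, σσ]
  grind (ringSteps := 100000000)

theorem assoc_a5 : (u * v * w).a5 = (u * (v * w)).a5 := by
  simp only [mul_a1, mul_b8, mul_b2, mul_a8, mul_b6, mul_b4, mul_a7, mul_a2, mul_a3, mul_a5, mul_a6, mul_a4,
    map_add, map_mul, map_pow, σσ]
  grind (ringSteps := 100000000)

theorem assoc_a6 : (u * v * w).a6 = (u * (v * w)).a6 := by
  simp only [mul_a1, mul_b8, mul_b2, mul_a8, mul_b6, mul_b4, mul_a7, mul_a2, mul_a3, mul_a5, mul_a6, mul_a4,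
    map_add, map_mul, map_pow, σσ]
  grind (ringSteps := 100000000)

end UU

end Cfsg.Lib.Oct
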